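import Cfsg.Agent.Lib.CyclicOddSylow16.SDNon.Outer
import Cfsg.Agent.Lib.PSolvable.Core
import Cfsg.Agent.S0225

/-!
# S4069, brick SD NONSOLVABLE: centralisers of regular elements of the split torus, and the case `3 ∤ tor2`
-/

set_option autoImplicit false

namespace Cfsg.Agent.Lib.CyclicOddSylow16.SDNon

open Subgroup
open scoped Pointwise

universe u

variable {G : Type u} [Group G] [Finite G]

theorem mem_zpowers_of_prime {r : ℕ} (hr : r.Prime) {a b : G} (ha : orderOf a = r) (hb : orderOf b = r)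
    (h : a ∈ zpowers b) : b ∈ zpowers a := by
  have he : zpowers a = zpowers b :=
    eq_of_le_of_card_ge (zpowers_le.2 h) (by rw [Nat.card_zpowers, Nat.card_zpowers, ha, hb])
  rw [he]; exact mem_zpowers b

namespace Ctx

variable (c : Ctx G)

theorem decomp_unique {x x' l l' : G} (hx : x ∈ c.X) (hx' : x' ∈ c.X) (hl : l ∈ c.L) (hl' : l' ∈ c.L)
    (h : x * l = x' * l') : x = x' ∧ l = l' := by
  have e : x'⁻¹ * x = l' * l⁻¹ := by
    rw [inv_mul_eq_iff_eq_mul, ← mul_assoc, ← h, mul_inv_cancel_right]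
  have h1 : x'⁻¹ * x = 1 :=
    c.inf_XL (mul_mem (inv_mem hx') hx) (e ▸ mul_mem hl' (inv_mem hl))
  have hxx : x = x' := (inv_mul_eq_one.1 h1).symm
  subst hxx
  exact ⟨rfl, mul_left_cancel h⟩

/-- The centraliser of an element of odd prime order in the torus of `i` lies in the centraliser of `t`. -/
theorem cent_le (hC : CommonStmt.{u}) {z : G} (hz : z ∈ c.L) {r : ℕ} (hr : r.Prime) (hr2 : r ≠ 2)
    (hzo : orderOf z = r) (hrt : r ∣ tor4 c.p) (hzi : z * c.i = c.i * z) :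
    ∀ w : G, w * z = z * w → c.InH w := by
  have h2z : 2 < orderOf z := by rw [hzo]; exact lt_of_le_of_ne hr.two_le hr2.symm
  obtain ⟨hcyc, -⟩ := c.torus_four hz h2z (by rw [hzo]; exact hrt)
  haveI : Fact (Nat.Prime 2) := ⟨Nat.prime_two⟩
  -- the only involution of `C(z)` commuting with `t` is `t`
  have huniq : ∀ u, c.InH u → u * u = 1 → u * z = z * u → u = 1 ∨ u = c.t := by
    intro u hu huu huz
    by_cases hxl : u ∈ c.XL
    · exact c.eq_t_of_sq (c.two_mem_L (k := 1) hxl (by rw [pow_one, pow_two, huu])) huu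
    · exfalso
      have h1 : u * c.i * u⁻¹ = c.i :=
        c.fix_torus hu hz h2z c.i_mem hzi.symm (mul_inv_eq_iff_eq_mul.2 huz)
      have h2 := c.out_no_four hu hxl huu (c.L_le_XL c.i_mem)
        (by rw [← c.orderOf_i, pow_orderOf_eq_one]) (mul_inv_eq_iff_eq_mul.1 h1)
      rw [c.i_sq] at h2
      exact c.t_ne_one h2
  set K := centralizer ({z} : Set G) with hKdef
  have hmemK : ∀ {a : G}, a ∈ K ↔ a * z = z * a := mem_centralizer_singleton_iff
  have htK : c.t ∈ K := hmemK.2 (c.L_le z hz).symm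
  have hiK : c.i ∈ K := hmemK.2 hzi.symm
  set t' : K := ⟨c.t, htK⟩ with ht'
  have ht'o : orderOf t' = 2 := by rw [ht', Subgroup.orderOf_mk]; exact c.orderOf_t
  obtain ⟨P, hP⟩ := (IsPGroup.of_card (p := 2) (n := 1)
    (by rw [Nat.card_zpowers, ht'o, pow_one]) : IsPGroup 2 (zpowers t')).exists_le_sylow
  have htP : t' ∈ (P : Subgroup K) := hP (mem_zpowers _)
  have hP1 : ∀ a ∈ (P : Subgroup K), a * a = 1 → a = 1 ∨ a = t' := by
    intro a ha haa
    haveI : Nontrivial (P : Subgroup K) :=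
      ⟨⟨t', htP⟩, 1, fun e => ne_one_of_orderOf ht'o one_lt_two (congrArg Subtype.val e)⟩
    haveI := P.2.center_nontrivial
    obtain ⟨n, hn⟩ := (P.2.to_subgroup (center (P : Subgroup K))).exists_card_eq
    have hn0 : n ≠ 0 := by
      rintro rfl
      exact absurd hn (Finite.one_lt_card.ne')
    obtain ⟨ζ, hζ⟩ := exists_prime_orderOf_dvd_card' (G := center (P : Subgroup K)) 2
      (hn ▸ dvd_pow_self 2 hn0)
    have hζo : orderOf (((ζ : (P : Subgroup K)) : K) : G) = 2 := by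
      rw [orderOf_coe, orderOf_coe, orderOf_coe]; exact hζ
    have hcomm : ∀ b : (P : Subgroup K), b * (ζ : (P : Subgroup K)) = (ζ : (P : Subgroup K)) * b :=
      fun b => mem_center_iff.1 ζ.2 b
    have hζt : ((ζ : (P : Subgroup K)) : K) = t' := by
      have h1 := congrArg (fun q : (P : Subgroup K) => ((q : K) : G)) (hcomm ⟨t', htP⟩)
      rcases huniq _ (show c.InH (((ζ : (P : Subgroup K)) : K) : G) from h1.symm)
        (mul_self_of_orderOf_two hζo) (hmemK.1 ((ζ : (P : Subgroup K)) : K).2) with e | e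
      · exact absurd e (ne_one_of_orderOf hζo one_lt_two)
      · exact Subtype.ext e
    have h2 := congrArg (fun q : (P : Subgroup K) => ((q : K) : G)) (hcomm ⟨a, ha⟩)
    simp only [coe_mul, hζt] at h2
    rcases huniq (a : G) h2 (congrArg Subtype.val haa) (hmemK.1 a.2) with e | e
    · exact Or.inl (Subtype.ext e)
    · exact Or.inr (Subtype.ext e)
  have heven : Even (Nat.card K) := even_iff_two_dvd.2 (ht'o ▸ orderOf_dvd_natCard t')
  have hrank : ∀ E : Subgroup K, ¬ IsKleinFour E := by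
    intro E hE
    haveI := hE
    obtain ⟨Q, hQ⟩ := (IsPGroup.of_card (p := 2) (n := 2)
      (by rw [IsKleinFour.card_four]; norm_num) : IsPGroup 2 E).exists_le_sylow
    obtain ⟨k, hk⟩ := MulAction.exists_smul_eq K Q P
    have hin : ∀ a : E, k * (a : K) * k⁻¹ = 1 ∨ k * (a : K) * k⁻¹ = t' := by
      intro a
      refine hP1 _ ?_ ?_
      · rw [← hk]; exact smul_mem_pointwise_smul _ _ _ (hQ a.2)
      · have haa : (a : K) * (a : K) = 1 := congrArg Subtype.val (IsKleinFour.mul_self a)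
        calc k * (a : K) * k⁻¹ * (k * (a : K) * k⁻¹) = k * ((a : K) * (a : K)) * k⁻¹ := by group
          _ = 1 := by rw [haa]; group
    have hle : Nat.card E ≤ 2 := by
      haveI : Fintype E := Fintype.ofFinite _
      classical
      rw [Nat.card_eq_fintype_card, ← Finset.card_univ]
      refine (Finset.card_le_card_of_injOn (fun a : E => k * (a : K) * k⁻¹) (t := {1, t'}) ?_ ?_).trans
        Finset.card_le_two
      · intro a _
        rcases hin a with e | e <;> simp [e]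
      · intro a _ b _ h
        exact Subtype.ext (mul_left_cancel (mul_right_cancel h))
    rw [IsKleinFour.card_four] at hle
    omega
  obtain ⟨z₀, hz₀, N, hN, hNodd, hNz₀⟩ := Cfsg.Agent.S0225.result heven hrank
  obtain ⟨Q, hQ⟩ := (IsPGroup.of_card (p := 2) (n := 1)
    (by rw [Nat.card_zpowers, hz₀, pow_one]) : IsPGroup 2 (zpowers z₀)).exists_le_sylow
  obtain ⟨k, hk⟩ := MulAction.exists_smul_eq K Q P
  have hkz : k * z₀ * k⁻¹ = t' := by
    refine (hP1 _ ?_ ?_).resolve_left fun e => ne_one_of_orderOf hz₀ one_lt_two (by simpa using e)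
    · rw [← hk]; exact smul_mem_pointwise_smul _ _ _ (hQ (mem_zpowers _))
    · rw [show k * z₀ * k⁻¹ * (k * z₀ * k⁻¹) = k * (z₀ * z₀) * k⁻¹ by group,
        mul_self_of_orderOf_two hz₀]
      group
  have hNt : ∀ w : K, w * t' * w⁻¹ * t'⁻¹ ∈ N := by
    intro w
    have h1 := hN.conj_mem _ (inv_mem (hNz₀ (k⁻¹ * w * k))) k
    rw [← hkz]
    convert h1 using 1
    group
  -- the odd core
  set M := (pPrimeCore 2 K).map K.subtype with hM
  have hModd : Odd (Nat.card M) := by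
    rw [hM, card_map_of_injective K.subtype_injective]
    exact Nat.coprime_two_right.1 PSolvable.pPrimeCore_coprime
  have hNle : N ≤ pPrimeCore 2 K :=
    PSolvable.le_pPrimeCore (Nat.coprime_two_right.2 hNodd)
  have hMK : ∀ {a : G}, a ∈ M → a ∈ K := fun ha => by
    obtain ⟨b, -, rfl⟩ := ha; exact b.2
  have hinv : ∀ a : G, (∀ b ∈ K, a * b * a⁻¹ ∈ K) → ∀ m ∈ M, a * m * a⁻¹ ∈ M := by
    intro a ha m hm
    obtain ⟨m', hm', rfl⟩ := hm
    let f : K →* K :=
      { toFun := fun b => ⟨a * b * a⁻¹, ha b b.2⟩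
        map_one' := Subtype.ext (by simp)
        map_mul' := fun b b' => Subtype.ext (by simp [mul_assoc]) }
    have hf : Function.Bijective f :=
      Finite.injective_iff_bijective.1 fun b b' h => Subtype.ext
        (mul_left_cancel (mul_right_cancel (congrArg Subtype.val h)))
    have h1 : f m' ∈ (pPrimeCore 2 K).map (MulEquiv.ofBijective f hf).toMonoidHom := ⟨m', hm', rfl⟩
    rw [PSolvable.map_pPrimeCore_equiv] at h1
    exact ⟨f m', h1, rfl⟩
  have hτz : c.τ * z * c.τ⁻¹ = z⁻¹ :=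
    c.inv_torus c.inH_τ c.i_mem (by rw [c.orderOf_i]; norm_num) hz hzi c.τ_i
  have hτK : ∀ b ∈ K, c.τ * b * c.τ⁻¹ ∈ K := by
    intro b hb
    rw [hmemK] at hb ⊢
    have h1 : Commute (c.τ * b * c.τ⁻¹) (c.τ * z * c.τ⁻¹) :=
      Commute.map hb (MulAut.conj c.τ).toMonoidHom
    rw [hτz] at h1
    exact (Commute.inv_right_iff.1 h1).eq
  have hcK : ∀ a ∈ K, ∀ b ∈ K, a * b * a⁻¹ ∈ K := fun a ha b hb => mul_mem (mul_mem ha hb) (inv_mem ha)
  set A := c.four c.τ c.inH_τ c.oτ with hA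
  have hAM : A ≤ normalizer (M : Set G) := by
    intro v hv
    refine mem_normalizer_fintype fun m hm => ?_
    rcases c.mem_four.1 hv with rfl | rfl | rfl | rfl
    · rw [one_mul, inv_one, mul_one]; exact hm
    · exact hinv _ (hcK _ htK) m hm
    · exact hinv _ hτK m hm
    · rw [show c.t * c.τ * m * (c.t * c.τ)⁻¹ = c.t * (c.τ * m * c.τ⁻¹) * c.t⁻¹ by group]
      exact hinv _ (hcK _ htK) _ (hinv _ hτK m hm)
  have hfix : ∀ w ∈ M, (∀ v ∈ A, v * w = w * v) → w = 1 := by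
    intro w hw hcw
    have hwH : c.InH w := (hcw c.t (Or.inr (Or.inl rfl))).symm
    have hwo := odd_orderOf_mem hModd hw
    obtain ⟨x, hx, l, hl, rfl⟩ := c.odd_mem_XL hwH hwo
    have hτw := hcw c.τ (Or.inr (Or.inr (Or.inl rfl)))
    obtain ⟨e1, e2⟩ := c.decomp_unique (c.X_norm _ c.inH_τ x hx) hx (c.L_norm _ c.inH_τ l hl) hl
      (show c.τ * x * c.τ⁻¹ * (c.τ * l * c.τ⁻¹) = x * l by
        calc c.τ * x * c.τ⁻¹ * (c.τ * l * c.τ⁻¹) = c.τ * (x * l) * c.τ⁻¹ := by group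
          _ = x * l := by rw [hτw, mul_inv_cancel_right])
    have hx1 : x = 1 := c.X_out c.inH_τ c.τ_not_XL c.oτ hx (mul_inv_eq_iff_eq_mul.1 e1)
    subst hx1
    rw [one_mul] at hw hwo ⊢
    refine eq_one_of_odd_self_inv hwo ?_
    rw [← c.inv_torus c.inH_τ hz h2z hl (hmemK.1 (hMK hw)) hτz, e2]
  have hAp : IsPGroup 2 A := c.four_isPGroup c.inH_τ c.oτ c.τ_not_XL
  haveI : IsCyclic M := hC.2.2.2.2.1 G c.amb.hyp.1 M A hModd hAp hAM hfix
  -- `t = i * i` centralises `M`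
  let fi : M →* M :=
    { toFun := fun m => ⟨c.i * m * c.i⁻¹, hinv _ (hcK _ hiK) m m.2⟩
      map_one' := Subtype.ext (by simp)
      map_mul' := fun m m' => Subtype.ext (by simp [mul_assoc]) }
  obtain ⟨e, he⟩ := fi.map_cyclic
  have hie : ∀ m ∈ M, c.i * m * c.i⁻¹ = m ^ e := fun m hm => by
    have := congrArg Subtype.val (he ⟨m, hm⟩)
    simpa [fi] using this
  have hMH : ∀ m ∈ M, c.InH m := by
    intro m hm
    have hb : c.τ⁻¹ * m * c.τ ∈ M := by
      have := hinv _ hτK m hm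
      rwa [c.τ_inv, ← show c.τ * m * c.τ⁻¹ = c.τ * m * c.τ by rw [c.τ_inv]]
    have h1 : c.i⁻¹ * m * c.i = m ^ e := by
      calc c.i⁻¹ * m * c.i = c.τ * c.i * c.τ⁻¹ * m * (c.τ * c.i * c.τ⁻¹)⁻¹ := by
            rw [c.τ_i, inv_inv]
        _ = c.τ * (c.i * (c.τ⁻¹ * m * c.τ) * c.i⁻¹) * c.τ⁻¹ := by group
        _ = (c.τ * (c.τ⁻¹ * m * c.τ) * c.τ⁻¹) ^ e := by rw [hie _ hb, conj_zpow]
        _ = m ^ e := by group
    rw [← hie m hm] at h1
    show m * c.t = c.t * m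
    rw [← c.i_sq]
    calc m * (c.i * c.i) = c.i * (c.i⁻¹ * m * c.i) * c.i := by group
      _ = c.i * c.i * m := by rw [h1]; group
  intro w hw
  set w' : K := ⟨w, hmemK.2 hw⟩ with hw'
  set n := w' * t' * w'⁻¹ * t'⁻¹ with hn
  have hnN : n ∈ N := hNt w'
  have htt : t' * t' = 1 := Subtype.ext c.t_sq
  have htinv : t'⁻¹ = t' := inv_eq_of_mul_eq_one_right htt
  have h1 : t' * n * t'⁻¹ = n⁻¹ := by
    refine eq_inv_of_mul_eq_one_left ?_
    calc t' * n * t'⁻¹ * n = t' * (w' * t' * w'⁻¹) * (t'⁻¹ * t'⁻¹) * (w' * t' * w'⁻¹) * t'⁻¹ := by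
          rw [hn]; group
      _ = t' * (w' * (t' * t') * w'⁻¹) * t'⁻¹ := by
          rw [show t'⁻¹ * t'⁻¹ = 1 by rw [htinv, htt]]; group
      _ = 1 := by rw [htt]; group
  obtain ⟨m, hmn, hm2⟩ := exists_sqrt (odd_orderOf_mem hNodd hnN)
  have hm1 : t' * m * t'⁻¹ = m⁻¹ := by
    obtain ⟨j, rfl⟩ := hmn
    show t' * n ^ j * t'⁻¹ = (n ^ j)⁻¹
    rw [← conj_zpow, h1, inv_zpow]
  have hm : m ∈ N := (zpowers_le.2 hnN) hmn
  have hmt : m * t' * m⁻¹ = w' * t' * w'⁻¹ := by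
    calc m * t' * m⁻¹ = m * (t' * m * t'⁻¹)⁻¹⁻¹⁻¹ * t' := by rw [inv_inv]; group
      _ = n * t' := by rw [hm1, inv_inv, inv_inv, hm2]
      _ = w' * t' * w'⁻¹ := by rw [hn, inv_mul_cancel_right]
  have hmH : c.InH (m : G) := hMH _ ⟨m, hNle hm, rfl⟩
  have h2 : (m⁻¹ * w') * t' = t' * (m⁻¹ * w') := by
    calc m⁻¹ * w' * t' = m⁻¹ * (w' * t' * w'⁻¹) * w' := by group
      _ = t' * (m⁻¹ * w') := by rw [← hmt]; group
  have h3 : c.InH ((m : G)⁻¹ * w) := congrArg Subtype.val h2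
  have := c.inH_mul hmH h3
  rwa [mul_inv_cancel_left] at this

/-- The case in which three does not divide the first torus order. -/
theorem false_of_not_three (hC : CommonStmt.{u}) (l : Loc c) (h3 : ¬ 3 ∣ tor2 c.p) : False := by
  obtain ⟨-, h4, -, -, -, h34, hgcd⟩ := tor_facts c.fp.out c.hp5
  haveI : Fact (Nat.Prime 3) := ⟨Nat.prime_three⟩
  have h3' := h34 h3
  obtain ⟨k, hk⟩ := l.f_pow
  have hk0 : k ≠ 0 := by
    rintro rfl
    rw [pow_zero, orderOf_eq_one_iff] at hk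
    exact l.g_out (by
      have h := l.f_t
      rw [hk, one_mul, inv_one, mul_one] at h
      exact h ▸ c.L_le_XL c.t_mem)
  set e₀ := l.f ^ 3 ^ (k - 1) with he₀
  have he₀o : orderOf e₀ = 3 := by
    rw [he₀, orderOf_pow, hk, Nat.gcd_eq_right (pow_dvd_pow 3 (by omega)),
      Nat.pow_div (by omega) (by norm_num), show k - (k - 1) = 1 by omega, pow_one]
  obtain ⟨hcyc, hcard⟩ := c.torus_four c.i_mem (by rw [c.orderOf_i]; norm_num)
    (by rw [c.orderOf_i]; exact h4)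
  obtain ⟨y, hyo⟩ := exists_prime_orderOf_dvd_card' (G := c.CL c.i) 3 (hcard ▸ h3')
  rw [← orderOf_coe] at hyo
  have hyL : (y : G) ∈ c.L := (c.mem_CL.1 y.2).1
  obtain ⟨q, -, hq⟩ := conj_prime (G := G) c.amb.hyp.1 (K := ⊤) Nat.prime_three (by norm_num)
    (mem_top e₀) (mem_top (y : G)) he₀o hyo
  have hqo : orderOf (q * e₀ * q⁻¹) = 3 := ((MulAut.conj q).orderOf_eq e₀).trans he₀o
  obtain ⟨j, hj⟩ := mem_zpowers_of_prime Nat.prime_three hqo hyo hq
  have hxy : Commute (q * l.x * q⁻¹) (y : G) := by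
    have h1 : Commute (q * l.x * q⁻¹) (q * e₀ * q⁻¹) :=
      (Commute.pow_right (Commute.symm l.f_x) _).map (MulAut.conj q).toMonoidHom
    rw [← show (q * e₀ * q⁻¹) ^ j = (y : G) from hj]
    exact h1.zpow_right j
  have hxH := c.cent_le hC hyL Nat.prime_three (by norm_num) hyo h3' (c.mem_CL.1 y.2).2 _ hxy.eq
  have hxo : orderOf (q * l.x * q⁻¹) = l.r := ((MulAut.conj q).orderOf_eq l.x).trans l.ox
  have hrL : l.r ∣ Nat.card c.L := l.ox ▸ c.dvd_card_L l.x_L
  have hxL := c.prime_mem_L hxH l.hr l.hr2 hxo (c.not_dvd_X l.hr hrL)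
  obtain ⟨-, hcardy⟩ := c.torus_four hyL (by rw [hyo]; norm_num) (by rw [hyo]; exact h3')
  have h4r : l.r ∣ tor4 c.p := by
    rw [← hcardy, ← hxo]
    exact (c.CL y).orderOf_dvd_natCard (c.mem_CL.2 ⟨hxL, hxy.eq⟩)
  exact l.hr2 ((Nat.prime_dvd_prime_iff_eq l.hr Nat.prime_two).1 (hgcd _ l.r_tor h4r))

end Ctx

end Cfsg.Agent.Lib.CyclicOddSylow16.SDNon
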