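import Cfsg.Agent.Lib.CyclicOddSylow16.SDNon.Elements
import Cfsg.Agent.Lib.TwoGroup.QuasiDihedral
import Cfsg.Agent.S3116

/-!
# S4069, brick SD NONSOLVABLE: the centraliser of the central involution

`Ctx G` fixes the semidihedral Sylow subgroup, its central involution `t`, and the decomposition
`X × L` of index at most two in the centraliser of `t`, with `L ≅ SL₂(p)`.
-/

set_option autoImplicit false

namespace Cfsg.Agent.Lib.CyclicOddSylow16.SDNon

open Subgroup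
open scoped Pointwise

universe u

/-- The standing data. -/
structure Ctx (G : Type u) [Group G] [Finite G] where
  amb : Amb G
  one : OneClass G
  S : Sylow 2 G
  hS : Cfsg.IsQuasiDihedral (S : Subgroup G)
  noSyl : ∀ (x : G) (r : ℕ), r.Prime → r ≠ 2 → orderOf x = r →
    (∀ s ∈ (S : Subgroup G), s * x = x * s) → False
  N : ℕ
  hN : 3 ≤ N
  σ : G
  τ : G
  t : G
  σ_mem : σ ∈ (S : Subgroup G)
  τ_mem : τ ∈ (S : Subgroup G)
  oσ : orderOf σ = 2 ^ N
  oτ : τ * τ = 1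
  τ_out : τ ∉ zpowers σ
  conjτ : τ * σ * τ⁻¹ = σ ^ (2 ^ (N - 1) - 1)
  ht : t = σ ^ 2 ^ (N - 1)
  elems : ∀ s ∈ (S : Subgroup G), ∃ k : ℕ, s = σ ^ k ∨ s = σ ^ k * τ
  S_le : ∀ s ∈ (S : Subgroup G), s * t = t * s
  p : ℕ
  fp : Fact p.Prime
  hp5 : 5 ≤ p
  X : Subgroup G
  L : Subgroup G
  X_le : ∀ x ∈ X, x * t = t * x
  L_le : ∀ x ∈ L, x * t = t * x
  X_norm : ∀ h : G, h * t = t * h → ∀ x ∈ X, h * x * h⁻¹ ∈ X
  L_norm : ∀ h : G, h * t = t * h → ∀ x ∈ L, h * x * h⁻¹ ∈ L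
  oddX : Odd (Nat.card X)
  cop : (Nat.card X).Coprime (Nat.card L)
  comm : ∀ x ∈ X, ∀ l ∈ L, x * l = l * x
  idx : ∀ a b : G, a * t = t * a → b * t = t * b → (¬ ∃ x ∈ X, ∃ l ∈ L, a = x * l) →
    (¬ ∃ x ∈ X, ∃ l ∈ L, b = x * l) → ∃ x ∈ X, ∃ l ∈ L, a * b = x * l
  e : L ≃* @SL2 p fp
  t_mem : t ∈ L
  cardAut : Nat.card (MulAut (@SL2 p fp)) = Nat.card (@SL2 p fp)
  cardSL : Nat.card (@SL2 p fp) = p * (p + 1) * (p - 1)
  fixInv : ∀ (β : MulAut (@SL2 p fp)) (z x : @SL2 p fp), z ∉ center (@SL2 p fp) → x * z = z * x →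
      (β z = z → β x = x) ∧ (β z = z⁻¹ → β x = x⁻¹)
  torTwo : ∀ z : @SL2 p fp, 2 < orderOf z → orderOf z ∣ tor2 p →
      IsCyclic (centralizer ({z} : Set (@SL2 p fp))) ∧
        Nat.card (centralizer ({z} : Set (@SL2 p fp))) = tor2 p
  torFour : ∀ z : @SL2 p fp, 2 < orderOf z → orderOf z ∣ tor4 p →
      IsCyclic (centralizer ({z} : Set (@SL2 p fp))) ∧
        Nat.card (centralizer ({z} : Set (@SL2 p fp))) = tor4 p
  outer : ∀ (y : @SL2 p fp) (r : ℕ), r.Prime → r ≠ 2 → orderOf y = r → r ∣ tor2 p →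
      ∃ γ : MulAut (@SL2 p fp), (∀ g : @SL2 p fp, γ ≠ MulAut.conj g) ∧ γ * γ = 1 ∧ γ y = y

variable {G : Type u} [Group G] [Finite G]

namespace Ctx

variable (c : Ctx G)

instance : Fact c.p.Prime := c.fp

/-- Membership in the centraliser of `t`. -/
def InH (h : G) : Prop := h * c.t = c.t * h

theorem inH_iff {h : G} : h ∈ centralizer ({c.t} : Set G) ↔ c.InH h :=
  mem_centralizer_singleton_iff

theorem inH_mul {a b : G} (ha : c.InH a) (hb : c.InH b) : c.InH (a * b) :=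
  Commute.mul_left (ha : Commute a c.t) hb

theorem inH_inv {a : G} (ha : c.InH a) : c.InH a⁻¹ := Commute.inv_left (ha : Commute a c.t)

theorem inH_pow {a : G} (ha : c.InH a) (n : ℕ) : c.InH (a ^ n) := Commute.pow_left (ha : Commute a c.t) n

theorem inH_conj {a h : G} (ha : c.InH a) (hh : c.InH h) : c.InH (h * a * h⁻¹) :=
  c.inH_mul (c.inH_mul hh ha) (c.inH_inv hh)

/-- The product of `X` and `L`. -/
def XL : Subgroup G where
  carrier := {g | ∃ x ∈ c.X, ∃ l ∈ c.L, g = x * l}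
  one_mem' := ⟨1, one_mem _, 1, one_mem _, (mul_one 1).symm⟩
  mul_mem' := by
    rintro a b ⟨x, hx, l, hl, rfl⟩ ⟨x', hx', l', hl', rfl⟩
    refine ⟨x * x', mul_mem hx hx', l * l', mul_mem hl hl', ?_⟩
    rw [mul_assoc, ← mul_assoc l, ← c.comm x' hx' l hl, mul_assoc x', ← mul_assoc x x']
  inv_mem' := by
    rintro a ⟨x, hx, l, hl, rfl⟩
    refine ⟨x⁻¹, inv_mem hx, l⁻¹, inv_mem hl, ?_⟩
    rw [c.comm _ (inv_mem hx) _ (inv_mem hl), mul_inv_rev]

theorem X_le_XL {x : G} (hx : x ∈ c.X) : x ∈ c.XL := ⟨x, hx, 1, one_mem _, (mul_one x).symm⟩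

theorem L_le_XL {x : G} (hx : x ∈ c.L) : x ∈ c.XL := ⟨1, one_mem _, x, hx, (one_mul x).symm⟩

theorem inH_XL {g : G} (hg : g ∈ c.XL) : c.InH g := by
  obtain ⟨x, hx, l, hl, rfl⟩ := hg
  exact c.inH_mul (c.X_le x hx) (c.L_le l hl)

theorem out_mul {a b : G} (ha : c.InH a) (hb : c.InH b) (ha' : a ∉ c.XL) (hb' : b ∉ c.XL) :
    a * b ∈ c.XL :=
  c.idx a b ha hb ha' hb'

theorem inf_XL {g : G} (hX : g ∈ c.X) (hL : g ∈ c.L) : g = 1 := by
  have h : g ∈ c.X ⊓ c.L := ⟨hX, hL⟩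
  rwa [inf_eq_bot_of_coprime c.cop, mem_bot] at h

theorem XL_norm {h g : G} (hh : c.InH h) (hg : g ∈ c.XL) : h * g * h⁻¹ ∈ c.XL := by
  obtain ⟨x, hx, l, hl, rfl⟩ := hg
  exact ⟨_, c.X_norm h hh x hx, _, c.L_norm h hh l hl, by group⟩

theorem XL_conj_iff {h g : G} (hh : c.InH h) : h * g * h⁻¹ ∈ c.XL ↔ g ∈ c.XL := by
  refine ⟨fun hg => ?_, c.XL_norm hh⟩
  have := c.XL_norm (c.inH_inv hh) hg
  rwa [show h⁻¹ * (h * g * h⁻¹) * h⁻¹⁻¹ = g by group] at this

theorem odd_pow_out {h : G} (hh : c.InH h) (hout : h ∉ c.XL) {n : ℕ} (hn : Odd n) :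
    h ^ n ∉ c.XL := by
  obtain ⟨k, rfl⟩ := hn
  intro hm
  refine hout ?_
  rw [pow_succ, pow_mul] at hm
  have h2 : h ^ 2 ∈ c.XL := by rw [pow_two]; exact c.out_mul hh hh hout hout
  exact (mul_mem_cancel_left (pow_mem h2 k)).1 hm

/-- A 2-element of `X L` lies in `L`. -/
theorem two_mem_L {u : G} (hu : u ∈ c.XL) {k : ℕ} (hk : u ^ 2 ^ k = 1) : u ∈ c.L := by
  obtain ⟨x, hx, l, hl, rfl⟩ := hu
  rw [Commute.mul_pow (c.comm x hx l hl), mul_eq_one_iff_eq_inv] at hk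
  have h1 : x ^ 2 ^ k = 1 := c.inf_XL (pow_mem hx _) (hk ▸ inv_mem (pow_mem hl _))
  rw [eq_one_of_odd_two (odd_orderOf_mem c.oddX hx) h1, one_mul]
  exact hl

theorem odd_mem_XL {h : G} (hh : c.InH h) (ho : Odd (orderOf h)) : h ∈ c.XL := by
  by_contra hout
  exact c.odd_pow_out hh hout ho (by rw [pow_orderOf_eq_one]; exact one_mem _)

theorem prime_mem_L {h : G} (hh : c.InH h) {r : ℕ} (hr : r.Prime) (hr2 : r ≠ 2) (ho : orderOf h = r)
    (hX : ¬ r ∣ Nat.card c.X) : h ∈ c.L := by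
  obtain ⟨x, hx, l, hl, rfl⟩ := c.odd_mem_XL hh (ho ▸ hr.odd_of_ne_two hr2)
  have hp : (x * l) ^ r = 1 := by rw [← ho, pow_orderOf_eq_one]
  rw [Commute.mul_pow (c.comm x hx l hl), mul_eq_one_iff_eq_inv] at hp
  have h1 : x ^ r = 1 := c.inf_XL (pow_mem hx _) (hp ▸ inv_mem (pow_mem hl _))
  rcases hr.eq_one_or_self_of_dvd _ (orderOf_dvd_of_pow_eq_one h1) with h2 | h2
  · rw [orderOf_eq_one_iff.1 h2, one_mul]; exact hl
  · exact absurd (h2 ▸ c.X.orderOf_dvd_natCard hx) hX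

theorem not_dvd_X {r : ℕ} (hr : r.Prime) (h : r ∣ Nat.card c.L) : ¬ r ∣ Nat.card c.X := fun hX =>
  hr.ne_one (Nat.dvd_one.1 (c.cop ▸ Nat.dvd_gcd hX h))

theorem dvd_card_L {z : G} (hz : z ∈ c.L) : orderOf z ∣ Nat.card c.L := c.L.orderOf_dvd_natCard hz

/-! ### The group `L` -/

theorem card_L : Nat.card c.L = c.p * (tor2 c.p * tor4 c.p) := by
  rw [Nat.card_congr c.e.toEquiv, c.cardSL, (tor_facts c.fp.out c.hp5).2.2.1, mul_assoc]

theorem orderOf_e {z : G} (hz : z ∈ c.L) : orderOf (c.e ⟨z, hz⟩) = orderOf z := by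
  rw [MulEquiv.orderOf_eq, ← orderOf_coe]

theorem t_ne_one : c.t ≠ 1 := fun h => by
  rw [c.ht] at h
  have h1 := Nat.le_of_dvd (by positivity) (c.oσ ▸ orderOf_dvd_of_pow_eq_one h)
  exact absurd h1 (not_le.2 (Nat.pow_lt_pow_right one_lt_two (by have := c.hN; omega)))

theorem t_sq : c.t * c.t = 1 := by
  rw [c.ht, ← pow_add, ← two_mul, ← pow_succ',
    show c.N - 1 + 1 = c.N by have := c.hN; omega, ← c.oσ, pow_orderOf_eq_one]

theorem orderOf_t : orderOf c.t = 2 := orderOf_two_of_sq c.t_sq c.t_ne_one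

theorem inH_t : c.InH c.t := rfl

theorem e_t : c.e ⟨c.t, c.t_mem⟩ = -1 := by
  refine eq_neg_one_of_sq c.hp5 ?_ fun h => c.t_ne_one ?_
  · rw [← map_mul, show (⟨c.t, c.t_mem⟩ : c.L) * ⟨c.t, c.t_mem⟩ = 1 from Subtype.ext c.t_sq, map_one]
  · exact congrArg Subtype.val ((map_eq_one_iff c.e c.e.injective).1 h)

/-- The only involution of `L` is `t`. -/
theorem eq_t_of_sq {l : G} (hl : l ∈ c.L) (h : l * l = 1) : l = 1 ∨ l = c.t := by
  by_cases h1 : l = 1
  · exact Or.inl h1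
  · right
    have h2 : c.e ⟨l, hl⟩ = -1 := by
      refine eq_neg_one_of_sq c.hp5 ?_ fun h' => h1 ?_
      · rw [← map_mul, show (⟨l, hl⟩ : c.L) * ⟨l, hl⟩ = 1 from Subtype.ext h, map_one]
      · exact congrArg Subtype.val ((map_eq_one_iff c.e c.e.injective).1 h')
    exact congrArg Subtype.val (c.e.injective (h2.trans c.e_t.symm))

theorem e_central_iff {z : G} (hz : z ∈ c.L) (h : c.e ⟨z, hz⟩ ∈ center (SL2 c.p)) : z * z = 1 := by
  have h2 : c.e (⟨z, hz⟩ * ⟨z, hz⟩) = 1 := by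
    rw [map_mul]
    rcases center_cases c.hp5 h with e | e <;> rw [e]
    · rw [one_mul]
    · rw [neg_one_sq]
  exact congrArg Subtype.val ((map_eq_one_iff c.e c.e.injective).1 h2)

/-- The centraliser inside `L`. -/
def CL (z : G) : Subgroup G := c.L ⊓ centralizer ({z} : Set G)

theorem mem_CL {z x : G} : x ∈ c.CL z ↔ x ∈ c.L ∧ x * z = z * x := by
  rw [CL, mem_inf, mem_centralizer_singleton_iff]

/-- Transport of a centraliser inside `L`. -/
def CLEquiv {z : G} (hz : z ∈ c.L) :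
    c.CL z ≃* centralizer ({c.e ⟨z, hz⟩} : Set (SL2 c.p)) where
  toFun x := ⟨c.e ⟨x, (c.mem_CL.1 x.2).1⟩, mem_centralizer_singleton_iff.2 (by
    rw [← map_mul, ← map_mul]
    exact congrArg c.e (Subtype.ext (c.mem_CL.1 x.2).2))⟩
  invFun w := ⟨(c.e.symm w : c.L), c.mem_CL.2 ⟨(c.e.symm w).2, by
    have h := congrArg c.e.symm (mem_centralizer_singleton_iff.1 w.2)
    rw [map_mul, map_mul, MulEquiv.symm_apply_apply] at h
    exact congrArg Subtype.val h⟩⟩
  left_inv x := Subtype.ext (by simp)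
  right_inv w := Subtype.ext (by simp)
  map_mul' x y := Subtype.ext (by
    show c.e _ = c.e _ * c.e _
    rw [← map_mul]
    rfl)

theorem torus_two {z : G} (hz : z ∈ c.L) (h2 : 2 < orderOf z) (hd : orderOf z ∣ tor2 c.p) :
    IsCyclic (c.CL z) ∧ Nat.card (c.CL z) = tor2 c.p := by
  obtain ⟨h, h'⟩ := c.torTwo (c.e ⟨z, hz⟩) (by rwa [c.orderOf_e]) (by rwa [c.orderOf_e])
  exact ⟨(c.CLEquiv hz).isCyclic.2 h, (Nat.card_congr (c.CLEquiv hz).toEquiv).trans h'⟩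

theorem torus_four {z : G} (hz : z ∈ c.L) (h2 : 2 < orderOf z) (hd : orderOf z ∣ tor4 c.p) :
    IsCyclic (c.CL z) ∧ Nat.card (c.CL z) = tor4 c.p := by
  obtain ⟨h, h'⟩ := c.torFour (c.e ⟨z, hz⟩) (by rwa [c.orderOf_e]) (by rwa [c.orderOf_e])
  exact ⟨(c.CLEquiv hz).isCyclic.2 h, (Nat.card_congr (c.CLEquiv hz).toEquiv).trans h'⟩

theorem noncentral_of_two_lt {z : G} (hz : z ∈ c.L) (h2 : 2 < orderOf z) :
    c.e ⟨z, hz⟩ ∉ center (SL2 c.p) := fun h => by
  have h1 : z ^ 2 = 1 := by rw [pow_two]; exact c.e_central_iff hz h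
  have := Nat.le_of_dvd (by norm_num) (orderOf_dvd_of_pow_eq_one h1)
  omega

/-- Conjugation by a member of the centraliser of `t`, on `L`. -/
def cj {h : G} (hh : c.InH h) : MulAut c.L where
  toFun l := ⟨h * l * h⁻¹, c.L_norm h hh l l.2⟩
  invFun l := ⟨h⁻¹ * l * h, by simpa using c.L_norm h⁻¹ (c.inH_inv hh) l l.2⟩
  left_inv l := Subtype.ext (by simp [mul_assoc])
  right_inv l := Subtype.ext (by simp [mul_assoc])
  map_mul' a b := Subtype.ext (by simp [mul_assoc])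

theorem cj_apply {h : G} (hh : c.InH h) (l : c.L) : (c.cj hh l : G) = h * l * h⁻¹ := rfl

/-- An element fixing a regular element of `L` fixes its centraliser in `L`. -/
theorem fix_torus {h z x : G} (hh : c.InH h) (hz : z ∈ c.L) (h2 : 2 < orderOf z) (hx : x ∈ c.L)
    (hxz : x * z = z * x) (hhz : h * z * h⁻¹ = z) : h * x * h⁻¹ = x := by
  let β : MulAut (SL2 c.p) := (c.e.symm.trans (c.cj hh)).trans c.e
  have hβ : ∀ l : c.L, β (c.e l) = c.e (c.cj hh l) := fun l => by simp [β]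
  have h1 := (c.fixInv β (c.e ⟨z, hz⟩) (c.e ⟨x, hx⟩) (c.noncentral_of_two_lt hz h2)
    (by rw [← map_mul, ← map_mul]; exact congrArg c.e (Subtype.ext hxz))).1
    (by rw [hβ]; exact congrArg c.e (Subtype.ext hhz))
  rw [hβ] at h1
  exact congrArg Subtype.val (c.e.injective h1)

/-- An element inverting a regular element of `L` inverts its centraliser in `L`. -/
theorem inv_torus {h z x : G} (hh : c.InH h) (hz : z ∈ c.L) (h2 : 2 < orderOf z) (hx : x ∈ c.L)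
    (hxz : x * z = z * x) (hhz : h * z * h⁻¹ = z⁻¹) : h * x * h⁻¹ = x⁻¹ := by
  let β : MulAut (SL2 c.p) := (c.e.symm.trans (c.cj hh)).trans c.e
  have hβ : ∀ l : c.L, β (c.e l) = c.e (c.cj hh l) := fun l => by simp [β]
  have h1 := (c.fixInv β (c.e ⟨z, hz⟩) (c.e ⟨x, hx⟩) (c.noncentral_of_two_lt hz h2)
    (by rw [← map_mul, ← map_mul]; exact congrArg c.e (Subtype.ext hxz))).2
    (by rw [hβ, ← map_inv]; exact congrArg c.e (Subtype.ext hhz))
  rw [hβ, ← map_inv] at h1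
  exact congrArg Subtype.val (c.e.injective h1)

/-! ### The Sylow subgroup inside the centraliser -/

/-- A 2-subgroup of the centraliser is conjugate into `S` there. -/
theorem conj_S {P : Subgroup G} (hP : IsPGroup 2 P) (hPH : ∀ x ∈ P, c.InH x) :
    ∃ h, c.InH h ∧ ∀ x ∈ P, h * x * h⁻¹ ∈ (c.S : Subgroup G) := by
  haveI : Fact (Nat.Prime 2) := ⟨Nat.prime_two⟩
  let H := centralizer ({c.t} : Set G)
  have hle : (c.S : Subgroup G) ≤ H := fun s hs => c.inH_iff.2 (c.S_le s hs)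
  have hPle : P ≤ H := fun x hx => c.inH_iff.2 (hPH x hx)
  obtain ⟨Q, hQ⟩ := (hP.of_equiv (subgroupOfEquivOfLe hPle).symm).exists_le_sylow
  obtain ⟨k, hk⟩ := MulAction.exists_smul_eq H Q (c.S.subtype hle)
  refine ⟨k, c.inH_iff.1 k.2, fun x hx => ?_⟩
  have h1 : MulAut.conj k ⟨x, hPle hx⟩ ∈ (c.S.subtype hle : Subgroup H) := by
    rw [← hk]
    exact smul_mem_pointwise_smul _ _ _ (hQ (show (⟨x, hPle hx⟩ : H) ∈ P.subgroupOf H from hx))
  exact h1

theorem elem_conj_S {u : G} (hu : c.InH u) {k : ℕ} (hk : u ^ 2 ^ k = 1) :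
    ∃ h, c.InH h ∧ h * u * h⁻¹ ∈ (c.S : Subgroup G) := by
  obtain ⟨j, -, hj⟩ := (Nat.dvd_prime_pow Nat.prime_two).1 (orderOf_dvd_of_pow_eq_one hk)
  obtain ⟨h, hh, hc⟩ := c.conj_S (P := zpowers u) (IsPGroup.of_card (n := j) (by rw [Nat.card_zpowers, hj]))
    (fun x hx => by
      obtain ⟨i, rfl⟩ := hx
      exact Commute.zpow_left (hu : Commute u c.t) i)
  exact ⟨h, hh, hc u (mem_zpowers u)⟩

theorem inH_σ : c.InH c.σ := c.S_le _ c.σ_mem

theorem inH_τ : c.InH c.τ := c.S_le _ c.τ_mem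

theorem σ_pow_two_N : c.σ ^ 2 ^ c.N = 1 := by rw [← c.oσ, pow_orderOf_eq_one]

theorem τ_inv : c.τ⁻¹ = c.τ := inv_eq_of_mul_eq_one_right c.oτ

theorem τ_ne_one : c.τ ≠ 1 := fun h => c.τ_out (h ▸ one_mem _)

theorem τ_not_XL : c.τ ∉ c.XL := fun h => by
  have h1 : c.τ ∈ c.L := c.two_mem_L h (k := 1) (by rw [pow_one, pow_two, c.oτ])
  rcases c.eq_t_of_sq h1 c.oτ with e | e
  · exact c.τ_ne_one e
  · exact c.τ_out (e ▸ c.ht ▸ npow_mem_zpowers _ _)

theorem σ_sq_mem : c.σ ^ 2 ∈ c.L := by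
  refine c.two_mem_L (k := c.N) ?_ (by rw [← pow_mul, mul_comm, pow_mul, c.σ_pow_two_N, one_pow])
  by_cases h : c.σ ∈ c.XL
  · exact pow_mem h 2
  · rw [pow_two]; exact c.out_mul c.inH_σ c.inH_σ h h

theorem σ_not_XL : c.σ ∉ c.XL := by
  intro hσ
  obtain ⟨b₀, hb, hab⟩ := exists_anti (p := c.p)
  set a : G := ((c.e.symm (quA c.p) : c.L) : G) with ha
  set b : G := ((c.e.symm b₀ : c.L) : G) with hb'
  have hanti : b₀ * quA c.p * b₀⁻¹ = (quA c.p)⁻¹ := by
    have h1 : (quA c.p)⁻¹ = -(quA c.p) := by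
      refine inv_eq_of_mul_eq_one_right ?_
      rw [mul_neg, quA_sq, neg_neg]
    rw [hab, h1, neg_mul, mul_inv_cancel_right]
  have hconj : b * a * b⁻¹ = a⁻¹ := by
    have h := congrArg (fun w => ((c.e.symm w : c.L) : G)) hanti
    simpa using h
  have hnorm : zpowers b ≤ normalizer (zpowers a : Set G) := by
    refine zpowers_le.2 (mem_normalizer_iff.2 fun w => ⟨?_, ?_⟩)
    · rintro ⟨i, rfl⟩
      refine ⟨-i, ?_⟩
      show a ^ (-i) = b * a ^ i * b⁻¹
      rw [← conj_zpow, hconj, inv_zpow, zpow_neg]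
    · rintro ⟨i, hi⟩
      refine ⟨-i, ?_⟩
      show a ^ (-i) = w
      have hi' : a ^ i = b * w * b⁻¹ := hi
      have h2 : b * (a ^ (-i)) * b⁻¹ = a ^ i := by rw [← conj_zpow, hconj, inv_zpow', neg_neg]
      exact mul_left_cancel (mul_right_cancel (h2.trans hi'))
  have hoa : orderOf a = 4 := by
    rw [ha, orderOf_coe, MulEquiv.orderOf_eq, orderOf_of_sq_neg_one c.hp5 quA_sq]
  have hob : orderOf b = 4 := by
    rw [hb', orderOf_coe, MulEquiv.orderOf_eq, orderOf_of_sq_neg_one c.hp5 hb]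
  have h4 : ∀ w : G, orderOf w = 4 → IsPGroup 2 (zpowers w) := fun w hw =>
    IsPGroup.of_card (n := 2) (by rw [Nat.card_zpowers, hw]; norm_num)
  obtain ⟨h, hh, hS⟩ := c.conj_S (P := zpowers a ⊔ zpowers b)
    ((h4 a hoa).to_sup_of_normal_left' (h4 b hob) hnorm) (fun x hx => c.inH_XL (c.L_le_XL
      ((sup_le (zpowers_le.2 (c.e.symm _).2) (zpowers_le.2 (c.e.symm _).2)) hx)))
  have key : ∀ w : c.L, (w : G) ∈ zpowers a ⊔ zpowers b → h * w * h⁻¹ ∈ zpowers c.σ := fun w hw => by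
    have h1 := c.L_le_XL (c.L_norm h hh w w.2)
    obtain ⟨k, hk | hk⟩ := c.elems _ (hS _ hw)
    · exact hk ▸ npow_mem_zpowers _ _
    · rw [hk] at h1
      exact absurd ((mul_mem_cancel_left (pow_mem hσ k)).1 h1) c.τ_not_XL
  obtain ⟨i, hi⟩ := key _ (mem_sup_left (mem_zpowers a))
  obtain ⟨j, hj⟩ := key _ (mem_sup_right (mem_zpowers b))
  have hc1 : Commute (h * a * h⁻¹) (h * b * h⁻¹) := by
    rw [ha, hb', ← hi, ← hj]; exact (Commute.refl c.σ).zpow_zpow i j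
  have hc : a * b = b * a := by
    have := congrArg (fun w => h⁻¹ * w * h) hc1.eq
    simpa [mul_assoc] using this
  have hc' : quA c.p * b₀ = b₀ * quA c.p := by
    have h1 : c.e.symm (quA c.p) * c.e.symm b₀ = c.e.symm b₀ * c.e.symm (quA c.p) := Subtype.ext hc
    simpa using congrArg c.e h1
  rw [← hc'] at hab
  have h5 : (1 : SL2 c.p) = -1 := by
    refine mul_left_cancel (a := quA c.p * b₀) ?_
    rw [mul_one, mul_neg, mul_one]; exact hab
  exact neg_one_ne_one c.hp5 h5.symm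

theorem σ_pow_mem_iff (k : ℕ) : c.σ ^ k ∈ c.XL ↔ Even k := by
  refine ⟨fun h => ?_, fun ⟨j, hj⟩ => ?_⟩
  · by_contra hk
    exact c.odd_pow_out c.inH_σ c.σ_not_XL (Nat.not_even_iff_odd.1 hk) h
  · rw [hj, ← two_mul, pow_mul]; exact c.L_le_XL (pow_mem c.σ_sq_mem j)

theorem στ_sq (k : ℕ) : c.σ ^ k * c.τ * (c.σ ^ k * c.τ) = c.t ^ k := by
  have h1 : c.τ * c.σ ^ k * c.τ⁻¹ = c.σ ^ ((2 ^ (c.N - 1) - 1) * k) := by
    rw [← conj_pow, c.conjτ, ← pow_mul]
  calc c.σ ^ k * c.τ * (c.σ ^ k * c.τ) = c.σ ^ k * (c.τ * c.σ ^ k * c.τ⁻¹) * (c.τ * c.τ) := by group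
    _ = c.t ^ k := by
      rw [h1, c.oτ, mul_one, ← pow_add, c.ht, ← pow_mul]
      congr 1
      have : 1 ≤ 2 ^ (c.N - 1) := Nat.one_le_two_pow
      rw [Nat.sub_mul, one_mul, Nat.add_sub_cancel' (Nat.le_mul_of_pos_left _ this)]

/-- Outside `X L` there are no elements of order four in the centraliser. -/
theorem out2 {u : G} (hu : c.InH u) (hout : u ∉ c.XL) (h4 : u ^ 4 = 1) : u * u = 1 := by
  obtain ⟨h, hh, hs⟩ := c.elem_conj_S (k := 2) hu (by norm_num; exact h4)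
  have hout' : h * u * h⁻¹ ∉ c.XL := fun hm => hout ((c.XL_conj_iff hh).1 hm)
  have hs4 : (h * u * h⁻¹) ^ 4 = 1 := by rw [conj_pow, h4, mul_one, mul_inv_cancel]
  have key : h * u * h⁻¹ * (h * u * h⁻¹) = 1 := by
    obtain ⟨k, hk | hk⟩ := c.elems _ hs
    · exfalso
      rw [hk] at hout' hs4
      have hodd : Odd k := Nat.not_even_iff_odd.1 fun he => hout' ((c.σ_pow_mem_iff k).2 he)
      rw [← pow_mul] at hs4
      have h1 : 2 ^ c.N ∣ k * 4 := c.oσ ▸ orderOf_dvd_of_pow_eq_one hs4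
      have h2 : (2 ^ c.N).Coprime k := (Nat.coprime_two_left.2 hodd).pow_left _
      have h3 := Nat.le_of_dvd (by norm_num) (h2.dvd_of_dvd_mul_left h1)
      have h8 : 2 ^ 3 ≤ 2 ^ c.N := Nat.pow_le_pow_right (by norm_num) c.hN
      omega
    · rw [hk] at hout' ⊢
      have hev : Even k := by
        by_contra hk'
        exact hout' (c.out_mul (c.inH_pow c.inH_σ k) c.inH_τ
          (fun hm => hk' ((c.σ_pow_mem_iff k).1 hm)) c.τ_not_XL)
      obtain ⟨j, rfl⟩ := hev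
      rw [c.στ_sq, ← two_mul, pow_mul, pow_two, c.t_sq, one_pow]
  calc u * u = h⁻¹ * (h * u * h⁻¹ * (h * u * h⁻¹)) * h := by group
    _ = 1 := by rw [key, mul_one, inv_mul_cancel]

/-- An outer involution commutes with no element of order four of `X L`. -/
theorem out_no_four {u j : G} (hu : c.InH u) (hout : u ∉ c.XL) (huu : u * u = 1) (hj : j ∈ c.XL)
    (hj4 : j ^ 4 = 1) (huj : u * j = j * u) : j * j = 1 := by
  have h1 : (u * j) ^ 4 = 1 := by
    rw [Commute.mul_pow huj, hj4, mul_one, show (4 : ℕ) = 2 * 2 from rfl, pow_mul, pow_two u,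
      huu, one_pow]
  have h2 := c.out2 (c.inH_mul hu (c.inH_XL hj)) (fun hm => hout ((mul_mem_cancel_right hj).1 hm)) h1
  rwa [Commute.mul_mul_mul_comm huj.symm, huu, one_mul] at h2

theorem four_mem_L {j : G} (hj : c.InH j) (ho : orderOf j = 4) : j ∈ c.L ∧ j * j = c.t := by
  have h4 : j ^ 4 = 1 := by rw [← ho, pow_orderOf_eq_one]
  have hne : j * j ≠ 1 := fun h => by
    have := Nat.le_of_dvd (by norm_num) (orderOf_dvd_of_pow_eq_one (by rw [pow_two, h] : j ^ 2 = 1))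
    omega
  have hXL : j ∈ c.XL := by
    by_contra hout
    exact hne (c.out2 hj hout h4)
  have hL : j ∈ c.L := c.two_mem_L (k := 2) hXL (by norm_num; exact h4)
  refine ⟨hL, (c.eq_t_of_sq (mul_mem hL hL) ?_).resolve_left hne⟩
  calc j * j * (j * j) = j ^ 4 := by simp only [pow_succ, pow_zero, one_mul, mul_assoc]
    _ = 1 := h4

/-- The element of order four in the cyclic maximal subgroup. -/
def i : G := c.σ ^ 2 ^ (c.N - 2)

theorem orderOf_i : orderOf c.i = 4 := by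
  have hN := c.hN
  rw [i, orderOf_pow, c.oσ, Nat.gcd_eq_right (pow_dvd_pow 2 (by omega)),
    Nat.pow_div (by omega) (by norm_num), show c.N - (c.N - 2) = 2 by omega]

theorem inH_i : c.InH c.i := c.inH_pow c.inH_σ _

theorem i_mem : c.i ∈ c.L := (c.four_mem_L c.inH_i c.orderOf_i).1

theorem i_sq : c.i * c.i = c.t := (c.four_mem_L c.inH_i c.orderOf_i).2

theorem τ_i : c.τ * c.i * c.τ⁻¹ = c.i⁻¹ := by
  have hN := c.hN
  have h1 : c.τ * c.i * c.τ⁻¹ = c.i ^ (2 ^ (c.N - 1) - 1) := by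
    rw [i, ← conj_pow, c.conjτ, ← pow_mul, ← pow_mul, mul_comm]
  refine h1.trans (eq_inv_of_mul_eq_one_left ?_)
  rw [← pow_succ, Nat.sub_add_cancel Nat.one_le_two_pow]
  refine orderOf_dvd_iff_pow_eq_one.1 ?_
  rw [c.orderOf_i]
  exact (show (4 : ℕ) = 2 ^ 2 by norm_num) ▸ pow_dvd_pow 2 (by omega)

/-- No element of order four commutes with an element of prime order dividing `|L|` and not the torus order. -/
theorem no_four_prime {j z : G} (hj : orderOf j = 4) {r : ℕ} (hr : r.Prime) (hr2 : r ≠ 2)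
    (hz : orderOf z = r) (hjz : j * z = z * j) (hL : r ∣ Nat.card c.L) (h4 : ¬ r ∣ tor4 c.p) :
    False := by
  have ho : orderOf (j * j) = 2 := by
    rw [← pow_two, orderOf_pow, hj]; norm_num
  obtain ⟨k, hk⟩ := isConj_iff.1 (c.one (j * j) c.t ho c.orderOf_t)
  have hjH : c.InH (k * j * k⁻¹) := by
    show _ * c.t = c.t * _
    rw [← hk]; group
  have hzH : c.InH (k * z * k⁻¹) := by
    have : Commute (k * (j * j) * k⁻¹) (k * z * k⁻¹) :=
      (Commute.mul_left hjz hjz).map (MulAut.conj k).toMonoidHom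
    rw [hk] at this
    exact this.symm
  have hjo : orderOf (k * j * k⁻¹) = 4 := ((MulAut.conj k).orderOf_eq j).trans hj
  obtain ⟨hjL, -⟩ := c.four_mem_L hjH hjo
  have hzo : orderOf (k * z * k⁻¹) = r := by
    rw [← hz]; exact (MulAut.conj k).orderOf_eq z
  have hzL := c.prime_mem_L hzH hr hr2 hzo (c.not_dvd_X hr hL)
  obtain ⟨-, hcard⟩ := c.torus_four hjL (by rw [hjo]; norm_num)
    (by rw [hjo]; exact (tor_facts c.fp.out c.hp5).2.1)
  refine h4 (hcard ▸ hzo ▸ (c.CL (k * j * k⁻¹)).orderOf_dvd_natCard (c.mem_CL.2 ⟨hzL, ?_⟩))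
  have : Commute (k * z * k⁻¹) (k * j * k⁻¹) := (Commute.symm hjz).map (MulAut.conj k).toMonoidHom
  exact this

/-- `X` meets the centraliser of an outer involution trivially. -/
theorem X_out {u x : G} (hu : c.InH u) (hout : u ∉ c.XL) (huu : u * u = 1) (hx : x ∈ c.X)
    (hux : u * x = x * u) : x = 1 := by
  by_contra h1
  obtain ⟨r, hr, hrd⟩ := Nat.exists_prime_and_dvd (n := orderOf x) fun h => h1 (orderOf_eq_one_iff.1 h)
  have hr2 : r ≠ 2 := fun h => by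
    have hodd := Odd.of_dvd_nat (odd_orderOf_mem c.oddX hx) hrd
    rw [h] at hodd
    exact absurd hodd (by decide)
  set z := x ^ (orderOf x / r) with hz
  have hzo : orderOf z = r := orderOf_pow_orderOf_div (orderOf_pos x).ne' hrd
  obtain ⟨h, hh, hs⟩ := c.elem_conj_S (k := 1) hu (by rw [pow_one, pow_two, huu])
  have hout' : h * u * h⁻¹ ∉ c.XL := fun hm => hout ((c.XL_conj_iff hh).1 hm)
  have hz' : h * z * h⁻¹ ∈ c.X := c.X_norm h hh z (pow_mem hx _)
  refine c.noSyl (h * z * h⁻¹) r hr hr2 (((MulAut.conj h).orderOf_eq z).trans hzo) fun s hsS => ?_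
  have huz : Commute (h * u * h⁻¹) (h * z * h⁻¹) :=
    (Commute.pow_right (hux : Commute u x) _).map (MulAut.conj h).toMonoidHom
  have hLX : ∀ l ∈ c.L, Commute l (h * z * h⁻¹) := fun l hl => (c.comm _ hz' l hl : Commute _ l).symm
  by_cases hsXL : s ∈ c.XL
  · obtain ⟨j, hj⟩ := c.S.2 ⟨s, hsS⟩
    exact (hLX s (c.two_mem_L (k := j) hsXL (congrArg Subtype.val hj))).eq
  · have h2 : s * (h * u * h⁻¹) ∈ (c.S : Subgroup G) := mul_mem hsS hs
    obtain ⟨j, hj⟩ := c.S.2 ⟨_, h2⟩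
    have h3 := hLX _ (c.two_mem_L (k := j) (c.out_mul (c.S_le s hsS) (c.S_le _ hs) hsXL hout')
      (congrArg Subtype.val hj))
    have h4 : Commute (s * (h * u * h⁻¹) * (h * u * h⁻¹)⁻¹) (h * z * h⁻¹) :=
      h3.mul_left huz.inv_left
    rw [mul_inv_cancel_right] at h4
    exact h4.eq

end Ctx

/-- The context exists. -/
theorem exists_ctx (hC : CommonStmt.{u}) (hM : ModelSLStmt) (hamb : Amb G) (S : Sylow 2 G)
    (hS : Cfsg.IsQuasiDihedral (S : Subgroup G)) (t : G) (htS : t ∈ (S : Subgroup G)) (ht : orderOf t = 2)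
    (hcen : ∀ s ∈ (S : Subgroup G), s * t = t * s)
    (hns : ¬ Group.IsSolvable (centralizer ({t} : Set G))) : Nonempty (Ctx G) := by
  have hone : OneClass G := hC.1 G hamb S (Or.inr hS)
  have hnoSyl := hC.2.1 G hamb S (Cfsg.Agent.S3116.result S.2 (Or.inr hS))
  obtain ⟨N, x, y, hq⟩ := Cfsg.Agent.Lib.TwoGroup.exists_qdGen hS
  set σ : G := (x : G) with hσ
  set τ : G := (y : G) with hτ
  have hN := hq.le_n
  have hoσ : orderOf σ = 2 ^ N := by rw [hσ, orderOf_coe, hq.ord_x]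
  have hττ : τ * τ = 1 := congrArg Subtype.val hq.y_mul_y
  have hτout : τ ∉ zpowers σ := fun ⟨j, hj⟩ => hq.y_not_mem ⟨j, Subtype.ext (by rw [SubgroupClass.coe_zpow]; exact hj)⟩
  have hconjτ : τ * σ * τ⁻¹ = σ ^ (2 ^ (N - 1) - 1) := congrArg Subtype.val hq.conj
  have helems : ∀ s ∈ (S : Subgroup G), ∃ k : ℕ, s = σ ^ k ∨ s = σ ^ k * τ := by
    intro s hs
    obtain ⟨a, ha⟩ := hq.cases_mem ⟨s, hs⟩
    obtain ⟨k, hk⟩ : ∃ k : ℕ, x ^ k = x ^ a :=
      (mem_powers_iff_mem_zpowers.2 ⟨a, rfl⟩ : x ^ a ∈ Submonoid.powers x)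
    refine ⟨k, ?_⟩
    rw [← hk] at ha
    rcases ha with ha | ha
    · exact Or.inl (congrArg Subtype.val ha)
    · exact Or.inr (congrArg Subtype.val ha)
  have h2N : 2 ^ (N - 1) * 2 = 2 ^ N := by rw [← pow_succ, show N - 1 + 1 = N by omega]
  have hteq : t = σ ^ 2 ^ (N - 1) := by
    have htt : t * t = 1 := mul_self_of_orderOf_two ht
    obtain ⟨k, rfl | rfl⟩ := helems t htS
    · rw [← pow_add, ← two_mul] at htt
      have hd : 2 ^ (N - 1) * 2 ∣ 2 * k := by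
        rw [h2N, ← hoσ]; exact orderOf_dvd_of_pow_eq_one htt
      rw [mul_comm 2 k] at hd
      obtain ⟨j, rfl⟩ := (Nat.mul_dvd_mul_iff_right two_pos).1 hd
      rcases Nat.even_or_odd j with ⟨i, rfl⟩ | ⟨i, rfl⟩
      · exfalso
        refine ne_one_of_orderOf ht one_lt_two ?_
        rw [← two_mul, ← mul_assoc, h2N, pow_mul, ← hoσ, pow_orderOf_eq_one, one_pow]
      · rw [mul_add, mul_one, ← mul_assoc, h2N, pow_add, pow_mul, ← hoσ, pow_orderOf_eq_one, one_pow,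
          one_mul]
    · exfalso
      have h1 : Commute σ (σ ^ k * τ) := hcen σ x.2
      have h2 : Commute σ τ := by
        have h3 := ((Commute.refl σ).pow_right k).inv_right.mul_right h1
        rwa [inv_mul_cancel_left] at h3
      have h4 : σ ^ (2 ^ (N - 1) - 1) = σ ^ 1 := by
        rw [← hconjτ, pow_one, ← h2.eq, mul_inv_cancel_right]
      have h5 : 2 ^ 3 ≤ 2 ^ N := Nat.pow_le_pow_right (by norm_num) hN
      have h6 := pow_injOn_Iio_orderOf (x := σ) (Set.mem_Iio.2 (by rw [hoσ]; omega))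
        (Set.mem_Iio.2 (by rw [hoσ]; omega)) h4
      omega
  set H := centralizer ({t} : Set G) with hH
  have hHtop : H ≠ ⊤ := by
    intro htop
    have htc : t ∈ center G := mem_center_iff.2 fun g =>
      mem_centralizer_singleton_iff.1 (show g ∈ H by rw [htop]; exact mem_top g)
    haveI := hamb.simple
    rcases IsSimpleGroup.eq_bot_or_eq_top_of_normal (center G) inferInstance with h | h
    · rw [h, mem_bot] at htc; exact ne_one_of_orderOf ht one_lt_two htc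
    · exact hamb.nonab (center_eq_top_iff.1 h)
  obtain ⟨X₀, L₀, hXn, hLn, hXo, hcop, hcomm, hidx, p, fp, hp5, hiso⟩ := hamb.below H hHtop hns
  set X := X₀.map H.subtype with hX
  set L := L₀.map H.subtype with hL
  have hcX : Nat.card X = Nat.card X₀ := card_map_of_injective H.subtype_injective
  have hcL : Nat.card L = Nat.card L₀ := card_map_of_injective H.subtype_injective
  have hmem : ∀ {g : G}, g ∈ L → g * t = t * g := by
    rintro _ ⟨⟨g, hg⟩, -, rfl⟩; exact mem_centralizer_singleton_iff.1 hg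
  have hnorm : ∀ (A : Subgroup H), A.Normal → ∀ h : G, h * t = t * h →
      ∀ a ∈ A.map H.subtype, h * a * h⁻¹ ∈ A.map H.subtype := by
    rintro A hA h hh _ ⟨a, ha, rfl⟩
    exact ⟨⟨h, mem_centralizer_singleton_iff.2 hh⟩ * a * ⟨h, mem_centralizer_singleton_iff.2 hh⟩⁻¹,
      hA.conj_mem a ha _, rfl⟩
  -- `L` contains an involution, hence `t`
  obtain ⟨w, hw⟩ : ∃ w : L₀, orderOf w = 2 := by
    rcases hiso with ⟨⟨e⟩⟩ | ⟨⟨e⟩⟩
    · obtain ⟨u, hu⟩ := psl_exists_involution (p := p) hp5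
      exact ⟨e.symm u, by rw [MulEquiv.orderOf_eq, hu]⟩
    · exact ⟨e.symm (-1), by
        rw [MulEquiv.orderOf_eq]; exact orderOf_two_of_sq neg_one_sq (neg_one_ne_one hp5)⟩
  have htL : t ∈ L := by
    haveI : Fact (Nat.Prime 2) := ⟨Nat.prime_two⟩
    have hle : (S : Subgroup G) ≤ H := fun s hs => mem_centralizer_singleton_iff.2 (hcen s hs)
    have hwo : orderOf ((w : H)) = 2 := by rw [orderOf_coe]; exact hw
    obtain ⟨Q, hQ⟩ := (IsPGroup.of_card (p := 2) (n := 1)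
      (by rw [Nat.card_zpowers, hwo, pow_one]) : IsPGroup 2 (zpowers (w : H))).exists_le_sylow
    obtain ⟨k, hk⟩ := MulAction.exists_smul_eq H Q (S.subtype hle)
    have h1 : k * (w : H) * k⁻¹ ∈ (S.subtype hle : Subgroup H) := by
      rw [← hk]
      exact smul_mem_pointwise_smul _ _ _ (hQ (mem_zpowers _))
    set u : G := ((k * (w : H) * k⁻¹ : H) : G) with hu
    have huS : u ∈ (S : Subgroup G) := h1
    have huL : u ∈ L := ⟨_, hLn.conj_mem _ w.2 k, rfl⟩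
    have huo : orderOf u = 2 := by
      rw [hu, orderOf_coe]; exact ((MulAut.conj k).orderOf_eq (w : H)).trans hwo
    have hu2 := mul_self_of_orderOf_two huo
    obtain ⟨i, hi | hi⟩ := helems u huS
    · have h2 : u ^ 1 = 1 → False := fun e => ne_one_of_orderOf huo one_lt_two (by rwa [pow_one] at e)
      rw [hi, ← pow_add, ← two_mul] at hu2
      have hd : 2 ^ (N - 1) * 2 ∣ i * 2 := by
        rw [h2N, mul_comm i, ← hoσ]; exact orderOf_dvd_of_pow_eq_one hu2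
      obtain ⟨j, rfl⟩ := (Nat.mul_dvd_mul_iff_right two_pos).1 hd
      rcases Nat.even_or_odd j with ⟨l, rfl⟩ | ⟨l, rfl⟩
      · refine (h2 ?_).elim
        rw [hi, pow_one, ← two_mul, ← mul_assoc, h2N, pow_mul, ← hoσ, pow_orderOf_eq_one, one_pow]
      · rw [mul_add, mul_one, ← mul_assoc, h2N, pow_add, pow_mul, ← hoσ, pow_orderOf_eq_one, one_pow,
          one_mul, ← hteq] at hi
        exact hi ▸ huL
    · -- a reflection: its commutator with `σ` lies in `L`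
      have h3 : u * σ * u⁻¹ = σ ^ (2 ^ (N - 1) - 1) := by
        calc u * σ * u⁻¹ = σ ^ i * (τ * σ * τ⁻¹) * (σ ^ i)⁻¹ := by rw [hi]; group
          _ = σ ^ (2 ^ (N - 1) - 1) := by
            rw [hconjτ, ((Commute.refl σ).pow_pow i (2 ^ (N - 1) - 1)).eq, mul_inv_cancel_right]
      have hσH : σ * t = t * σ := hcen σ x.2
      have h4 : σ * u * σ⁻¹ * u⁻¹ ∈ L := mul_mem (hnorm L₀ hLn σ hσH u huL) (inv_mem huL)
      have h5 : σ * u * σ⁻¹ * u⁻¹ = σ * (σ ^ (2 ^ (N - 1) - 1))⁻¹ := by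
        rw [← h3]; group
      rw [h5] at h4
      have h8 : 2 ^ 3 ≤ 2 ^ N := Nat.pow_le_pow_right (by norm_num) hN
      have h6 : σ * (σ ^ (2 ^ (N - 1) - 1))⁻¹ = (σ ^ (2 ^ (N - 1) - 2))⁻¹ := by
        rw [eq_inv_iff_mul_eq_one]
        rw [show 2 ^ (N - 1) - 1 = 2 ^ (N - 1) - 2 + 1 by omega, pow_succ, mul_inv_rev]
        group
      rw [h6] at h4
      have h7 := inv_mem h4
      rw [inv_inv] at h7
      -- `2^(N-1) - 2` is twice an odd number
      have hN4 : 2 ^ (N - 1) = 2 ^ (N - 3) * 4 := by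
        rw [show (4 : ℕ) = 2 ^ 2 by norm_num, ← pow_add, show N - 3 + 2 = N - 1 by omega]
      have h9 := pow_mem h7 (2 ^ (N - 2))
      rw [← pow_mul] at h9
      have h10 : (2 ^ (N - 1) - 2) * 2 ^ (N - 2) = 2 ^ (N - 1) + 2 ^ N * (2 ^ (N - 3) - 1) := by
        obtain ⟨M, rfl⟩ : ∃ M, N = M + 3 := ⟨N - 3, by omega⟩
        simp only [show M + 3 - 1 = M + 2 by omega, show M + 3 - 2 = M + 1 by omega,
          show M + 3 - 3 = M by omega, pow_succ]
        have : 1 ≤ 2 ^ M := Nat.one_le_two_pow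
        obtain ⟨q, hq⟩ : ∃ q, 2 ^ M = q + 1 := ⟨2 ^ M - 1, by omega⟩
        rw [hq, show (q + 1) * 2 * 2 - 2 = 4 * q + 2 by omega, Nat.add_sub_cancel]
        ring
      rwa [h10, pow_add, pow_mul, ← hoσ, pow_orderOf_eq_one, one_pow, mul_one, ← hteq] at h9
  have hsl : Nonempty (L₀ ≃* SL2 p) := by
    rcases hiso with ⟨⟨e⟩⟩ | h
    · exfalso
      obtain ⟨t₀, ht₀, ht₀e⟩ := htL
      have hc : e ⟨t₀, ht₀⟩ ∈ center (PSL2 p) := by
        refine mem_center_iff.2 fun g => ?_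
        obtain ⟨l, rfl⟩ := e.surjective g
        rw [← map_mul, ← map_mul]
        refine congrArg e (Subtype.ext (Subtype.ext ?_))
        show ((l : H) : G) * (t₀ : G) = (t₀ : G) * ((l : H) : G)
        rw [show (t₀ : G) = t from ht₀e]
        exact mem_centralizer_singleton_iff.1 (l : H).2
      have h1 := (map_eq_one_iff e e.injective).1 (psl_center hp5 hc)
      refine ne_one_of_orderOf ht one_lt_two ?_
      rw [← ht₀e]
      exact congrArg (fun q : L₀ => ((q : H) : G)) h1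
    · exact h
  obtain ⟨e₀⟩ := hsl
  obtain ⟨hM1, hM2, hM3, hM4, hM5, hM6⟩ := hM p hp5
  have hsup : ∀ g : H, g ∈ X₀ ⊔ L₀ → ∃ a ∈ X, ∃ l ∈ L, (g : G) = a * l := by
    intro g hg
    haveI := hLn
    rw [← SetLike.mem_coe, mul_normal, Set.mem_mul] at hg
    obtain ⟨a, ha, l, hl, rfl⟩ := hg
    exact ⟨_, ⟨a, ha, rfl⟩, _, ⟨l, hl, rfl⟩, rfl⟩
  refine ⟨{
    amb := hamb, one := hone, S := S, hS := hS, noSyl := hnoSyl, N := N, hN := hN, σ := σ, τ := τ, t := t,
    σ_mem := x.2, τ_mem := y.2, oσ := hoσ, oτ := hττ, τ_out := hτout, conjτ := hconjτ, ht := hteq,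
    elems := helems, S_le := hcen, p := p, fp := fp, hp5 := hp5, X := X, L := L,
    X_le := ?_, L_le := fun g hg => hmem hg, X_norm := hnorm X₀ hXn, L_norm := hnorm L₀ hLn,
    oddX := hcX ▸ hXo, cop := by rw [hcX, hcL]; exact hcop,
    comm := ?_, idx := ?_, e := (L₀.equivMapOfInjective H.subtype H.subtype_injective).symm.trans e₀,
    t_mem := htL, cardAut := hM1, cardSL := hM2, fixInv := hM3, torTwo := hM4, torFour := hM5,
    outer := hM6 }⟩
  · rintro _ ⟨⟨g, hg⟩, -, rfl⟩; exact mem_centralizer_singleton_iff.1 hg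
  · rintro _ ⟨a, ha, rfl⟩ _ ⟨l, hl, rfl⟩
    exact congrArg Subtype.val (hcomm a ha l hl)
  · intro a b ha hb hna hnb
    set a' : H := ⟨a, mem_centralizer_singleton_iff.2 ha⟩
    set b' : H := ⟨b, mem_centralizer_singleton_iff.2 hb⟩
    refine hsup (a' * b') ?_
    have ha' : a' ∉ X₀ ⊔ L₀ := fun h => hna (hsup a' h)
    have hb' : b' ∉ X₀ ⊔ L₀ := fun h => hnb (hsup b' h)
    rcases (Nat.dvd_prime Nat.prime_two).1 hidx with h1 | h2
    · exact absurd (show a' ∈ X₀ ⊔ L₀ by rw [index_eq_one.1 h1]; exact mem_top _) ha'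
    · rw [mul_mem_iff_of_index_two h2]; exact iff_of_false ha' hb'

end Cfsg.Agent.Lib.CyclicOddSylow16.SDNon
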