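import Cfsg.Agent.Lib.CyclicOddSylow16.Spec
import Cfsg.Agent.Lib.Chars.Ops
import Cfsg.Agent.Lib.Chars.Induced
import Cfsg.Agent.Lib.Chars.Completeness

/-!
# S4069, brick SD NONSOLVABLE: the norm three system on a cyclic subgroup inverted by an involution

The system of `EightSys` for the data listed in `Cyc` (no assumption on the Sylow 2-subgroup).
-/

set_option autoImplicit false

namespace Cfsg.Agent.Lib.CyclicOddSylow16.SDNon

open Cfsg Cfsg.Agent.Lib Subgroup
open scoped ComplexConjugate

universe u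

/-- A cyclic subgroup `A`, a subgroup `W` of index three and an involution inverting `A`. -/
structure Cyc (G : Type u) [Group G] where
  e : G
  w : ℕ
  W : Subgroup G
  A : Subgroup G
  three_le : 3 ≤ w
  odd_w : Odd w
  W_le : W ≤ A
  card_W : Nat.card W = w
  card_A : Nat.card A = 3 * w
  cyclic_A : IsCyclic A
  order_e : orderOf e = 2
  inverts : ∀ a ∈ A, e * a * e⁻¹ = a⁻¹
  cent : ∀ a ∈ A, a ∉ W → centralizer ({a} : Set G) = A
  normalizer_A : normalizer (A : Set G) = A ⊔ zpowers e

namespace Cyc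

variable {G : Type u} [Group G] [Finite G] (E : Cyc G)

/-- The trivial intersection set. -/
def dSet : Set G := (E.A : Set G) \ (E.W : Set G)

theorem odd_A : Odd (Nat.card E.A) := by
  rw [E.card_A]; exact (show Odd 3 by decide).mul E.odd_w

theorem odd_order {a : G} (ha : a ∈ E.A) : Odd (orderOf a) := by
  rw [← Subgroup.orderOf_mk a ha]
  exact (odd_A E).of_dvd_nat (orderOf_dvd_natCard _)

theorem not_mem_A {v : G} (hv : orderOf v = 2) : v ∉ E.A := fun h => by
  have := odd_order E h
  rw [hv] at this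
  exact absurd this (by decide)

theorem ee : E.e * E.e = 1 := by rw [← pow_two, ← E.order_e, pow_orderOf_eq_one]

theorem e_inv : E.e⁻¹ = E.e := inv_eq_of_mul_eq_one_right (ee E)

theorem e_mul {a : G} (ha : a ∈ E.A) : E.e * a = a⁻¹ * E.e := by
  rw [← mul_inv_eq_iff_eq_mul]; exact E.inverts a ha

theorem eae {a : G} (ha : a ∈ E.A) : E.e * a * E.e = a⁻¹ := by
  rw [e_mul E ha, mul_assoc, ee E, mul_one]

theorem e_mem : E.e ∈ normalizer (E.A : Set G) := by
  rw [E.normalizer_A]; exact le_sup_right (a := E.A) (mem_zpowers _)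

theorem mem_normalizer {g : G} (hg : g ∈ normalizer (E.A : Set G)) : g ∈ E.A ∨ g * E.e ∈ E.A := by
  have hee : ∀ g : G, g = g * E.e * E.e := fun g => by rw [mul_assoc, ee E, mul_one]
  let K : Subgroup G :=
    { carrier := {g | g ∈ E.A ∨ g * E.e ∈ E.A}
      one_mem' := Or.inl E.A.one_mem
      mul_mem' := by
        rintro a b (ha | ha) (hb | hb)
        · exact Or.inl (mul_mem ha hb)
        · exact Or.inr (by rw [mul_assoc]; exact mul_mem ha hb)
        · refine Or.inr ?_
          have : a * b * E.e = a * E.e * b⁻¹ := by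
            rw [← eae E hb]
            calc a * b * E.e = a * (E.e * E.e) * b * E.e := by rw [ee E, mul_one]
              _ = _ := by group
          rw [this]; exact mul_mem ha (inv_mem hb)
        · refine Or.inl ?_
          have : a * b = a * E.e * (b * E.e)⁻¹ := by
            rw [← eae E hb]
            calc a * b = a * E.e * E.e * (b * E.e * E.e) := by rw [← hee a, ← hee b]
              _ = _ := by group
          rw [this]; exact mul_mem ha (inv_mem hb)
      inv_mem' := by
        rintro a (ha | ha)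
        · exact Or.inl (inv_mem ha)
        · refine Or.inr ?_
          have : a⁻¹ * E.e = E.e * (a * E.e)⁻¹ * E.e := by
            rw [mul_inv_rev, e_inv E, ← mul_assoc, ee E, one_mul]
          rw [this, eae E (inv_mem ha), inv_inv]
          exact ha }
  have hle : E.A ⊔ zpowers E.e ≤ K :=
    sup_le (fun a ha => Or.inl ha) (zpowers_le.2 (Or.inr (by rw [ee E]; exact E.A.one_mem)))
  exact hle (E.normalizer_A ▸ hg)

theorem inv_of_mem {v a : G} (hv : v ∈ normalizer (E.A : Set G)) (hvA : v ∉ E.A) (ha : a ∈ E.A) :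
    v * a * v⁻¹ = a⁻¹ := by
  obtain hx := (mem_normalizer E hv).resolve_left hvA
  obtain ⟨x, hx', rfl⟩ : ∃ x, x ∈ E.A ∧ v = x * E.e :=
    ⟨v * E.e, hx, by rw [mul_assoc, ee E, mul_one]⟩
  have hc := E.cyclic_A
  have hcomm : x * a⁻¹ = a⁻¹ * x := congrArg Subtype.val
    ((IsCyclic.commGroup (α := E.A)).mul_comm ⟨x, hx'⟩ ⟨a⁻¹, inv_mem ha⟩)
  rw [mul_inv_rev, e_inv E, show x * E.e * a * (E.e * x⁻¹) = x * (E.e * a * E.e) * x⁻¹ by group, eae E ha,
    hcomm, mul_inv_cancel_right]

theorem involution {v : G} (hv : v ∈ normalizer (E.A : Set G)) (hvA : v ∉ E.A) : orderOf v = 2 := by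
  obtain ⟨x, hx', rfl⟩ : ∃ x, x ∈ E.A ∧ v = x * E.e :=
    ⟨v * E.e, (mem_normalizer E hv).resolve_left hvA, by rw [mul_assoc, ee E, mul_one]⟩
  refine orderOf_eq_prime ?_ fun h => hvA (h ▸ E.A.one_mem)
  rw [pow_two, show x * E.e * (x * E.e) = x * (E.e * x * E.e) by group, eae E hx', mul_inv_cancel]

theorem cent_d {a : G} (ha : a ∈ dSet E) : centralizer ({a} : Set G) = E.A := E.cent a ha.1 ha.2

theorem inv_mem_dSet {a : G} (ha : a ∈ dSet E) : a⁻¹ ∈ dSet E :=
  ⟨inv_mem ha.1, fun h => ha.2 (inv_inv a ▸ inv_mem h)⟩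

theorem ti {g y : G} (hy : y ∈ dSet E) (hg : g * y * g⁻¹ ∈ dSet E) : g ∈ normalizer (E.A : Set G) := by
  rw [mem_normalizer_iff]
  intro h
  show h ∈ E.A ↔ g * h * g⁻¹ ∈ E.A
  have h1 : (h ∈ E.A) ↔ h * y = y * h := by rw [← cent_d E hy, mem_centralizer_singleton_iff]
  have h2 : (g * h * g⁻¹ ∈ E.A) ↔ g * h * g⁻¹ * (g * y * g⁻¹) = g * y * g⁻¹ * (g * h * g⁻¹) := by
    rw [← cent_d E hg, mem_centralizer_singleton_iff]
  rw [h1, h2]
  constructor
  · intro e
    rw [show g * h * g⁻¹ * (g * y * g⁻¹) = g * (h * y) * g⁻¹ by group, e]; group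
  · intro e
    have := congrArg (fun u => g⁻¹ * u * g) e
    simpa [mul_assoc] using this

theorem invPairs_eq {a : G} (ha : a ∈ dSet E) : invPairs a = 3 * E.w := by
  rw [invPairs, ← E.card_A]
  refine (Nat.card_congr (Equiv.ofBijective
    (fun x : E.A => (⟨(x : G) * E.e, ?_, ?_⟩ : {v : G // orderOf v = 2 ∧ orderOf (v * a) = 2})) ⟨?_, ?_⟩)).symm
  · exact involution E (mul_mem (le_normalizer x.2) (e_mem E)) fun h => not_mem_A E E.order_e
      (by simpa using mul_mem (inv_mem x.2) h)
  · refine involution E (mul_mem (mul_mem (le_normalizer x.2) (e_mem E)) (le_normalizer ha.1)) fun h =>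
      not_mem_A E E.order_e ?_
    simpa [mul_assoc] using mul_mem (mul_mem (inv_mem x.2) h) (inv_mem ha.1)
  · intro x y h
    exact Subtype.ext (mul_right_cancel (congrArg Subtype.val h))
  · rintro ⟨v, hv, hva⟩
    have hv2 : v * v = 1 := by rw [← pow_two, ← hv, pow_orderOf_eq_one]
    have hvi : v⁻¹ = v := inv_eq_of_mul_eq_one_right hv2
    have hva2 : v * a * (v * a) = 1 := by rw [← pow_two, ← hva, pow_orderOf_eq_one]
    have hvav : v * a * v⁻¹ = a⁻¹ := by
      rw [hvi]
      exact eq_inv_of_mul_eq_one_left (by rw [mul_assoc]; exact hva2)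
    have hvN := ti E ha (hvav ▸ inv_mem_dSet E ha)
    exact ⟨⟨v * E.e, (mem_normalizer E hvN).resolve_left (not_mem_A E hv)⟩,
      Subtype.ext (by show v * E.e * E.e = v; rw [mul_assoc, ee E, mul_one])⟩

theorem mem_W_iff {a : G} (ha : a ∈ E.A) : a ∈ E.W ↔ a ^ E.w = 1 := by
  classical
  constructor
  · intro h
    have := pow_card_eq_one' (x := (⟨a, h⟩ : E.W))
    rw [E.card_W] at this
    exact congrArg Subtype.val this
  · intro h
    have hc := E.cyclic_A
    have hw : 0 < E.w := by have := E.three_le; omega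
    let := Fintype.ofFinite E.A
    let := Fintype.ofFinite E.W
    have hsub : (Finset.univ.image fun x : E.W => (⟨(x : G), E.W_le x.2⟩ : E.A)) ⊆
        Finset.univ.filter fun x : E.A => x ^ E.w = 1 := by
      intro x hx
      obtain ⟨y, -, rfl⟩ := Finset.mem_image.1 hx
      refine Finset.mem_filter.2 ⟨Finset.mem_univ _, Subtype.ext ?_⟩
      have := pow_card_eq_one' (x := y)
      rw [E.card_W] at this
      have h' := congrArg Subtype.val this
      simpa using h'
    have hinj : Function.Injective (fun x : E.W => (⟨(x : G), E.W_le x.2⟩ : E.A)) :=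
      fun p q e => Subtype.ext (congrArg (fun u : E.A => (u : G)) e)
    have heq := Finset.eq_of_subset_of_card_le hsub (by
      rw [Finset.card_image_of_injective _ hinj,
        Finset.card_univ, ← Nat.card_eq_fintype_card, E.card_W]
      exact IsCyclic.card_pow_eq_one_le hw)
    have : (⟨a, ha⟩ : E.A) ∈ Finset.univ.filter fun x : E.A => x ^ E.w = 1 :=
      Finset.mem_filter.2 ⟨Finset.mem_univ _, Subtype.ext h⟩
    rw [← heq] at this
    obtain ⟨y, -, hy⟩ := Finset.mem_image.1 this
    rw [← show (y : G) = a from congrArg Subtype.val hy]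
    exact y.2

open Classical in
/-- The function of the system. -/
noncomputable def theta (x : normalizer (E.A : Set G)) : ℂ := if (x : G) ∈ dSet E then 3 else 0

theorem theta_gen : IsGeneralizedCharacter (normalizer (E.A : Set G)) (theta E) := by
  classical
  obtain ⟨N, hN⟩ : ∃ N, N = normalizer (E.A : Set G) := ⟨_, rfl⟩
  have hAN : E.A ≤ N := hN ▸ le_normalizer
  obtain ⟨g₀, hg₀⟩ := E.cyclic_A.exists_generator
  have hg₀o : orderOf g₀ = 3 * E.w := by
    rw [orderOf_eq_card_of_forall_mem_zpowers hg₀, E.card_A]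
  obtain ⟨ζ, hζ⟩ : ∃ ζ : ℂˣ, IsPrimitiveRoot ζ 3 :=
    ⟨(Complex.isPrimitiveRoot_exp 3 three_ne_zero).isUnit three_ne_zero |>.unit,
      IsPrimitiveRoot.coe_units_iff.1 (Complex.isPrimitiveRoot_exp 3 three_ne_zero)⟩
  have hζd : orderOf ζ ∣ orderOf g₀ := by rw [← hζ.eq_orderOf, hg₀o]; exact dvd_mul_right 3 _
  let lam : E.A →* ℂˣ := monoidHomOfForallMemZpowers hg₀ hζd
  have hlam : ∀ k : ℕ, lam (g₀ ^ k) = ζ ^ k := fun k => by
    rw [map_pow, monoidHomOfForallMemZpowers_apply_gen]
  let M : Subgroup N := E.A.subgroupOf N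
  let l : M →* ℂˣ := lam.comp (subgroupOfEquivOfLe hAN).toMonoidHom
  let μ : M → ℂ := (fun _ => 1) - fun x => (l x : ℂ)
  subst hN
  let := Fintype.ofFinite (normalizer (E.A : Set G))
  have hgen : IsGeneralizedCharacter (normalizer (E.A : Set G)) (indFun M μ) := by
    rw [Chars.indFun_sub]
    exact Chars.isGeneralizedCharacter_sub
      (Chars.isGeneralizedCharacter_of_isCharacter
        (Chars.isCharacter_indFun M (Chars.irr_isCharacter (Chars.trivialIrr M))))
      (Chars.isGeneralizedCharacter_of_isCharacter (Chars.isCharacter_indFun M (Chars.isCharacter_hom l)))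
  convert hgen using 1
  funext x
  have hterm : ∀ y : normalizer (E.A : Set G), extendByZero M μ (y⁻¹ * x * y) =
      if hx : (x : G) ∈ E.A then
        (if (y : G) ∈ E.A then 1 - (lam ⟨x, hx⟩ : ℂ) else 1 - ((lam ⟨x, hx⟩)⁻¹ : ℂˣ)) else 0 := by
    intro y
    by_cases hx : (x : G) ∈ E.A
    · rw [dif_pos hx]
      by_cases hy : (y : G) ∈ E.A
      · rw [if_pos hy]
        have hc := E.cyclic_A
        have hcomm : (x : G) * y = y * x := congrArg Subtype.val
          ((IsCyclic.commGroup (α := E.A)).mul_comm ⟨x, hx⟩ ⟨y, hy⟩)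
        have hyx : y⁻¹ * x * y = x := Subtype.ext (by
          show (y : G)⁻¹ * x * y = x
          rw [mul_assoc, hcomm, inv_mul_cancel_left])
        rw [hyx, Chars.extendByZero_of_mem _ (show x ∈ M from mem_subgroupOf.2 hx)]
        rfl
      · rw [if_neg hy]
        have hval : ((y⁻¹ * x * y : normalizer (E.A : Set G)) : G) = (x : G)⁻¹ := by
          show (y : G)⁻¹ * x * y = (x : G)⁻¹
          have h := inv_of_mem E (inv_mem y.2) (fun h => hy (inv_inv (y : G) ▸ inv_mem h)) hx
          rwa [inv_inv] at h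
        rw [Chars.extendByZero_of_mem _ (show y⁻¹ * x * y ∈ M from mem_subgroupOf.2 (by
          rw [hval]; exact inv_mem hx))]
        show (1 : ℂ) - (lam ⟨_, _⟩ : ℂ) = _
        rw [← map_inv]
        congr 3
        exact Subtype.ext hval
    · rw [dif_neg hx, Chars.extendByZero_of_not_mem]
      intro h
      have h' : (y : G)⁻¹ * x * y ∈ E.A := mem_subgroupOf.1 h
      apply hx
      have h'' := ((mem_normalizer_iff.1 y.2) _).1 h'
      simpa [mul_assoc] using h''
  have hM : (Nat.card M : ℂ) = 3 * E.w := by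
    rw [Nat.card_congr (subgroupOfEquivOfLe hAN).toEquiv, E.card_A]; norm_num
  have hM0 : (Nat.card M : ℂ) ≠ 0 := Nat.cast_ne_zero.mpr Nat.card_pos.ne'
  simp only [indFun, hterm]
  by_cases hx : (x : G) ∈ E.A
  · simp only [dif_pos hx]
    rw [Finset.sum_ite, Finset.sum_const, Finset.sum_const, nsmul_eq_mul, nsmul_eq_mul]
    have hin : (Finset.univ.filter fun y : normalizer (E.A : Set G) => (y : G) ∈ E.A).card = Nat.card M := by
      rw [Nat.card_eq_fintype_card, Fintype.card_subtype]
      congr 1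
    have hout : (Finset.univ.filter fun y : normalizer (E.A : Set G) => ¬ (y : G) ∈ E.A).card = Nat.card M := by
      rw [← hin]
      refine Finset.card_nbij' (fun y => y * ⟨E.e, e_mem E⟩) (fun y => y * ⟨E.e, e_mem E⟩) ?_ ?_ ?_ ?_
      · intro y hy
        simp only [Finset.coe_filter, Finset.mem_univ, true_and, Set.mem_setOf_eq] at hy ⊢
        exact (mem_normalizer E y.2).resolve_left hy
      · intro y hy
        simp only [Finset.coe_filter, Finset.mem_univ, true_and, Set.mem_setOf_eq] at hy ⊢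
        intro h
        exact not_mem_A E E.order_e (by simpa using mul_mem (inv_mem hy) h)
      · intro y _; exact Subtype.ext (by show (y : G) * E.e * E.e = y; rw [mul_assoc, ee E, mul_one])
      · intro y _; exact Subtype.ext (by show (y : G) * E.e * E.e = y; rw [mul_assoc, ee E, mul_one])
    rw [hin, hout, ← mul_add, ← mul_assoc, inv_mul_cancel₀ hM0, one_mul]
    obtain ⟨k, hk⟩ := Submonoid.mem_powers_iff _ _ |>.1 (mem_powers_iff_mem_zpowers.2 (hg₀ ⟨x, hx⟩))
    have hW : (x : G) ∈ E.W ↔ 3 ∣ k := by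
      rw [mem_W_iff E hx, show (x : G) = ((g₀ ^ k : E.A) : G) by rw [hk], ← SubgroupClass.coe_pow,
        OneMemClass.coe_eq_one, ← pow_mul, ← orderOf_dvd_iff_pow_eq_one, hg₀o]
      exact Nat.mul_dvd_mul_iff_right (by have := E.three_le; omega)
    rw [show lam ⟨x, hx⟩ = ζ ^ k by rw [← hk, hlam], Units.val_inv_eq_inv_val, Units.val_pow_eq_pow_val]
    have hζc : IsPrimitiveRoot (ζ : ℂ) 3 := IsPrimitiveRoot.coe_units_iff.2 hζ
    have hz3 : (ζ : ℂ) ^ 3 = 1 := hζc.pow_eq_one
    have hs : 1 + (ζ : ℂ) + (ζ : ℂ) ^ 2 = 0 := by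
      have := hζc.geom_sum_eq_zero (by norm_num)
      simpa [Finset.sum_range_succ] using this
    have hkm : (ζ : ℂ) ^ k = (ζ : ℂ) ^ (k % 3) := by
      conv_lhs => rw [← Nat.mod_add_div k 3, pow_add, pow_mul, hz3, one_pow, mul_one]
    rw [theta]
    rcases (by omega : k % 3 = 0 ∨ k % 3 = 1 ∨ k % 3 = 2) with h | h | h
    · rw [if_neg fun hd => hd.2 (hW.2 (Nat.dvd_of_mod_eq_zero h)), hkm, h]; simp
    · rw [if_pos ⟨hx, fun hw => by have := Nat.mod_eq_zero_of_dvd (hW.1 hw); omega⟩, hkm, h, pow_one,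
        inv_eq_of_mul_eq_one_right (show (ζ : ℂ) * (ζ : ℂ) ^ 2 = 1 by rw [← pow_succ', hz3])]
      linear_combination hs
    · rw [if_pos ⟨hx, fun hw => by have := Nat.mod_eq_zero_of_dvd (hW.1 hw); omega⟩, hkm, h,
        inv_eq_of_mul_eq_one_right (show (ζ : ℂ) ^ 2 * (ζ : ℂ) = 1 by rw [← pow_succ, hz3])]
      linear_combination hs
  · simp only [dif_neg hx, Finset.sum_const_zero, mul_zero]
    rw [theta, if_neg fun hd => hx hd.1]

theorem card_normalizer : Nat.card (normalizer (E.A : Set G)) = 6 * E.w := by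
  classical
  obtain ⟨f, hf⟩ : ∃ f : Bool × E.A → normalizer (E.A : Set G),
      f = fun q => ⟨(q.2 : G) * (if q.1 then E.e else 1),
        mul_mem (le_normalizer q.2.2) (by split; exact e_mem E; exact one_mem _)⟩ := ⟨_, rfl⟩
  have hb : Function.Bijective f := by
    subst hf
    constructor
    · rintro ⟨a, x⟩ ⟨b, y⟩ h
      have h' : (x : G) * (if a then E.e else 1) = y * (if b then E.e else 1) := congrArg Subtype.val h
      have hne : ∀ p q : E.A, (p : G) * E.e ≠ q := fun p q e => by
        have hp := mul_mem (inv_mem p.2) q.2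
        rw [← e, inv_mul_cancel_left] at hp
        exact not_mem_A E E.order_e hp
      cases a <;> cases b <;> simp at h' <;> simp_all [eq_comm]
    · rintro ⟨v, hv⟩
      rcases mem_normalizer E hv with h | h
      · exact ⟨(false, ⟨v, h⟩), Subtype.ext (by simp)⟩
      · exact ⟨(true, ⟨v * E.e, h⟩), Subtype.ext (by
          show v * E.e * E.e = v; rw [mul_assoc, ee E, mul_one])⟩
  rw [← Nat.card_eq_of_bijective f hb, Nat.card_prod, E.card_A,
    Nat.card_eq_fintype_card, Fintype.card_bool]
  ring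

open Classical in
theorem card_d [Fintype (normalizer (E.A : Set G))] :
    (Finset.univ.filter fun x : normalizer (E.A : Set G) => (x : G) ∈ dSet E).card = 2 * E.w := by
  have h1 : (dSet E).ncard = 2 * E.w := by
    rw [dSet, Set.ncard_diff (fun a ha => E.W_le ha) (Set.toFinite _), ← Nat.card_coe_set_eq,
      ← Nat.card_coe_set_eq, show Nat.card ↥(E.A : Set G) = Nat.card E.A from rfl,
      show Nat.card ↥(E.W : Set G) = Nat.card E.W from rfl, E.card_A, E.card_W]
    omega
  rw [← h1, ← Set.ncard_coe_finset, ← Set.ncard_image_of_injective _ Subtype.val_injective]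
  congr 1
  ext g
  simp only [Finset.coe_filter, Finset.mem_univ, true_and, Set.mem_image, Set.mem_setOf_eq]
  exact ⟨fun ⟨a, ha, e⟩ => e ▸ ha, fun hg => ⟨⟨g, le_normalizer hg.1⟩, hg, rfl⟩⟩

theorem off {t : G} (ht : orderOf t = 2) {g : G} : g * t * g⁻¹ ∉ dSet E := fun h => by
  refine not_mem_A E ?_ h.1
  rw [← MulAut.conj_apply, MulEquiv.orderOf_eq, ht]

/-- The system. -/
noncomputable def sys [Fintype G] {t : G} (ht : orderOf t = 2) : Sys G t where
  N := normalizer (E.A : Set G)
  fN := Fintype.ofFinite _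
  D := dSet E
  θ := theta E
  gen := theta_gen E
  supp x hx := by
    by_contra h
    exact hx (by rw [theta, if_neg h])
  ti g y hy hg := ti E hy hg
  one := by
    rw [theta, if_neg]
    exact fun h => h.2 E.W.one_mem
  norm := by
    classical
    let := Fintype.ofFinite (normalizer (E.A : Set G))
    have hw : (E.w : ℂ) ≠ 0 := by have := E.three_le; exact_mod_cast (show E.w ≠ 0 by omega)
    rw [classInner, card_normalizer E]
    simp only [theta, apply_ite (conj : ℂ → ℂ), map_ofNat, map_zero, ite_mul, zero_mul, mul_ite, mul_zero,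
      ← ite_and, and_self, Finset.sum_ite, Finset.sum_const, card_d E, smul_zero, add_zero, nsmul_eq_mul]
    push_cast
    field_simp
    norm_num
  triv := by
    classical
    let := Fintype.ofFinite (normalizer (E.A : Set G))
    have hw : (E.w : ℂ) ≠ 0 := by have := E.three_le; exact_mod_cast (show E.w ≠ 0 by omega)
    rw [classInner, card_normalizer E]
    simp only [theta, map_one, mul_one, Finset.sum_ite, Finset.sum_const, card_d E, smul_zero, add_zero,
      nsmul_eq_mul]
    push_cast
    field_simp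
    norm_num
  off g := off E ht

theorem count_sys [Fintype G] {t : G} (ht : orderOf t = 2) : (sys E ht).count = 3 * (E.w : ℂ) := by
  classical
  let := Fintype.ofFinite (normalizer (E.A : Set G))
  have hw : (E.w : ℂ) ≠ 0 := by have := E.three_le; exact_mod_cast (show E.w ≠ 0 by omega)
  show (Nat.card (normalizer (E.A : Set G)) : ℂ)⁻¹ *
    ∑ᶠ x : normalizer (E.A : Set G), (invPairs (x : G) : ℂ) * theta E x = _
  rw [finsum_eq_sum_of_fintype, card_normalizer E,
    Finset.sum_congr rfl fun (x : normalizer (E.A : Set G)) _ => show (invPairs (x : G) : ℂ) * theta E x =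
      if (x : G) ∈ dSet E then 9 * (E.w : ℂ) else 0 by
        rw [theta]; split
        · next h => rw [invPairs_eq E h]; push_cast; ring
        · ring,
    Finset.sum_ite, Finset.sum_const, Finset.sum_const, card_d E, smul_zero, add_zero, nsmul_eq_mul]
  push_cast
  field_simp
  norm_num

end Cfsg.Agent.Lib.CyclicOddSylow16.SDNon.Cyc
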