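import Cfsg.Agent.Lib.CyclicOddSylow16.Spec
import Cfsg.Agent.Lib.HalfPSL.PSLFacts

/-!
# S4069, brick SD NONSOLVABLE: elementary facts on `SL₂(p)`, `PSL₂(p)` and general helpers
-/

set_option autoImplicit false

namespace Cfsg.Agent.Lib.CyclicOddSylow16.SDNon

open Subgroup
open scoped Pointwise

section SL

variable {p : ℕ} [Fact p.Prime]

theorem two_ne_zero_zmod (hp5 : 5 ≤ p) : (2 : ZMod p) ≠ 0 := fun h => by
  have h' : ((2 : ℕ) : ZMod p) = 0 := by exact_mod_cast h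
  rw [ZMod.natCast_eq_zero_iff] at h'
  have := Nat.le_of_dvd (by norm_num) h'
  omega

/-- An element of order four. -/
def quA (p : ℕ) [Fact p.Prime] : SL2 p := ⟨!![0, 1; -1, 0], by rw [Matrix.det_fin_two_of]; ring⟩

/-- An element of order three. -/
def thr (p : ℕ) [Fact p.Prime] : SL2 p := ⟨!![0, -1; 1, -1], by rw [Matrix.det_fin_two_of]; ring⟩

theorem quA_sq : quA p * quA p = -1 := by
  apply Subtype.ext
  rw [Matrix.SpecialLinearGroup.coe_mul, Matrix.SpecialLinearGroup.coe_neg,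
    Matrix.SpecialLinearGroup.coe_one]
  ext i j; fin_cases i <;> fin_cases j <;> simp [quA, Matrix.mul_apply, Fin.sum_univ_two]

theorem neg_one_ne_one (hp5 : 5 ≤ p) : (-1 : SL2 p) ≠ 1 := fun h => by
  have h1 : ((-1 : SL2 p) : Matrix (Fin 2) (Fin 2) (ZMod p)) 0 0 =
      ((1 : SL2 p) : Matrix (Fin 2) (Fin 2) (ZMod p)) 0 0 := by rw [h]
  simp at h1
  exact two_ne_zero_zmod hp5 (by linear_combination -h1)

theorem neg_one_sq : (-1 : SL2 p) * (-1) = 1 := by
  apply Subtype.ext; simp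

theorem eq_neg_one_of_sq (hp5 : 5 ≤ p) {k : SL2 p} (h : k * k = 1) (h1 : k ≠ 1) : k = -1 := by
  have h2 := two_ne_zero_zmod hp5
  have hM : ∀ i j, ((k : Matrix (Fin 2) (Fin 2) (ZMod p)) * k) i j =
      (1 : Matrix (Fin 2) (Fin 2) (ZMod p)) i j := by
    intro i j
    rw [← Matrix.SpecialLinearGroup.coe_mul, h, Matrix.SpecialLinearGroup.coe_one]
  have hd : (k : Matrix (Fin 2) (Fin 2) (ZMod p)).det = 1 := k.2
  rw [Matrix.det_fin_two] at hd
  set a := (k : Matrix (Fin 2) (Fin 2) (ZMod p)) 0 0 with ha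
  set b := (k : Matrix (Fin 2) (Fin 2) (ZMod p)) 0 1 with hb
  set c := (k : Matrix (Fin 2) (Fin 2) (ZMod p)) 1 0 with hc
  set d := (k : Matrix (Fin 2) (Fin 2) (ZMod p)) 1 1 with hd'
  have e00 : a * a + b * c = 1 := by simpa [Matrix.mul_apply, Fin.sum_univ_two] using hM 0 0
  have e01 : a * b + b * d = 0 := by simpa [Matrix.mul_apply, Fin.sum_univ_two] using hM 0 1
  have e10 : c * a + d * c = 0 := by simpa [Matrix.mul_apply, Fin.sum_univ_two] using hM 1 0
  have ht : a + d ≠ 0 := fun h0 => h2 (by linear_combination a * h0 - e00 - hd)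
  have hb0 : b = 0 := (mul_eq_zero.1 (by linear_combination e01 : b * (a + d) = 0)).resolve_right ht
  have hc0 : c = 0 := (mul_eq_zero.1 (by linear_combination e10 : c * (a + d) = 0)).resolve_right ht
  have had : a * d = 1 := by linear_combination hd + c * hb0
  have haa : a * a = 1 := by linear_combination e00 - c * hb0
  have hda : d = a := by linear_combination a * had - d * haa
  rcases mul_self_eq_one_iff.1 haa with e | e
  · refine absurd (Subtype.ext ?_) h1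
    ext i j; fin_cases i <;> fin_cases j <;>
      simp [← ha, ← hb, ← hc, ← hd', e, hb0, hc0, hda]
  · apply Subtype.ext
    ext i j; fin_cases i <;> fin_cases j <;>
      simp [← ha, ← hb, ← hc, ← hd', e, hb0, hc0, hda]

theorem center_cases (hp5 : 5 ≤ p) {z : SL2 p} (hz : z ∈ center (SL2 p)) : z = 1 ∨ z = -1 := by
  obtain ⟨r, hr, hrz⟩ := Matrix.SpecialLinearGroup.mem_center_iff.1 hz
  rw [Fintype.card_fin] at hr
  by_cases h1 : z = 1
  · exact Or.inl h1
  · refine Or.inr (eq_neg_one_of_sq hp5 (Subtype.ext ?_) h1)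
    rw [Matrix.SpecialLinearGroup.coe_mul, Matrix.SpecialLinearGroup.coe_one, ← hrz, ← map_mul,
      ← pow_two, hr, map_one]

theorem neg_one_mem_center : (-1 : SL2 p) ∈ center (SL2 p) :=
  mem_center_iff.2 fun g => Subtype.ext (by simp)

/-- A partner of `quA`. -/
theorem exists_anti : ∃ b : SL2 p, b * b = -1 ∧ b * quA p = -(quA p * b) := by
  obtain ⟨α, β, h⟩ := ZMod.sq_add_sq p (-1 : ZMod p)
  obtain ⟨b, hb⟩ : ∃ b : SL2 p, (b : Matrix (Fin 2) (Fin 2) (ZMod p)) = !![α, β; β, -α] :=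
    ⟨⟨_, by rw [Matrix.det_fin_two_of]; linear_combination -h⟩, rfl⟩
  refine ⟨b, ?_, ?_⟩
  · apply Subtype.ext
    rw [Matrix.SpecialLinearGroup.coe_mul, Matrix.SpecialLinearGroup.coe_neg,
      Matrix.SpecialLinearGroup.coe_one]
    ext i j
    fin_cases i <;> fin_cases j <;> simp [hb, Matrix.mul_apply, Fin.sum_univ_two] <;>
      first | linear_combination h | ring
  · apply Subtype.ext
    rw [Matrix.SpecialLinearGroup.coe_mul, Matrix.SpecialLinearGroup.coe_neg,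
      Matrix.SpecialLinearGroup.coe_mul]
    ext i j
    fin_cases i <;> fin_cases j <;> simp [hb, quA, Matrix.mul_apply, Fin.sum_univ_two]

theorem orderOf_of_sq_neg_one (hp5 : 5 ≤ p) {k : SL2 p} (h : k * k = -1) : orderOf k = 4 := by
  have : Fact (Nat.Prime 2) := ⟨Nat.prime_two⟩
  refine orderOf_eq_prime_pow (p := 2) (n := 1) ?_ ?_
  · rw [pow_one, pow_two, h]; exact neg_one_ne_one hp5
  · rw [show (2 : ℕ) ^ (1 + 1) = 2 * 2 by norm_num, pow_mul, pow_two, pow_two, h, neg_one_sq]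

theorem thr_cube : thr p ^ 3 = 1 := by
  rw [pow_succ, pow_two]
  apply Subtype.ext
  rw [Matrix.SpecialLinearGroup.coe_mul, Matrix.SpecialLinearGroup.coe_mul, Matrix.SpecialLinearGroup.coe_one]
  ext i j; fin_cases i <;> fin_cases j <;> simp [thr, Matrix.mul_apply, Fin.sum_univ_two]

theorem thr_not_central : thr p ∉ center (SL2 p) := fun h => by
  obtain ⟨r, -, hr⟩ := Matrix.SpecialLinearGroup.mem_center_iff.1 h
  have h1 := congrFun (congrFun hr 1) 0
  simp [thr] at h1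

theorem quA_not_central : quA p ∉ center (SL2 p) := fun h => by
  obtain ⟨r, -, hr⟩ := Matrix.SpecialLinearGroup.mem_center_iff.1 h
  have h1 := congrFun (congrFun hr 0) 1
  simp [quA] at h1

/-- The projection. -/
def toPSL (p : ℕ) [Fact p.Prime] : SL2 p →* PSL2 p := QuotientGroup.mk' _

theorem toPSL_eq_one {g : SL2 p} : toPSL p g = 1 ↔ g ∈ center (SL2 p) :=
  QuotientGroup.eq_one_iff g

theorem psl_center (hp5 : 5 ≤ p) {z : PSL2 p} (hz : z ∈ center (PSL2 p)) : z = 1 := by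
  have h : center (PSL2 p) = ⊥ := Cfsg.Agent.Lib.HalfPSL.center_psl hp5
  rw [h] at hz
  exact mem_bot.1 hz

theorem psl_exists_involution (hp5 : 5 ≤ p) : ∃ u : PSL2 p, orderOf u = 2 := by
  refine ⟨toPSL p (quA p), orderOf_eq_prime ?_ fun h => quA_not_central (toPSL_eq_one.1 h)⟩
  rw [pow_two, ← map_mul, quA_sq, toPSL_eq_one]
  exact neg_one_mem_center

theorem psl_exists_three : ∃ u : PSL2 p, orderOf u = 3 := by
  refine ⟨toPSL p (thr p), orderOf_eq_prime ?_ fun h => thr_not_central (toPSL_eq_one.1 h)⟩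
  rw [← map_pow, thr_cube, map_one]

theorem sl_exists_four (hp5 : 5 ≤ p) : ∃ u : SL2 p, orderOf u = 4 :=
  ⟨quA p, orderOf_of_sq_neg_one hp5 quA_sq⟩

theorem tor_facts (hp : p.Prime) (hp5 : 5 ≤ p) :
    tor2 p % 4 = 2 ∧ 4 ∣ tor4 p ∧ tor2 p * tor4 p = (p + 1) * (p - 1) ∧
      tor4 p ≤ tor2 p + 2 ∧ 6 ≤ tor2 p ∧ (¬ 3 ∣ tor2 p → 3 ∣ tor4 p) ∧
      ∀ r : ℕ, r ∣ tor2 p → r ∣ tor4 p → r ∣ 2 := by
  have h2 : p % 2 = 1 := Nat.odd_iff.1 (hp.odd_of_ne_two (by omega))
  have h3 : p % 3 ≠ 0 := fun h => by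
    have := (Nat.prime_dvd_prime_iff_eq Nat.prime_three hp).1 (Nat.dvd_of_mod_eq_zero h)
    omega
  have h4 : 3 ∣ p - 1 ∨ 3 ∣ p + 1 := by
    rcases (by omega : p % 3 = 1 ∨ p % 3 = 2) with e | e
    · exact Or.inl (Nat.dvd_of_mod_eq_zero (by omega))
    · exact Or.inr (Nat.dvd_of_mod_eq_zero (by omega))
  unfold tor2 tor4
  split
  · refine ⟨by omega, by omega, rfl, by omega, by omega, fun h => h4.resolve_right h, fun r ha hb => ?_⟩
    have := Nat.dvd_sub ha hb
    rwa [show p + 1 - (p - 1) = 2 by omega] at this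
  · refine ⟨by omega, by omega, mul_comm _ _, by omega, by omega, fun h => h4.resolve_left h, fun r ha hb => ?_⟩
    have := Nat.dvd_sub hb ha
    rwa [show p + 1 - (p - 1) = 2 by omega] at this

end SL

section General

variable {G : Type*} [Group G]

/-- Elements of order two commute with themselves. -/
theorem mul_self_of_orderOf_two {u : G} (h : orderOf u = 2) : u * u = 1 := by
  rw [← pow_two, ← h, pow_orderOf_eq_one]

theorem orderOf_two_of_sq {u : G} (h : u * u = 1) (h1 : u ≠ 1) : orderOf u = 2 :=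
  orderOf_eq_prime (by rw [pow_two, h]) h1

theorem ne_one_of_orderOf {u : G} {n : ℕ} (h : orderOf u = n) (hn : 1 < n) : u ≠ 1 := fun e => by
  rw [e, orderOf_one] at h; omega

/-- An element of odd order is a square of a power of itself. -/
theorem exists_sqrt {n : G} (h : Odd (orderOf n)) : ∃ m ∈ zpowers n, m * m = n := by
  obtain ⟨k, hk⟩ := h
  refine ⟨n ^ (k + 1), npow_mem_zpowers _ _, ?_⟩
  rw [← pow_add, show k + 1 + (k + 1) = orderOf n + 1 by omega, pow_succ, pow_orderOf_eq_one, one_mul]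

/-- The 2-part of an element. -/
theorem two_part [Finite G] (u : G) : ∃ m, Odd m ∧ ∃ k, orderOf (u ^ m) = 2 ^ k := by
  obtain ⟨k, m, hm, hu⟩ := Nat.exists_eq_two_pow_mul_odd (orderOf_pos u).ne'
  refine ⟨m, hm, k, ?_⟩
  rw [orderOf_pow, hu, Nat.gcd_eq_right (dvd_mul_left m _), Nat.mul_div_cancel _ hm.pos]

theorem odd_card_of_le [Finite G] {A B : Subgroup G} (h : A ≤ B) (hB : Odd (Nat.card B)) :
    Odd (Nat.card A) :=
  Odd.of_dvd_nat hB (card_dvd_of_le h)

theorem odd_orderOf_mem [Finite G] {A : Subgroup G} (hA : Odd (Nat.card A)) {a : G} (ha : a ∈ A) :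
    Odd (orderOf a) :=
  Odd.of_dvd_nat hA (A.orderOf_dvd_natCard ha)

theorem eq_one_of_odd_two {a : G} (ha : Odd (orderOf a)) {k : ℕ} (hk : a ^ 2 ^ k = 1) : a = 1 := by
  obtain ⟨j, -, hj⟩ := (Nat.dvd_prime_pow Nat.prime_two).1 (orderOf_dvd_of_pow_eq_one hk)
  rw [hj] at ha
  rcases Nat.eq_zero_or_pos j with rfl | hj0
  · simpa [orderOf_eq_one_iff] using hj
  · exact absurd ha (by simp [Nat.even_pow, hj0.ne'])

theorem eq_one_of_odd_self_inv {a : G} (ha : Odd (orderOf a)) (h : a = a⁻¹) : a = 1 :=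
  eq_one_of_odd_two ha (k := 1) (by rw [pow_one, pow_two]; nth_rewrite 2 [h]; exact mul_inv_cancel a)

/-- Two normalising elements: their commutator centralises a cyclic subgroup. -/
theorem commutator_centralizes {A : Subgroup G} [IsCyclic A] {u v : G}
    (hu : ∀ a ∈ A, u * a * u⁻¹ ∈ A) (hv : ∀ a ∈ A, v * a * v⁻¹ ∈ A)
    (hu' : ∀ a ∈ A, u⁻¹ * a * u ∈ A) (hv' : ∀ a ∈ A, v⁻¹ * a * v ∈ A) {a : G} (ha : a ∈ A) :
    v * u * v⁻¹ * u⁻¹ * a * (v * u * v⁻¹ * u⁻¹)⁻¹ = a := by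
  let fu : A →* A :=
    { toFun := fun a => ⟨u * a * u⁻¹, hu a a.2⟩
      map_one' := Subtype.ext (by simp)
      map_mul' := fun a b => Subtype.ext (by simp [mul_assoc]) }
  let fv : A →* A :=
    { toFun := fun a => ⟨v * a * v⁻¹, hv a a.2⟩
      map_one' := Subtype.ext (by simp)
      map_mul' := fun a b => Subtype.ext (by simp [mul_assoc]) }
  obtain ⟨i, hi⟩ := fu.map_cyclic
  obtain ⟨j, hj⟩ := fv.map_cyclic
  have hiv : ∀ b : A, u * b * u⁻¹ = ((b : G)) ^ i := fun b => by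
    have := congrArg Subtype.val (hi b)
    simpa [fu] using this
  have hjv : ∀ b : A, v * b * v⁻¹ = ((b : G)) ^ j := fun b => by
    have := congrArg Subtype.val (hj b)
    simpa [fv] using this
  have hmem : v⁻¹ * (u⁻¹ * a * u) * v ∈ A := hv' _ (hu' a ha)
  calc v * u * v⁻¹ * u⁻¹ * a * (v * u * v⁻¹ * u⁻¹)⁻¹
      = v * (u * (v⁻¹ * (u⁻¹ * a * u) * v) * u⁻¹) * v⁻¹ := by group
    _ = v * (((⟨_, hmem⟩ : A) ^ i : A) : G) * v⁻¹ := by rw [hiv ⟨_, hmem⟩]; rfl
    _ = (v * (v⁻¹ * (u⁻¹ * a * u) * v) * v⁻¹) ^ i := by rw [SubgroupClass.coe_zpow, conj_zpow]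
    _ = (u⁻¹ * a * u) ^ i := by group
    _ = u * (u⁻¹ * a * u) * u⁻¹ := (hiv ⟨_, hu' a ha⟩).symm
    _ = a := by group

/-- In a finite group with cyclic Sylow subgroups for odd primes, subgroups of order `r` of a subgroup `K` are
conjugate inside `K`. -/
theorem conj_prime [Finite G] (hG : ∀ p : ℕ, p.Prime → p ≠ 2 → ∀ P : Sylow p G, IsCyclic P)
    {K : Subgroup G} {r : ℕ} (hr : r.Prime) (hr2 : r ≠ 2) {a b : G} (ha : a ∈ K) (hb : b ∈ K)
    (hoa : orderOf a = r) (hob : orderOf b = r) : ∃ k ∈ K, k * a * k⁻¹ ∈ zpowers b := by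
  classical
  have : Fact r.Prime := ⟨hr⟩
  have hpg : ∀ (x : K), orderOf (x : G) = r → IsPGroup r (zpowers x) := fun x hx =>
    IsPGroup.of_card (n := 1) (by rw [Nat.card_zpowers, ← orderOf_coe, hx, pow_one])
  obtain ⟨Pb, hPb⟩ := (hpg ⟨b, hb⟩ hob).exists_le_sylow
  obtain ⟨Pa, hPa⟩ := (hpg ⟨a, ha⟩ hoa).exists_le_sylow
  obtain ⟨k, hk⟩ := MulAction.exists_smul_eq K Pa Pb
  refine ⟨(k : G), k.2, ?_⟩
  set Q : Subgroup G := (Pb : Subgroup K).map K.subtype with hQ
  have hQp : IsPGroup r Q := Pb.2.map _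
  obtain ⟨R, hR⟩ := hQp.exists_le_sylow
  haveI : IsCyclic (R : Subgroup G) := hG r hr hr2 R
  have hbQ : b ∈ Q := ⟨⟨b, hb⟩, hPb (mem_zpowers _), rfl⟩
  have haQ : (k : G) * a * (k : G)⁻¹ ∈ Q := by
    refine ⟨k * ⟨a, ha⟩ * k⁻¹, ?_, rfl⟩
    rw [← hk]
    have h1 : MulAut.conj k ⟨a, ha⟩ ∈ MulAut.conj k • (Pa : Subgroup K) :=
      smul_mem_pointwise_smul _ _ _ (hPa (mem_zpowers _))
    exact h1
  haveI : Fintype (R : Subgroup G) := Fintype.ofFinite _
  let B : Finset (R : Subgroup G) := Finset.univ.filter fun x => x ^ r = 1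
  let Z : Finset (R : Subgroup G) := Finset.univ.filter fun x => (x : G) ∈ zpowers b
  have hZB : Z ⊆ B := by
    intro x hx
    simp only [Z, B, Finset.mem_filter, Finset.mem_univ, true_and] at hx ⊢
    obtain ⟨j, hj⟩ := hx
    refine Subtype.ext ?_
    show (x : G) ^ r = 1
    rw [← hj]
    show (b ^ j) ^ r = 1
    rw [← zpow_natCast, ← zpow_mul, mul_comm, zpow_mul, zpow_natCast, ← hob, pow_orderOf_eq_one,
      one_zpow]
  have hZcard : r ≤ Z.card := by
    have hle : zpowers b ≤ (R : Subgroup G) := zpowers_le.2 (hR hbQ)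
    have h1 : Nat.card (zpowers b) ≤ Nat.card {x : (R : Subgroup G) // (x : G) ∈ zpowers b} := by
      refine Nat.card_le_card_of_injective (fun y => ⟨⟨y, hle y.2⟩, y.2⟩) fun y y' h => ?_
      exact Subtype.ext (congrArg (fun q => ((q.1 : (R : Subgroup G)) : G)) h)
    rw [Nat.card_zpowers, hob, Nat.card_eq_fintype_card, Fintype.card_subtype] at h1
    exact h1
  have hBcard : B.card ≤ r := IsCyclic.card_pow_eq_one_le hr.pos
  have heq : Z = B := Finset.eq_of_subset_of_card_le hZB (hBcard.trans hZcard)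
  have hmem : (⟨(k : G) * a * (k : G)⁻¹, hR haQ⟩ : (R : Subgroup G)) ∈ B := by
    simp only [B, Finset.mem_filter, Finset.mem_univ, true_and]
    refine Subtype.ext ?_
    show ((k : G) * a * (k : G)⁻¹) ^ r = 1
    rw [conj_pow, ← hoa, pow_orderOf_eq_one, mul_one, mul_inv_cancel]
  rw [← heq] at hmem
  simp only [Z, Finset.mem_filter, Finset.mem_univ, true_and] at hmem
  exact hmem

end General

end Cfsg.Agent.Lib.CyclicOddSylow16.SDNon
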