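import Cfsg.Agent.Lib.CyclicOddSylow16.SDNon.Ctx

/-!
# S4069, brick SD NONSOLVABLE: an outer involution and the element of order three fusing its four-group

`Loc` records an involution `g` outside `X L` centralising an element `x` of odd prime order `r` dividing the
torus order congruent to two modulo four, and an element `f` of 3-power order centralising `x` and
permuting `t`, `g`, `t g` cyclically.
-/

set_option autoImplicit false

namespace Cfsg.Agent.Lib.CyclicOddSylow16.SDNon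

open Subgroup
open scoped Pointwise

universe u

variable {G : Type u} [Group G] [Finite G]

/-- The fusing data. -/
structure Loc (c : Ctx G) where
  g : G
  g_sq : g * g = 1
  g_out : g ∉ c.XL
  g_H : c.InH g
  g_i : g * c.i * g⁻¹ = c.i⁻¹
  x : G
  r : ℕ
  hr : r.Prime
  hr2 : r ≠ 2
  r_tor : r ∣ tor2 c.p
  three : 3 ∣ tor2 c.p → r = 3
  x_L : x ∈ c.L
  ox : orderOf x = r
  xg : x * g = g * x
  f : G
  f_pow : ∃ k : ℕ, orderOf f = 3 ^ k
  f_t : f * c.t * f⁻¹ = g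
  f_g : f * g * f⁻¹ = c.t * g
  f_x : f * x = x * f
  f_cent : ∀ A : Subgroup G, IsCyclic A →
    (∀ w : G, (∀ v : G, v = c.t ∨ v = g ∨ v = c.t * g → w * v * w⁻¹ = c.t ∨ w * v * w⁻¹ = g ∨
        w * v * w⁻¹ = c.t * g) → w * x * w⁻¹ ∈ zpowers x → ∀ a ∈ A, w * a * w⁻¹ ∈ A) →
      ∀ a ∈ A, f * a = a * f
  n : G
  n_H : c.InH n
  n_g : n * g * n⁻¹ = c.t * g
  n_x : n * x * n⁻¹ ∈ zpowers x

theorem conj_mem_zpowers_symm {x n : G} (h : n * x * n⁻¹ ∈ zpowers x) :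
    ∀ a ∈ zpowers x, n * a * n⁻¹ ∈ zpowers x ∧ n⁻¹ * a * n ∈ zpowers x := by
  have heq : zpowers (n * x * n⁻¹) = zpowers x := by
    refine eq_of_le_of_card_ge (zpowers_le.2 h) ?_
    rw [Nat.card_zpowers, Nat.card_zpowers]
    exact ((MulAut.conj n).orderOf_eq x).ge
  rintro _ ⟨j, rfl⟩
  refine ⟨?_, ?_⟩
  · rw [← conj_zpow]; exact zpow_mem h j
  · obtain ⟨k, hk⟩ : x ^ j ∈ zpowers (n * x * n⁻¹) := heq.symm ▸ zpow_mem_zpowers x j
    refine ⟨k, ?_⟩
    show x ^ k = n⁻¹ * x ^ j * n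
    have hk' : (n * x * n⁻¹) ^ k = x ^ j := hk
    rw [← hk', conj_zpow]
    group

namespace Ctx

variable (c : Ctx G)

/-- The four-group of `t` and a commuting involution. -/
def four (u : G) (hu : c.InH u) (huu : u * u = 1) : Subgroup G where
  carrier := {v | v = 1 ∨ v = c.t ∨ v = u ∨ v = c.t * u}
  one_mem' := Or.inl rfl
  mul_mem' := by
    have h1 : u * c.t = c.t * u := hu
    have h2 : c.t * (c.t * u) = u := by rw [← mul_assoc, c.t_sq, one_mul]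
    have h3 : u * (c.t * u) = c.t := by rw [← mul_assoc, h1, mul_assoc, huu, mul_one]
    have h4 : c.t * u * c.t = u := by rw [mul_assoc, h1, h2]
    have h5 : c.t * u * u = c.t := by rw [mul_assoc, huu, mul_one]
    have h6 : c.t * u * (c.t * u) = 1 := by rw [← mul_assoc, h4, huu]
    rintro a b (rfl | rfl | rfl | rfl) (rfl | rfl | rfl | rfl) <;>
      simp [h1, h2, h3, h4, h5, h6, huu, c.t_sq]
  inv_mem' := by
    have h1 : u * c.t = c.t * u := hu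
    rintro a (rfl | rfl | rfl | rfl)
    · exact Or.inl inv_one
    · exact Or.inr (Or.inl (inv_eq_of_mul_eq_one_right c.t_sq))
    · exact Or.inr (Or.inr (Or.inl (inv_eq_of_mul_eq_one_right huu)))
    · exact Or.inr (Or.inr (Or.inr (by
        rw [mul_inv_rev, inv_eq_of_mul_eq_one_right c.t_sq, inv_eq_of_mul_eq_one_right huu, h1])))

theorem mem_four {u : G} {hu : c.InH u} {huu : u * u = 1} {v : G} :
    v ∈ c.four u hu huu ↔ v = 1 ∨ v = c.t ∨ v = u ∨ v = c.t * u := Iff.rfl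

theorem t_ne_out {u : G} (hout : u ∉ c.XL) : u ≠ c.t ∧ u ≠ 1 ∧ c.t * u ≠ 1 ∧ c.t * u ≠ c.t ∧ c.t * u ≠ u := by
  refine ⟨fun h => hout (h ▸ c.L_le_XL c.t_mem), fun h => hout (h ▸ one_mem _), fun h => hout ?_,
    fun h => hout ?_, fun h => c.t_ne_one (by simpa using h)⟩
  · rw [eq_inv_of_mul_eq_one_right h]; exact inv_mem (c.L_le_XL c.t_mem)
  · have : u = 1 := by simpa using h
    rw [this]; exact one_mem _

theorem card_four {u : G} (hu : c.InH u) (huu : u * u = 1) (hout : u ∉ c.XL) :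
    Nat.card (c.four u hu huu) = 4 := by
  classical
  obtain ⟨h1, h2, h3, h4, h5⟩ := c.t_ne_out hout
  have e : ((c.four u hu huu : Subgroup G) : Set G) = ({1, c.t, u, c.t * u} : Finset G) := by
    ext v; simp [mem_four]
  rw [← SetLike.coe_sort_coe, e, Nat.card_coe_set_eq, Set.ncard_coe_finset]
  rw [Finset.card_insert_of_notMem (by simp [c.t_ne_one.symm, h2.symm, h3.symm]),
    Finset.card_insert_of_notMem (by simp [h1.symm, h4.symm]),
    Finset.card_insert_of_notMem (by simp [h5.symm]), Finset.card_singleton]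

theorem four_isPGroup {u : G} (hu : c.InH u) (huu : u * u = 1) (hout : u ∉ c.XL) :
    IsPGroup 2 (c.four u hu huu) :=
  IsPGroup.of_card (n := 2) (by rw [c.card_four hu huu hout]; norm_num)

theorem four_klein {u : G} (hu : c.InH u) (huu : u * u = 1) (hout : u ∉ c.XL) :
    IsKleinFour (c.four u hu huu) where
  card_four := c.card_four hu huu hout
  exponent_two := by
    have h : ∀ v : c.four u hu huu, v ^ 2 = 1 := by
      rintro ⟨v, hv⟩
      refine Subtype.ext ?_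
      show v ^ 2 = 1
      rw [pow_two]
      rcases c.mem_four.1 hv with rfl | rfl | rfl | rfl
      · exact one_mul 1
      · exact c.t_sq
      · exact huu
      · rw [Commute.mul_mul_mul_comm hu, c.t_sq, huu, one_mul]
    haveI : Nontrivial (c.four u hu huu) :=
      ⟨⟨u, Or.inr (Or.inr (Or.inl rfl))⟩, 1, fun e => (c.t_ne_out hout).2.1 (congrArg Subtype.val e)⟩
    exact Monoid.exponent_eq_prime_iff Nat.prime_two |>.2 fun v hv => orderOf_eq_prime (h v) hv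

theorem mem_cent_four {u : G} {hu : c.InH u} {huu : u * u = 1} {a : G} :
    a ∈ centralizer (c.four u hu huu : Set G) ↔ c.InH a ∧ a * u = u * a := by
  rw [mem_centralizer_iff]
  refine ⟨fun h => ⟨(h c.t (Or.inr (Or.inl rfl))).symm, (h u (Or.inr (Or.inr (Or.inl rfl)))).symm⟩,
    fun ⟨h1, h2⟩ v hv => ?_⟩
  rcases c.mem_four.1 hv with rfl | rfl | rfl | rfl
  · rw [one_mul, mul_one]
  · exact h1.symm
  · exact h2.symm
  · exact (Commute.mul_left (h1 : Commute a c.t).symm (h2 : Commute a u).symm).eq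

/-- The 2-elements centralising an outer involution and `t`. -/
theorem two_in_four {u a : G} {hu : c.InH u} {huu : u * u = 1} (hout : u ∉ c.XL) (ha : c.InH a)
    (hau : a * u = u * a) {k : ℕ} (hk : a ^ 2 ^ k = 1) : a ∈ c.four u hu huu := by
  obtain ⟨m, -, hm⟩ := (Nat.dvd_prime_pow Nat.prime_two).1 (orderOf_dvd_of_pow_eq_one hk)
  have hsq : a * a = 1 := by
    by_contra hne
    have hm2 : 2 ≤ m := by
      by_contra hlt
      refine hne ?_
      rw [← pow_two]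
      refine orderOf_dvd_iff_pow_eq_one.1 (hm ▸ ?_)
      exact pow_dvd_pow 2 (show m ≤ 1 by omega)
    set j := a ^ 2 ^ (m - 2) with hj
    have hjo : orderOf j = 4 := by
      rw [hj, orderOf_pow, hm, Nat.gcd_eq_right (pow_dvd_pow 2 (by omega)),
        Nat.pow_div (by omega) (by norm_num), show m - (m - 2) = 2 by omega]
    obtain ⟨hjL, hjj⟩ := c.four_mem_L (c.inH_pow ha _) hjo
    refine c.t_ne_one (hjj ▸ c.out_no_four hu hout huu (c.L_le_XL hjL) ?_ ?_)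
    · rw [← hjo, pow_orderOf_eq_one]
    · exact ((Commute.pow_left (hau : Commute a u) _).symm).eq
  by_cases haXL : a ∈ c.XL
  · rcases c.eq_t_of_sq (c.two_mem_L (k := 1) haXL (by rw [pow_one, pow_two, hsq])) hsq with e | e
    · exact Or.inl e
    · exact Or.inr (Or.inl e)
  · have h1 : a * u ∈ c.XL := c.out_mul ha hu haXL hout
    have h2 : a * u * (a * u) = 1 := by
      rw [Commute.mul_mul_mul_comm (hau : Commute a u).symm, hsq, huu, one_mul]
    rcases c.eq_t_of_sq (c.two_mem_L (k := 1) h1 (by rw [pow_one, pow_two, h2])) h2 with e | e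
    · refine Or.inr (Or.inr (Or.inl ?_))
      rw [eq_inv_of_mul_eq_one_left e, inv_eq_of_mul_eq_one_right huu]
    · refine Or.inr (Or.inr (Or.inr ?_))
      rw [← e, mul_assoc, huu, mul_one]

/-- No element outside `X L` centralises `L`. -/
theorem no_cent_L {h : G} (hh : c.InH h) (hout : h ∉ c.XL) : ∃ l ∈ c.L, h * l ≠ l * h := by
  by_contra hcon
  push Not at hcon
  obtain ⟨m, hm, k, hk⟩ := two_part h
  have hu : c.InH (h ^ m) := c.inH_pow hh m
  have huout : h ^ m ∉ c.XL := c.odd_pow_out hh hout hm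
  have hcl : ∀ l ∈ c.L, Commute (h ^ m) l := fun l hl => Commute.pow_left (hcon l hl) m
  have h2L : h ^ m * h ^ m ∈ c.L := by
    refine c.two_mem_L (c.out_mul hu hu huout huout) (k := k) ?_
    rw [(Commute.refl (h ^ m)).mul_pow, ← hk, pow_orderOf_eq_one, one_mul]
  have hcen : c.e ⟨_, h2L⟩ ∈ center (SL2 c.p) := by
    refine mem_center_iff.2 fun w => ?_
    obtain ⟨l, rfl⟩ := c.e.surjective w
    rw [← map_mul, ← map_mul]
    exact congrArg c.e (Subtype.ext ((hcl l l.2).symm.mul_right (hcl l l.2).symm).eq)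
  have h4 : (h ^ m) ^ 4 = 1 := by
    rw [show (4 : ℕ) = 2 * 2 from rfl, pow_mul, pow_two, pow_two]
    exact c.e_central_iff h2L hcen
  have huu := c.out2 hu huout h4
  have h1 := c.out_no_four hu huout huu (c.L_le_XL c.i_mem)
    (by rw [← c.orderOf_i, pow_orderOf_eq_one]) (hcl _ c.i_mem).eq
  rw [c.i_sq] at h1
  exact c.t_ne_one h1

/-- Some element outside `X L` centralises a given element of order `r`. -/
theorem exists_out_comm {r : ℕ} (hr : r.Prime) (hr2 : r ≠ 2) (hrt : r ∣ tor2 c.p) {y : G} (hy : y ∈ c.L)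
    (hyo : orderOf y = r) : ∃ u, c.InH u ∧ u ∉ c.XL ∧ u * y = y * u := by
  obtain ⟨γ, hγ, -, hγy⟩ := c.outer (c.e ⟨y, hy⟩) r hr hr2 (by rw [c.orderOf_e]; exact hyo) hrt
  let β : MulAut (SL2 c.p) := (c.e.symm.trans (c.cj c.inH_τ)).trans c.e
  have hβ : ∀ l : c.L, β (c.e l) = c.e (c.cj c.inH_τ l) := fun l => by simp [β]
  have hker : (MulAut.conj : SL2 c.p →* MulAut (SL2 c.p)).ker = center (SL2 c.p) := by
    ext g
    rw [MonoidHom.mem_ker, mem_center_iff, MulEquiv.ext_iff]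
    refine ⟨fun h w => ?_, fun h w => ?_⟩
    · have := h w
      rw [MulAut.conj_apply, MulAut.one_apply, mul_inv_eq_iff_eq_mul] at this
      exact this.symm
    · rw [MulAut.conj_apply, MulAut.one_apply, ← h w, mul_inv_cancel_right]
  have hcen : center (SL2 c.p) = zpowers (-1 : SL2 c.p) := by
    refine le_antisymm (fun z hz => ?_) (zpowers_le.2 neg_one_mem_center)
    rcases center_cases c.hp5 hz with rfl | rfl
    exacts [one_mem _, mem_zpowers _]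
  set I := (MulAut.conj : SL2 c.p →* MulAut (SL2 c.p)).range with hI
  have hidx : I.index = 2 := by
    have h1 := I.card_mul_index
    have h2 := card_eq_card_quotient_mul_card_subgroup (MulAut.conj : SL2 c.p →* MulAut (SL2 c.p)).ker
    rw [Nat.card_congr (QuotientGroup.quotientKerEquivRange _).toEquiv, ← hI, hker, hcen,
      Nat.card_zpowers, orderOf_two_of_sq neg_one_sq (neg_one_ne_one c.hp5), ← c.cardAut, ← h1] at h2
    exact Nat.eq_of_mul_eq_mul_left Nat.card_pos h2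
  have hβI : β ∉ I := by
    rintro ⟨w, hw⟩
    obtain ⟨l, rfl⟩ := c.e.surjective w
    obtain ⟨m, hm, hne⟩ := c.no_cent_L (h := (l : G)⁻¹ * c.τ)
      (c.inH_mul (c.inH_inv (c.L_le l l.2)) c.inH_τ)
      (fun hm => c.τ_not_XL ((mul_mem_cancel_left (inv_mem (c.L_le_XL l.2))).1 hm))
    refine hne ?_
    have h1 := DFunLike.congr_fun hw (c.e ⟨m, hm⟩)
    rw [MulAut.conj_apply, hβ, ← map_inv, ← map_mul, ← map_mul] at h1
    have h2 : (l : G) * m * (l : G)⁻¹ = c.τ * m * c.τ⁻¹ := congrArg Subtype.val (c.e.injective h1)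
    calc (l : G)⁻¹ * c.τ * m = (l : G)⁻¹ * (c.τ * m * c.τ⁻¹) * c.τ := by group
      _ = m * ((l : G)⁻¹ * c.τ) := by rw [← h2]; group
  have hγI : γ ∉ I := fun ⟨w, hw⟩ => hγ w hw.symm
  obtain ⟨w, hw⟩ : β⁻¹ * γ ∈ I := by
    rw [mul_mem_iff_of_index_two hidx, inv_mem_iff]
    exact iff_of_false hβI hγI
  obtain ⟨l, rfl⟩ := c.e.surjective w
  have hγeq : γ = β * MulAut.conj (c.e l) := by rw [hw, mul_inv_cancel_left]
  refine ⟨c.τ * l, c.inH_mul c.inH_τ (c.L_le l l.2),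
    fun hm => c.τ_not_XL ((mul_mem_cancel_right (c.L_le_XL l.2)).1 hm), ?_⟩
  rw [hγeq, MulAut.mul_apply, MulAut.conj_apply, ← map_inv, ← map_mul, ← map_mul, hβ] at hγy
  have h2 : c.τ * ((l : G) * y * (l : G)⁻¹) * c.τ⁻¹ = y := congrArg Subtype.val (c.e.injective hγy)
  calc c.τ * l * y = c.τ * ((l : G) * y * (l : G)⁻¹) * c.τ⁻¹ * (c.τ * l) := by group
    _ = y * (c.τ * l) := by rw [h2]

/-- The fusing data exist. -/
theorem exists_loc (hC : CommonStmt.{u}) : Nonempty (Loc c) := by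
  obtain ⟨htor, -, -, -, h6, -, hgcd⟩ := tor_facts c.fp.out c.hp5
  obtain ⟨r, hr, hr2, hrt, hthree⟩ : ∃ r : ℕ, r.Prime ∧ r ≠ 2 ∧ r ∣ tor2 c.p ∧
      (3 ∣ tor2 c.p → r = 3) := by
    by_cases h3 : 3 ∣ tor2 c.p
    · exact ⟨3, Nat.prime_three, by norm_num, h3, fun _ => rfl⟩
    · have hne : tor2 c.p / 2 ≠ 1 := by omega
      have hd : Nat.minFac (tor2 c.p / 2) ∣ tor2 c.p :=
        (Nat.minFac_dvd (tor2 c.p / 2)).trans (Nat.div_dvd_of_dvd (show 2 ∣ tor2 c.p by omega))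
      refine ⟨_, Nat.minFac_prime hne, fun h2 => ?_, hd, fun h => absurd h h3⟩
      have h22 := Nat.minFac_dvd (tor2 c.p / 2)
      rw [h2] at h22
      omega
  haveI : Fact r.Prime := ⟨hr⟩
  have hrL : r ∣ Nat.card c.L := by
    rw [c.card_L]; exact (hrt.mul_right _).mul_left _
  obtain ⟨y, hyo⟩ := exists_prime_orderOf_dvd_card' (G := c.L) r hrL
  rw [← orderOf_coe] at hyo
  obtain ⟨u, hu, huout, huy⟩ := c.exists_out_comm hr hr2 hrt y.2 hyo
  obtain ⟨m, hm, k, hk⟩ := two_part u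
  set u₀ := u ^ m with hu₀
  have hu₀H : c.InH u₀ := c.inH_pow hu m
  have hu₀out : u₀ ∉ c.XL := c.odd_pow_out hu huout hm
  have hu₀y : Commute u₀ (y : G) := Commute.pow_left (huy : Commute u (y : G)) m
  have h2L : u₀ * u₀ ∈ c.L := by
    refine c.two_mem_L (c.out_mul hu₀H hu₀H hu₀out hu₀out) (k := k) ?_
    rw [(Commute.refl u₀).mul_pow, ← hk, pow_orderOf_eq_one, one_mul]
  have h4 : u₀ ^ 4 = 1 := by
    obtain ⟨hcyc, hcard⟩ := c.torus_two y.2 (by rw [hyo]; exact lt_of_le_of_ne hr.two_le hr2.symm)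
      (by rw [hyo]; exact hrt)
    have hd1 : orderOf (u₀ * u₀) ∣ tor2 c.p :=
      hcard ▸ (c.CL y).orderOf_dvd_natCard (c.mem_CL.2 ⟨h2L, (hu₀y.mul_left hu₀y).eq⟩)
    have hd2 : orderOf (u₀ * u₀) ∣ 2 ^ k := orderOf_dvd_of_pow_eq_one (by
      rw [(Commute.refl u₀).mul_pow, ← hk, pow_orderOf_eq_one, one_mul])
    obtain ⟨a, -, ha⟩ := (Nat.dvd_prime_pow Nat.prime_two).1 hd2
    have ha1 : a ≤ 1 := by
      by_contra h
      have : 4 ∣ tor2 c.p := (show (4 : ℕ) ∣ 2 ^ a from (by norm_num : (4 : ℕ) = 2 ^ 2) ▸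
        pow_dvd_pow 2 (by omega)).trans (ha ▸ hd1)
      omega
    have h2 : (u₀ * u₀) ^ 2 = 1 :=
      orderOf_dvd_iff_pow_eq_one.1 (ha ▸ pow_dvd_pow 2 ha1)
    rw [show (4 : ℕ) = 2 * 2 from rfl, pow_mul, pow_two u₀, h2]
  have hu₀sq := c.out2 hu₀H hu₀out h4
  obtain ⟨h, hh, hgS⟩ := c.elem_conj_S (k := 1) hu₀H (by rw [pow_one, pow_two, hu₀sq])
  set g₀ := h * u₀ * h⁻¹ with hg₀
  set x := h * (y : G) * h⁻¹ with hx
  have hxo : orderOf x = r := ((MulAut.conj h).orderOf_eq (y : G)).trans hyo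
  have hxL : x ∈ c.L := c.L_norm h hh y y.2
  have hg₀sq : g₀ * g₀ = 1 := by
    rw [hg₀, show h * u₀ * h⁻¹ * (h * u₀ * h⁻¹) = h * (u₀ * u₀) * h⁻¹ by group, hu₀sq]; group
  have hg₀out : g₀ ∉ c.XL := fun hm => hu₀out ((c.XL_conj_iff hh).1 hm)
  have hg₀x : x * g₀ = g₀ * x := (hu₀y.symm.map (MulAut.conj h).toMonoidHom).eq
  have hg₀H : c.InH g₀ := c.inH_conj hu₀H hh
  have hg₀i : g₀ * c.i * g₀⁻¹ = c.i⁻¹ := by
    obtain ⟨j, hj | hj⟩ := c.elems g₀ hgS
    · exfalso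
      rw [hj] at hg₀out hg₀sq
      rw [← pow_add, ← two_mul, pow_mul] at hg₀sq
      rw [← pow_mul] at hg₀sq
      have h1 : 2 ^ c.N ∣ 2 * j := c.oσ ▸ orderOf_dvd_of_pow_eq_one hg₀sq
      have hodd : Odd j := Nat.not_even_iff_odd.1 fun he => hg₀out ((c.σ_pow_mem_iff j).2 he)
      have h3 := Nat.le_of_dvd (by norm_num)
        (((Nat.coprime_two_left.2 hodd).pow_left _).dvd_of_dvd_mul_right h1)
      have h8 : 2 ^ 3 ≤ 2 ^ c.N := Nat.pow_le_pow_right (by norm_num) c.hN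
      omega
    · have hc : Commute (c.σ ^ j) c.i⁻¹ :=
        ((Commute.refl c.σ).pow_pow j (2 ^ (c.N - 2))).inv_right
      calc g₀ * c.i * g₀⁻¹ = c.σ ^ j * (c.τ * c.i * c.τ⁻¹) * (c.σ ^ j)⁻¹ := by rw [hj]; group
        _ = c.i⁻¹ := by rw [c.τ_i, hc.eq, mul_inv_cancel_right]
  have hDS : DihOrSD c.S := Or.inr c.hS
  obtain ⟨f₀, hf₀N, hf₀C, hf₀3, -, -⟩ :=
    hC.2.2.2.2.2 G c.amb c.S hDS (c.four g₀ hg₀H hg₀sq) (c.four_klein hg₀H hg₀sq hg₀out)
  -- `f₀` moves `t`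
  obtain ⟨ne1, ne2, ne3, ne4, ne5⟩ := c.t_ne_out hg₀out
  have himg : ∀ v, v ∈ c.four g₀ hg₀H hg₀sq → v ≠ 1 →
      f₀ * v * f₀⁻¹ = c.t ∨ f₀ * v * f₀⁻¹ = g₀ ∨ f₀ * v * f₀⁻¹ = c.t * g₀ := by
    intro v hv hv1
    have h1 : f₀ * v * f₀⁻¹ ∈ c.four g₀ hg₀H hg₀sq := (mem_normalizer_iff.1 hf₀N v).1 hv
    rcases c.mem_four.1 h1 with e | e
    · exact absurd (by simpa using e) hv1
    · exact e
  have hcube : ∀ v, v ∈ c.four g₀ hg₀H hg₀sq →
      f₀ * (f₀ * (f₀ * v * f₀⁻¹) * f₀⁻¹) * f₀⁻¹ = v := by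
    intro v hv
    have h1 := mem_centralizer_iff.1 hf₀3 v hv
    calc f₀ * (f₀ * (f₀ * v * f₀⁻¹) * f₀⁻¹) * f₀⁻¹ = f₀ ^ 3 * v * (f₀ ^ 3)⁻¹ := by
            simp only [pow_succ, pow_zero, one_mul, mul_inv_rev, mul_assoc]
      _ = v := by rw [← h1, mul_inv_cancel_right]
  have hft : f₀ * c.t * f₀⁻¹ ≠ c.t := by
    intro e
    refine hf₀C (c.mem_cent_four.2 ⟨mul_inv_eq_iff_eq_mul.1 e, ?_⟩)
    have h2 := himg g₀ (Or.inr (Or.inr (Or.inl rfl))) ne2
    have h3 := hcube g₀ (Or.inr (Or.inr (Or.inl rfl)))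
    rcases h2 with e2 | e2 | e2
    · exact absurd (mul_left_cancel (mul_right_cancel (e2.trans e.symm))) ne1
    · exact mul_inv_eq_iff_eq_mul.1 e2
    · exfalso
      have e3 : f₀ * (c.t * g₀) * f₀⁻¹ = g₀ := by
        calc f₀ * (c.t * g₀) * f₀⁻¹ = (f₀ * c.t * f₀⁻¹) * (f₀ * g₀ * f₀⁻¹) := by group
          _ = g₀ := by rw [e, e2, ← mul_assoc, c.t_sq, one_mul]
      rw [e2, e3, e2] at h3
      exact ne5 h3
  -- normalise the name of the image of `t`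
  obtain ⟨g, hgsq, hgout, hgH, hgi, hgx, hfour, hft'⟩ : ∃ g, ∃ hgsq : g * g = 1, g ∉ c.XL ∧
      ∃ hgH : c.InH g, g * c.i * g⁻¹ = c.i⁻¹ ∧ x * g = g * x ∧
      c.four g₀ hg₀H hg₀sq = c.four g hgH hgsq ∧ f₀ * c.t * f₀⁻¹ = g := by
    rcases himg c.t (Or.inr (Or.inl rfl)) c.t_ne_one with e | e | e
    · exact absurd e hft
    · exact ⟨g₀, hg₀sq, hg₀out, hg₀H, hg₀i, hg₀x, rfl, e⟩
    · have hgH' : c.InH (c.t * g₀) := c.inH_mul c.inH_t hg₀H
      have hgsq' : c.t * g₀ * (c.t * g₀) = 1 := by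
        rw [Commute.mul_mul_mul_comm hg₀H, c.t_sq, hg₀sq, one_mul]
      refine ⟨c.t * g₀, hgsq', fun hm => hg₀out ((mul_mem_cancel_left (c.L_le_XL c.t_mem)).1 hm),
        hgH', ?_, ?_, ?_, e⟩
      · calc c.t * g₀ * c.i * (c.t * g₀)⁻¹ = c.t * (g₀ * c.i * g₀⁻¹) * c.t⁻¹ := by group
          _ = c.i⁻¹ := by
            rw [hg₀i, ← (Commute.inv_left (c.inH_i : Commute c.i c.t)).eq, mul_inv_cancel_right]
      · exact (Commute.mul_right (c.L_le x hxL : Commute x c.t) hg₀x).eq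
      · ext v
        have h5 : c.t * (c.t * g₀) = g₀ := by rw [← mul_assoc, c.t_sq, one_mul]
        simp only [mem_four, h5]
        tauto
  rw [hfour] at hf₀N hf₀C hcube
  obtain ⟨ne1, ne2, ne3, ne4, ne5⟩ := c.t_ne_out hgout
  have hfg : f₀ * g * f₀⁻¹ = c.t * g := by
    have h1 : f₀ * g * f₀⁻¹ ∈ c.four g hgH hgsq :=
      (mem_normalizer_iff.1 hf₀N g).1 (Or.inr (Or.inr (Or.inl rfl)))
    rcases c.mem_four.1 h1 with e | e | e | e
    · exact absurd (by simpa using e) ne2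
    · exfalso
      have h3 := hcube c.t (Or.inr (Or.inl rfl))
      rw [hft', e, hft'] at h3
      exact ne1 h3
    · exact absurd (mul_left_cancel (mul_right_cancel (e.trans hft'.symm))) ne1
    · exact e
  -- make the two normalising elements normalise `⟨x⟩`
  set V := c.four g hgH hgsq with hV
  have hmoveC : ∀ a ∈ normalizer (V : Set G), ∀ b ∈ centralizer (V : Set G),
      a * b * a⁻¹ ∈ centralizer (V : Set G) := by
    intro a ha b hb
    rw [mem_centralizer_iff] at hb ⊢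
    intro v hv
    have h1 : a⁻¹ * v * a ∈ V := (mem_normalizer_iff''.1 ha v).1 hv
    calc v * (a * b * a⁻¹) = a * ((a⁻¹ * v * a) * b) * a⁻¹ := by group
      _ = a * b * a⁻¹ * v := by rw [hb _ h1]; group
  have hxC : x ∈ centralizer (V : Set G) := c.mem_cent_four.2 ⟨c.L_le x hxL, hgx⟩
  have hiN : c.i ∈ normalizer (V : Set G) := by
    have hitg : c.i * g * c.i⁻¹ = c.t * g := by
      have h1 : g * c.i⁻¹ * g⁻¹ = c.i := by rw [← conj_inv, hgi, inv_inv]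
      have h2 : g * c.i⁻¹ = c.i * g := mul_inv_eq_iff_eq_mul.1 h1
      rw [← h2, mul_assoc, ← mul_inv_rev, c.i_sq, inv_eq_of_mul_eq_one_right c.t_sq]
      exact hgH
    have hit : c.i * c.t * c.i⁻¹ = c.t := mul_inv_eq_iff_eq_mul.2 c.inH_i
    have h1 : ∀ v ∈ V, c.i * v * c.i⁻¹ ∈ V := by
      intro v hv
      rcases c.mem_four.1 hv with rfl | rfl | rfl | rfl
      · rw [mul_one, mul_inv_cancel]; exact one_mem _
      · rw [hit]; exact hv
      · rw [hitg]; exact Or.inr (Or.inr (Or.inr rfl))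
      · rw [show c.i * (c.t * g) * c.i⁻¹ = c.i * c.t * c.i⁻¹ * (c.i * g * c.i⁻¹) by group, hit, hitg]
        rw [← mul_assoc, c.t_sq, one_mul]; exact Or.inr (Or.inr (Or.inl rfl))
    exact mem_normalizer_fintype fun v hv => h1 v hv
  have hK := fun a b => conj_prime (G := G) c.amb.hyp.1 (K := centralizer (V : Set G)) hr hr2 (a := a) (b := b)
  obtain ⟨c₁, hc₁, hn₁⟩ := hK _ _ (hmoveC f₀ hf₀N x hxC) hxC
    (((MulAut.conj f₀).orderOf_eq x).trans hxo) hxo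
  obtain ⟨c₂, hc₂, hn₂⟩ := hK _ _ (hmoveC c.i hiN x hxC) hxC
    (((MulAut.conj c.i).orderOf_eq x).trans hxo) hxo
  set n₁ := c₁ * f₀ with hn₁def
  set n₂ := c₂ * c.i with hn₂def
  have hn₁x : n₁ * x * n₁⁻¹ ∈ zpowers x := by
    rwa [show n₁ * x * n₁⁻¹ = c₁ * (f₀ * x * f₀⁻¹) * c₁⁻¹ by rw [hn₁def]; group]
  have hn₂x : n₂ * x * n₂⁻¹ ∈ zpowers x := by
    rwa [show n₂ * x * n₂⁻¹ = c₂ * (c.i * x * c.i⁻¹) * c₂⁻¹ by rw [hn₂def]; group]
  have hact : ∀ {a b v w : G}, a ∈ centralizer (V : Set G) → b * v * b⁻¹ = w → w ∈ V →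
      a * b * v * (a * b)⁻¹ = w := by
    intro a b v w ha hb hw
    calc a * b * v * (a * b)⁻¹ = a * (b * v * b⁻¹) * a⁻¹ := by group
      _ = w := by rw [hb, ← mem_centralizer_iff.1 ha w hw, mul_inv_cancel_right]
  have htV : c.t ∈ V := Or.inr (Or.inl rfl)
  have hgV : g ∈ V := Or.inr (Or.inr (Or.inl rfl))
  have htgV : c.t * g ∈ V := Or.inr (Or.inr (Or.inr rfl))
  have a1 : n₁ * c.t * n₁⁻¹ = g := hact hc₁ hft' hgV
  have a2 : n₁ * g * n₁⁻¹ = c.t * g := hact hc₁ hfg htgV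
  have a3 : n₁ * (c.t * g) * n₁⁻¹ = c.t := by
    calc n₁ * (c.t * g) * n₁⁻¹ = (n₁ * c.t * n₁⁻¹) * (n₁ * g * n₁⁻¹) := by group
      _ = c.t := by rw [a1, a2, ← mul_assoc, hgH, mul_assoc, hgsq, mul_one]
  have hitg' : c.i * g * c.i⁻¹ = c.t * g := by
    have h1 : g * c.i⁻¹ * g⁻¹ = c.i := by rw [← conj_inv, hgi, inv_inv]
    have h2 : g * c.i⁻¹ = c.i * g := mul_inv_eq_iff_eq_mul.1 h1
    rw [← h2, mul_assoc, ← mul_inv_rev, c.i_sq, inv_eq_of_mul_eq_one_right c.t_sq]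
    exact hgH
  have b1 : n₂ * c.t * n₂⁻¹ = c.t := hact hc₂ (mul_inv_eq_iff_eq_mul.2 c.inH_i) htV
  have b2 : n₂ * g * n₂⁻¹ = c.t * g := hact hc₂ hitg' htgV
  have b3 : n₂ * (c.t * g) * n₂⁻¹ = g := by
    calc n₂ * (c.t * g) * n₂⁻¹ = (n₂ * c.t * n₂⁻¹) * (n₂ * g * n₂⁻¹) := by group
      _ = g := by rw [b1, b2, ← mul_assoc, c.t_sq, one_mul]
  set d := n₂ * n₁ * n₂⁻¹ * n₁⁻¹ with hd
  have inv1 : ∀ {n v w : G}, n * v * n⁻¹ = w → n⁻¹ * w * n = v := fun h => by rw [← h]; group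
  have dt : d * c.t * d⁻¹ = g := by
    calc d * c.t * d⁻¹ = n₂ * (n₁ * (n₂⁻¹ * (n₁⁻¹ * c.t * n₁) * n₂) * n₁⁻¹) * n₂⁻¹ := by rw [hd]; group
      _ = g := by rw [inv1 a3, inv1 b2, a2, b3]
  have dg : d * g * d⁻¹ = c.t * g := by
    calc d * g * d⁻¹ = n₂ * (n₁ * (n₂⁻¹ * (n₁⁻¹ * g * n₁) * n₂) * n₁⁻¹) * n₂⁻¹ := by rw [hd]; group
      _ = c.t * g := by rw [inv1 a1, inv1 b1, a1, b2]
  have hz1 := conj_mem_zpowers_symm hn₁x
  have hz2 := conj_mem_zpowers_symm hn₂x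
  have dx : d * x * d⁻¹ = x := commutator_centralizes (A := zpowers x) (fun a ha => (hz1 a ha).1)
    (fun a ha => (hz2 a ha).1) (fun a ha => (hz1 a ha).2) (fun a ha => (hz2 a ha).2) (mem_zpowers x)
  -- the 3-part
  obtain ⟨a, m, hm3, hdo⟩ : ∃ a m, ¬ 3 ∣ m ∧ orderOf d = 3 ^ a * m :=
    Nat.exists_eq_pow_mul_and_not_dvd (orderOf_pos d).ne' 3 (by norm_num)
  have dpow : ∀ q : ℕ, d ^ (3 * q + 1) * c.t * (d ^ (3 * q + 1))⁻¹ = g ∧
      d ^ (3 * q + 1) * g * (d ^ (3 * q + 1))⁻¹ = c.t * g := by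
    have dtg : d * (c.t * g) * d⁻¹ = c.t := by
      calc d * (c.t * g) * d⁻¹ = (d * c.t * d⁻¹) * (d * g * d⁻¹) := by group
        _ = c.t := by rw [dt, dg, ← mul_assoc, hgH, mul_assoc, hgsq, mul_one]
    intro q
    induction q with
    | zero => simp only [mul_zero, zero_add, pow_one]; exact ⟨dt, dg⟩
    | succ q ih =>
      have hs : ∀ v, d ^ (3 * (q + 1) + 1) * v * (d ^ (3 * (q + 1) + 1))⁻¹ =
          d * (d * (d * (d ^ (3 * q + 1) * v * (d ^ (3 * q + 1))⁻¹) * d⁻¹) * d⁻¹) * d⁻¹ := fun v => by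
        rw [show 3 * (q + 1) + 1 = 3 + (3 * q + 1) by ring, pow_add]; group
      rw [hs, hs, ih.1, ih.2, dg, dtg, dt, dg]
      exact ⟨rfl, rfl⟩
  obtain ⟨q, hq⟩ : ∃ q, m * m = 3 * q + 1 := by
    refine ⟨m * m / 3, ?_⟩
    have h1 : m % 3 = 1 ∨ m % 3 = 2 := by omega
    have h2 : m * m % 3 = 1 := by rcases h1 with e | e <;> simp [Nat.mul_mod, e]
    omega
  refine ⟨{
    g := g, g_sq := hgsq, g_out := hgout, g_H := hgH, g_i := hgi, x := x, r := r, hr := hr, hr2 := hr2,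
    r_tor := hrt, three := hthree, x_L := hxL, ox := hxo, xg := hgx,
    f := d ^ (m * m), f_pow := ?_, f_t := hq ▸ (dpow q).1, f_g := hq ▸ (dpow q).2,
    f_x := (Commute.pow_left (mul_inv_eq_iff_eq_mul.1 dx : Commute d x) _).eq,
    f_cent := ?_,
    n := n₂, n_H := mul_inv_eq_iff_eq_mul.1 b1, n_g := b2, n_x := hn₂x }⟩
  rotate_left
  · intro A hA hnorm b hb
    have h1 : ∀ v : G, v = c.t ∨ v = g ∨ v = c.t * g →
        n₁ * v * n₁⁻¹ = c.t ∨ n₁ * v * n₁⁻¹ = g ∨ n₁ * v * n₁⁻¹ = c.t * g := by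
      rintro v (rfl | rfl | rfl)
      · exact Or.inr (Or.inl a1)
      · exact Or.inr (Or.inr a2)
      · exact Or.inl a3
    have h2 : ∀ v : G, v = c.t ∨ v = g ∨ v = c.t * g →
        n₂ * v * n₂⁻¹ = c.t ∨ n₂ * v * n₂⁻¹ = g ∨ n₂ * v * n₂⁻¹ = c.t * g := by
      rintro v (rfl | rfl | rfl)
      · exact Or.inl b1
      · exact Or.inr (Or.inr b2)
      · exact Or.inr (Or.inl b3)
    have hA1 := hnorm n₁ h1 hn₁x
    have hA2 := hnorm n₂ h2 hn₂x
    have hinvA : ∀ w : G, (∀ b ∈ A, w * b * w⁻¹ ∈ A) → ∀ b ∈ A, w⁻¹ * b * w ∈ A := fun w hw =>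
      fun b hb => (mem_normalizer_iff''.1 (mem_normalizer_fintype (S := (A : Set G)) hw) b).1 hb
    have hdb : d * b * d⁻¹ = b :=
      commutator_centralizes (A := A) hA1 hA2 (hinvA _ hA1) (hinvA _ hA2) hb
    exact (Commute.pow_left (mul_inv_eq_iff_eq_mul.1 hdb : Commute d b) _).eq
  have h1 : (d ^ (m * m)) ^ 3 ^ a = 1 := by
    rw [← pow_mul, show m * m * 3 ^ a = 3 ^ a * m * m by ring, ← hdo, pow_mul, pow_orderOf_eq_one,
      one_pow]
  obtain ⟨k', -, hk'⟩ := (Nat.dvd_prime_pow Nat.prime_three).1 (orderOf_dvd_of_pow_eq_one h1)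
  exact ⟨k', hk'⟩

end Ctx

end Cfsg.Agent.Lib.CyclicOddSylow16.SDNon
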