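import Cfsg.Agent.Lib.CyclicOddSylow16.SDNon.Elements

/-!
# S4069, brick SD NONSOLVABLE: solvable groups with a Sylow four-group fused by an element of its normaliser
-/

set_option autoImplicit false

namespace Cfsg.Agent.Lib.CyclicOddSylow16.SDNon

open Subgroup

/-- In a finite solvable group without normal subgroups of odd order, whose Sylow 2-subgroup is a four-group
`{1, t, u, t u}` permuted transitively by some element, the Sylow subgroup is normal and only the trivial
element of odd order commutes with `t`. -/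
theorem solvable_four {Q : Type*} [Group Q] [Finite Q] [hs : Group.IsSolvable Q]
    (hodd : ∀ N : Subgroup Q, N.Normal → Odd (Nat.card N) → N = ⊥) (P : Sylow 2 Q) {t u c₀ : Q}
    (htP : t ∈ (P : Subgroup Q)) (huP : u ∈ (P : Subgroup Q))
    (hP : ∀ a ∈ (P : Subgroup Q), a = 1 ∨ a = t ∨ a = u ∨ a = t * u)
    (htt : t * t = 1) (ht1 : t ≠ 1) (hu1 : u ≠ 1) (hc : c₀ * t * c₀⁻¹ = u)
    (hc' : c₀ * u * c₀⁻¹ = t * u) :
    (P : Subgroup Q).Normal ∧ ∀ a : Q, Odd (orderOf a) → a * t = t * a → a = 1 := by
  haveI : Fact (Nat.Prime 2) := ⟨Nat.prime_two⟩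
  -- a nontrivial normal abelian subgroup
  obtain ⟨A, hAn, hA0, hAab⟩ : ∃ A : Subgroup Q, A.Normal ∧ A ≠ ⊥ ∧ ∀ a ∈ A, ∀ b ∈ A, Commute a b := by
    classical
    have h := hs.solvable
    have hne : Nat.find h ≠ 0 := by
      intro h0
      have := Nat.find_spec h
      rw [h0, derivedSeries_zero] at this
      have : (⊤ : Subgroup Q) = ⊥ := this
      exact ht1 (mem_bot.1 (this ▸ mem_top t))
    obtain ⟨n, hn⟩ : ∃ n, Nat.find h = n + 1 := ⟨Nat.find h - 1, by omega⟩
    refine ⟨derivedSeries Q n, derivedSeries_normal Q n, Nat.find_min h (by omega), fun a ha b hb => ?_⟩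
    have := Nat.find_spec h
    rw [hn, derivedSeries_succ, commutator_eq_bot_iff_le_centralizer] at this
    exact (mem_centralizer_iff.1 (this ha) b hb).symm
  -- it is a 2-group
  have hA2 : ∀ a ∈ A, Odd (orderOf a) → a = 1 := by
    let B : Subgroup Q :=
      { carrier := {a | a ∈ A ∧ Odd (orderOf a)}
        one_mem' := ⟨one_mem _, by rw [orderOf_one]; exact odd_one⟩
        mul_mem' := fun ha hb => ⟨mul_mem ha.1 hb.1,
          (ha.2.mul hb.2).of_dvd_nat (hAab _ ha.1 _ hb.1).orderOf_mul_dvd_mul_orderOf⟩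
        inv_mem' := fun ha => ⟨inv_mem ha.1, by rw [orderOf_inv]; exact ha.2⟩ }
    have hBn : B.Normal := ⟨fun a ha g => ⟨hAn.conj_mem a ha.1 g,
      by rw [show g * a * g⁻¹ = MulAut.conj g a from rfl, MulEquiv.orderOf_eq]; exact ha.2⟩⟩
    have hBodd : Odd (Nat.card B) := by
      rw [← Nat.not_even_iff_odd, even_iff_two_dvd]
      intro h2
      obtain ⟨b, hb⟩ := exists_prime_orderOf_dvd_card' (G := B) 2 h2
      have h3 := b.2.2
      rw [orderOf_coe, hb] at h3
      exact absurd h3 (by decide)
    intro a ha hao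
    have : a ∈ B := ⟨ha, hao⟩
    rwa [hodd B hBn hBodd, mem_bot] at this
  have hAp : IsPGroup 2 A := by
    intro a
    obtain ⟨k, m, hm, hord⟩ := Nat.exists_eq_two_pow_mul_odd (orderOf_pos (a : Q)).ne'
    refine ⟨k, Subtype.ext ?_⟩
    show (a : Q) ^ 2 ^ k = 1
    refine hA2 _ (pow_mem a.2 _) ?_
    rw [orderOf_pow, hord, Nat.gcd_eq_right (dvd_mul_right _ m), Nat.mul_div_cancel_left _ (by positivity)]
    exact hm
  haveI := hAn
  have hAP : A ≤ (P : Subgroup Q) := by
    have h := P.is_maximal' (hAp.to_sup_of_normal_left P.2) le_sup_right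
    exact h ▸ le_sup_left
  -- hence it is the Sylow subgroup
  have hctu : c₀ * (t * u) * c₀⁻¹ = t := by
    calc c₀ * (t * u) * c₀⁻¹ = (c₀ * t * c₀⁻¹) * (c₀ * u * c₀⁻¹) := by group
      _ = t := by
        rw [hc, hc']
        rcases hP _ (mul_mem htP huP) with e | e | e | e
        · exfalso
          have h1 : u = t := by rw [eq_inv_of_mul_eq_one_right e, inv_eq_of_mul_eq_one_right htt]
          have h2 : u * u = t * u := by rw [h1]
          rw [h1, htt] at hc'
          exact ht1 (by simpa using hc')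
        · exact absurd (by simpa using e) hu1
        · exact absurd (by simpa using e) ht1
        · have huu : u * u = 1 := by
            rw [← hc]
            calc c₀ * t * c₀⁻¹ * (c₀ * t * c₀⁻¹) = c₀ * (t * t) * c₀⁻¹ := by group
              _ = 1 := by rw [htt]; group
          have hcomm : u * t = t * u := by
            have h1 : (t * u) * (t * u) = 1 := by
              rw [← hc']
              calc c₀ * u * c₀⁻¹ * (c₀ * u * c₀⁻¹) = c₀ * (u * u) * c₀⁻¹ := by group
                _ = 1 := by rw [huu]; group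
            have h2 := inv_eq_of_mul_eq_one_right h1
            rw [mul_inv_rev, inv_eq_of_mul_eq_one_right huu, inv_eq_of_mul_eq_one_right htt] at h2
            exact h2
          rw [← mul_assoc, hcomm, mul_assoc, huu, mul_one]
  have hPA : (P : Subgroup Q) ≤ A := by
    obtain ⟨a, ha, ha1⟩ := (bot_or_exists_ne_one A).resolve_left hA0
    have htA : t ∈ A := by
      rcases hP a (hAP ha) with e | e | e | e
      · exact absurd e ha1
      · exact e ▸ ha
      · have h1 : c₀ * a * c₀⁻¹ ∈ A := hAn.conj_mem a ha c₀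
        rw [e, hc'] at h1
        have h2 := hAn.conj_mem _ h1 c₀
        rwa [hctu] at h2
      · have h1 : c₀ * a * c₀⁻¹ ∈ A := hAn.conj_mem a ha c₀
        rwa [e, hctu] at h1
    have huA : u ∈ A := hc ▸ hAn.conj_mem t htA c₀
    intro v hv
    rcases hP v hv with rfl | rfl | rfl | rfl
    exacts [one_mem _, htA, huA, mul_mem htA huA]
  have hPn : (P : Subgroup Q).Normal := le_antisymm hPA hAP ▸ hAn
  refine ⟨hPn, ?_⟩
  -- the centraliser of `P`
  have hcentP : ∀ a : Q, Odd (orderOf a) → (∀ v ∈ (P : Subgroup Q), Commute a v) → a = 1 := by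
    intro a hao hac
    haveI := hPn
    set C := centralizer ((P : Subgroup Q) : Set Q) with hC
    haveI hCn : C.Normal := Subgroup.normal_centralizer
    have hPC : (P : Subgroup Q) ≤ C := fun v hv => mem_centralizer_iff.2 fun w hw =>
      (hAab w (hPA hw) v (hPA hv)).eq
    haveI : ((P : Subgroup Q).subgroupOf C).Normal := Subgroup.normal_subgroupOf
    have hcop : (Nat.card ((P : Subgroup Q).subgroupOf C)).Coprime ((P : Subgroup Q).subgroupOf C).index := by
      rw [Nat.card_congr (subgroupOfEquivOfLe hPC).toEquiv]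
      obtain ⟨n, hn⟩ := P.2.exists_card_eq
      rw [hn]
      refine Nat.Coprime.pow_left _ (Nat.Prime.coprime_iff_not_dvd Nat.prime_two |>.2 fun h => ?_)
      exact P.not_dvd_index (h.trans (by
        rw [← relIndex, ← relIndex_mul_index hPC]; exact dvd_mul_right _ _))
    obtain ⟨U, hU⟩ := exists_right_complement'_of_coprime hcop
    have hUodd : Odd (Nat.card U) := by
      rw [← hU.symm.index_eq_card]
      refine Nat.coprime_two_left.1 ?_
      refine Nat.Prime.coprime_iff_not_dvd Nat.prime_two |>.2 fun h => ?_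
      exact P.not_dvd_index (h.trans (by
        rw [← relIndex, ← relIndex_mul_index hPC]; exact dvd_mul_right _ _))
    have hmemU : ∀ b : C, Odd (orderOf (b : Q)) → b ∈ U := by
      intro b hb
      obtain ⟨⟨v, w⟩, hvw, -⟩ := isComplement_iff_existsUnique.1 hU b
      have hvP : ((v : C) : Q) ∈ (P : Subgroup Q) := v.2
      have hcvw : Commute ((v : C) : Q) ((w : C) : Q) :=
        mem_centralizer_iff.1 (w : C).2 _ hvP
      have hb' : ((v : C) : Q) * ((w : C) : Q) = b := congrArg Subtype.val hvw
      have hp : ((b : Q)) ^ (orderOf (b : Q) * Nat.card U) = 1 := by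
        rw [pow_mul, pow_orderOf_eq_one, one_pow]
      rw [← hb', hcvw.mul_pow, show ((w : C) : Q) ^ (orderOf (((v : C) : Q) * ((w : C) : Q)) * Nat.card U)
        = 1 from orderOf_dvd_iff_pow_eq_one.1 (dvd_mul_of_dvd_right
          (by rw [orderOf_coe, orderOf_coe]; exact orderOf_dvd_natCard w) _), mul_one] at hp
      obtain ⟨n, hn⟩ := P.2 ⟨_, hvP⟩
      have hn' : ((v : C) : Q) ^ 2 ^ n = 1 := congrArg Subtype.val hn
      have hv1 : ((v : C) : Q) = 1 := eq_one_of_odd_two
        (Odd.of_dvd_nat ((hb' ▸ hb).mul hUodd) (orderOf_dvd_of_pow_eq_one hp)) hn'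
      have hbw : b = (w : C) := Subtype.ext (by rw [← hb', hv1, one_mul])
      rw [hbw]; exact w.2
    have hUn : (U.map C.subtype).Normal := by
      refine ⟨?_⟩
      rintro _ ⟨w, hw, rfl⟩ g
      have hwC : g * (w : Q) * g⁻¹ ∈ C := hCn.conj_mem _ w.2 g
      refine ⟨⟨_, hwC⟩, hmemU _ ?_, rfl⟩
      show Odd (orderOf (g * (w : Q) * g⁻¹))
      rw [show g * (w : Q) * g⁻¹ = MulAut.conj g (w : Q) from rfl, MulEquiv.orderOf_eq, orderOf_coe]
      exact odd_orderOf_mem hUodd hw
    have hU1 := hodd _ hUn (by rw [card_map_of_injective C.subtype_injective]; exact hUodd)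
    have ha : a ∈ U.map C.subtype :=
      ⟨⟨a, mem_centralizer_iff.2 fun w hw => (hac w hw).symm.eq⟩, hmemU _ hao, rfl⟩
    rwa [hU1, mem_bot] at ha
  intro a hao hat
  have hsq : a * a = 1 := by
    refine hcentP _ ?_ ?_
    · rw [← pow_two]; exact hao.of_dvd_nat (orderOf_pow_dvd 2)
    have hat' : a * t * a⁻¹ = t := mul_inv_eq_iff_eq_mul.2 hat
    have hau : a * a * u * (a * a)⁻¹ = u := by
      have h1 : a * u * a⁻¹ ∈ (P : Subgroup Q) := hPn.conj_mem u huP a
      rcases hP _ h1 with e | e | e | e
      · exact absurd (by simpa using e) hu1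
      · exfalso
        have hut : u = t := mul_left_cancel (mul_right_cancel (e.trans hat'.symm))
        rw [hut] at hc'
        rw [hut, htt] at *
        exact ht1 (by simpa using hc')
      · calc a * a * u * (a * a)⁻¹ = a * (a * u * a⁻¹) * a⁻¹ := by group
          _ = u := by rw [e, e]
      · calc a * a * u * (a * a)⁻¹ = a * (a * u * a⁻¹) * a⁻¹ := by group
          _ = a * (t * u) * a⁻¹ := by rw [e]
          _ = a * t * a⁻¹ * (a * u * a⁻¹) := by group
          _ = u := by rw [hat', e, ← mul_assoc, htt, one_mul]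
    intro v hv
    have ht' : Commute (a * a) t := Commute.mul_left hat hat
    have hu' : Commute (a * a) u := mul_inv_eq_iff_eq_mul.1 hau
    rcases hP v hv with rfl | rfl | rfl | rfl
    exacts [Commute.one_right _, ht', hu', ht'.mul_right hu']
  exact eq_one_of_odd_two hao (k := 1) (by rw [pow_one, pow_two, hsq])

end Cfsg.Agent.Lib.CyclicOddSylow16.SDNon
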