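import Cfsg.Agent.Lib.CyclicOddSylow16.SDNon.Cent
import Cfsg.Agent.Lib.CyclicOddSylow16.SDNon.CycSys
import Cfsg.Agent.Lib.CyclicOddSylow16.SDNon.SolvableFour
import Cfsg.Agent.Lib.Coprime.Generation

/-!
# S4069, brick SD NONSOLVABLE: the centraliser of an element of order three when `3 ∣ tor2`

Here `X = 1` and the centraliser of `x` is `V` extended by a cyclic group of order `3 * tor2 / 2`, inverted by
an involution of the normaliser of `⟨x⟩`.
-/

set_option autoImplicit false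

namespace Cfsg.Agent.Lib.CyclicOddSylow16.SDNon

open Subgroup
open scoped Pointwise

universe u

variable {G : Type u} [Group G] [Finite G]

/-- A subgroup of order `m` of a cyclic group contains every element killed by `m`. -/
theorem mem_of_pow_eq_one {A W : Subgroup G} (hA : IsCyclic A) (hWA : W ≤ A) {m : ℕ}
    (hW : Nat.card W = m) {a : G} (ha : a ∈ A) (ham : a ^ m = 1) : a ∈ W := by
  classical
  let := Fintype.ofFinite A
  let := Fintype.ofFinite W
  have hinj : Function.Injective (fun x : W => (⟨(x : G), hWA x.2⟩ : A)) :=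
    fun p q e => Subtype.ext (congrArg (fun v : A => (v : G)) e)
  have hsub : (Finset.univ.image fun x : W => (⟨(x : G), hWA x.2⟩ : A)) ⊆
      Finset.univ.filter fun x : A => x ^ m = 1 := by
    intro x hx
    obtain ⟨y, -, rfl⟩ := Finset.mem_image.1 hx
    refine Finset.mem_filter.2 ⟨Finset.mem_univ _, Subtype.ext ?_⟩
    have h := congrArg (fun z : W => (z : G)) (pow_card_eq_one' (x := y))
    rw [hW] at h
    simpa using h
  have heq := Finset.eq_of_subset_of_card_le hsub (by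
    rw [Finset.card_image_of_injective _ hinj, Finset.card_univ, ← Nat.card_eq_fintype_card, hW]
    exact IsCyclic.card_pow_eq_one_le (hW ▸ Nat.card_pos))
  have h : (⟨a, ha⟩ : A) ∈ Finset.univ.filter fun x : A => x ^ m = 1 :=
    Finset.mem_filter.2 ⟨Finset.mem_univ _, Subtype.ext ham⟩
  rw [← heq] at h
  obtain ⟨y, -, hy⟩ := Finset.mem_image.1 h
  rw [← show (y : G) = a from congrArg Subtype.val hy]
  exact y.2

namespace Ctx

variable (c : Ctx G)

/-- The structure of the centraliser of `x`. -/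
theorem three_case (hC : CommonStmt.{u}) (l : Loc c) (h3 : 3 ∣ tor2 c.p) :
    (∀ z ∈ c.X, z = 1) ∧ ∃ E : Cyc G, 2 * E.w = tor2 c.p := by
  haveI : Fact (Nat.Prime 2) := ⟨Nat.prime_two⟩
  obtain ⟨htor, -, -, -, h6, -, hgcd⟩ := tor_facts c.fp.out c.hp5
  have hr3 : l.r = 3 := l.three h3
  have hxo : orderOf l.x = 3 := by rw [l.ox, hr3]
  have hx2 : 2 < orderOf l.x := by omega
  have h3L : 3 ∣ Nat.card c.L := hxo ▸ c.dvd_card_L l.x_L
  have h34 : ¬ 3 ∣ tor4 c.p := fun h => by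
    have := Nat.le_of_dvd two_pos (hgcd 3 h3 h); omega
  have hxt : l.x * c.t = c.t * l.x := c.L_le _ l.x_L
  obtain ⟨hcyc, hcard⟩ := c.torus_two l.x_L hx2 (hxo ▸ h3)
  obtain ⟨m, hm⟩ : ∃ m, tor2 c.p = 2 * m := ⟨tor2 c.p / 2, by omega⟩
  have hmodd : Odd m := Nat.odd_iff.2 (by omega)
  have hm3 : 3 ≤ m := by omega
  -- the odd part `W` of the torus
  have hTcomm : ∀ a ∈ c.CL l.x, ∀ b ∈ c.CL l.x, Commute a b := fun a ha b hb => by
    haveI := hcyc
    exact congrArg Subtype.val ((IsCyclic.commGroup (α := c.CL l.x)).mul_comm ⟨a, ha⟩ ⟨b, hb⟩)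
  let W : Subgroup G :=
    { carrier := {a | a ∈ c.CL l.x ∧ a ^ m = 1}
      one_mem' := ⟨one_mem _, one_pow m⟩
      mul_mem' := fun ha hb => ⟨mul_mem ha.1 hb.1,
        by rw [(hTcomm _ ha.1 _ hb.1).mul_pow, ha.2, hb.2, one_mul]⟩
      inv_mem' := fun ha => ⟨inv_mem ha.1, by rw [inv_pow, ha.2, inv_one]⟩ }
  have hTpow : ∀ a ∈ c.CL l.x, a ^ (2 * m) = 1 := fun a ha => by
    rw [← hm, ← hcard]
    exact congrArg Subtype.val (pow_card_eq_one' (x := (⟨a, ha⟩ : c.CL l.x)))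
  have hWodd : ∀ a ∈ W, Odd (orderOf a) := fun a ha =>
    hmodd.of_dvd_nat (orderOf_dvd_of_pow_eq_one ha.2)
  have hmemW : ∀ a : G, a ∈ c.L → a * l.x = l.x * a → Odd (orderOf a) → a ∈ W := by
    intro a ha hax hao
    have haT : a ∈ c.CL l.x := c.mem_CL.2 ⟨ha, hax⟩
    refine ⟨haT, orderOf_dvd_iff_pow_eq_one.1 ?_⟩
    exact (Nat.coprime_two_right.2 hao).dvd_of_dvd_mul_left
      (orderOf_dvd_of_pow_eq_one (hTpow a haT))
  have hWcard : Nat.card W = m := by
    obtain ⟨γ, hγ⟩ := hcyc.exists_generator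
    have hγo : orderOf γ = 2 * m := by rw [orderOf_eq_card_of_forall_mem_zpowers hγ, hcard, hm]
    have heq : W = zpowers ((γ : G) ^ 2) := by
      refine le_antisymm (fun a ha => ?_) (zpowers_le.2 ⟨pow_mem γ.2 2, ?_⟩)
      · obtain ⟨j, hj⟩ := hγ ⟨a, ha.1⟩
        have hja : (γ : G) ^ j = a := by
          have := congrArg Subtype.val hj
          simpa using this
        have hd : ((2 * m : ℕ) : ℤ) ∣ j * m := by
          rw [← hγo, orderOf_dvd_iff_zpow_eq_one, zpow_mul, zpow_natCast]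
          refine Subtype.ext ?_
          simp only [SubgroupClass.coe_pow, SubgroupClass.coe_zpow, hja, OneMemClass.coe_one]
          exact ha.2
        rw [Nat.cast_mul] at hd
        obtain ⟨i, rfl⟩ := Int.dvd_of_mul_dvd_mul_right (by exact_mod_cast (by omega : m ≠ 0)) hd
        refine ⟨i, ?_⟩
        rw [← hja]
        show ((γ : G) ^ 2) ^ i = (γ : G) ^ ((2 : ℕ) * i : ℤ)
        rw [← zpow_natCast, ← zpow_mul]
      · rw [← pow_mul]
        exact hTpow γ γ.2
    rw [heq, Nat.card_zpowers, orderOf_pow, orderOf_coe, hγo, Nat.gcd_eq_right (dvd_mul_right 2 m),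
      Nat.mul_div_cancel_left _ two_pos]
  have hWL : ∀ a ∈ W, a ∈ c.L := fun a ha => (c.mem_CL.1 ha.1).1
  have hWx : ∀ a ∈ W, a * l.x = l.x * a := fun a ha => (c.mem_CL.1 ha.1).2
  have hWt : ∀ a ∈ W, a * c.t = c.t * a := fun a ha => c.L_le _ (hWL a ha)
  have hWg : ∀ a ∈ W, a * l.g = l.g * a := fun a ha =>
    (mul_inv_eq_iff_eq_mul.1 (c.fix_torus l.g_H l.x_L hx2 (hWL a ha) (hWx a ha)
      (mul_inv_eq_iff_eq_mul.2 l.xg.symm))).symm
  have hWtg : ∀ a ∈ W, a * (c.t * l.g) = c.t * l.g * a := fun a ha =>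
    (Commute.mul_right (hWt a ha) (hWg a ha)).eq
  have hWcyc : IsCyclic W := by
    haveI := hcyc
    exact isCyclic_of_injective (Subgroup.inclusion (fun a (ha : a ∈ W) => ha.1))
      (Subgroup.inclusion_injective _)
  have hxW : l.x ∈ W := hmemW _ l.x_L rfl (by rw [hxo]; decide)
  have hfW : ∀ a ∈ W, l.f * a = a * l.f := by
    refine l.f_cent W hWcyc fun w hw hwx a ha => ?_
    have hcom : ∀ v : G, v = c.t ∨ v = l.g ∨ v = c.t * l.g → w⁻¹ * v * w = c.t ∨ w⁻¹ * v * w = l.g ∨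
        w⁻¹ * v * w = c.t * l.g := by
      let V := c.four l.g l.g_H l.g_sq
      have hwV : w ∈ normalizer (V : Set G) := by
        refine mem_normalizer_fintype fun v hv => ?_
        rcases c.mem_four.1 hv with rfl | hv'
        · show w * 1 * w⁻¹ ∈ V
          simp
        · exact Or.inr (hw v hv')
      intro v hv
      rcases c.mem_four.1 ((mem_normalizer_iff''.1 hwV v).1 (Or.inr hv)) with e | e
      · exfalso
        have hv1 : v = 1 := by
          have := congrArg (fun q => w * q * w⁻¹) e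
          simpa [mul_assoc] using this
        obtain ⟨n1, n2, n3, -, -⟩ := c.t_ne_out l.g_out
        rcases hv with rfl | rfl | rfl
        exacts [c.t_ne_one hv1, n2 hv1, n3 hv1]
      · exact e
    have hcomm : ∀ v : G, v = c.t ∨ v = l.g ∨ v = c.t * l.g → Commute (w * a * w⁻¹) v := by
      intro v hv
      have h1 : Commute a (w⁻¹ * v * w) := by
        rcases hcom v hv with e | e | e <;> rw [e]
        exacts [hWt a ha, hWg a ha, hWtg a ha]
      have h2 := h1.map (MulAut.conj w).toMonoidHom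
      simpa [mul_assoc] using h2
    have hao : Odd (orderOf (w * a * w⁻¹)) := by
      rw [show w * a * w⁻¹ = MulAut.conj w a from rfl, MulEquiv.orderOf_eq]; exact hWodd a ha
    have hwxa : (w * a * w⁻¹) * l.x = l.x * (w * a * w⁻¹) := by
      obtain ⟨j, hj⟩ := (conj_mem_zpowers_symm hwx l.x (mem_zpowers _)).2
      have h1 : Commute a (w⁻¹ * l.x * w) := by
        rw [← show l.x ^ j = w⁻¹ * l.x * w from hj]
        exact Commute.zpow_right (hWx a ha) j
      have h2 := h1.map (MulAut.conj w).toMonoidHom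
      have h3 : Commute (w * a * w⁻¹) l.x := by simpa [mul_assoc] using h2
      exact h3.eq
    have hH : c.InH (w * a * w⁻¹) := (hcomm c.t (Or.inl rfl)).eq
    obtain ⟨z, hz, b, hb, he⟩ := c.odd_mem_XL hH hao
    have hgc := hcomm l.g (Or.inr (Or.inl rfl))
    obtain ⟨e1, -⟩ := c.decomp_unique (c.X_norm _ l.g_H z hz) hz (c.L_norm _ l.g_H b hb) hb
      (show l.g * z * l.g⁻¹ * (l.g * b * l.g⁻¹) = z * b by
        calc l.g * z * l.g⁻¹ * (l.g * b * l.g⁻¹) = l.g * (z * b) * l.g⁻¹ := by group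
          _ = z * b := by rw [← he, ← hgc.eq, mul_inv_cancel_right])
    have hz1 : z = 1 := c.X_out l.g_H l.g_out l.g_sq hz (mul_inv_eq_iff_eq_mul.1 e1)
    rw [hz1, one_mul] at he
    exact hmemW _ (he ▸ hb) hwxa hao
  -- the centraliser of `x`
  set K := centralizer ({l.x} : Set G) with hKdef
  have hmemK : ∀ {a : G}, a ∈ K ↔ a * l.x = l.x * a := mem_centralizer_singleton_iff
  have htK : c.t ∈ K := hmemK.2 hxt.symm
  have hgK : l.g ∈ K := hmemK.2 l.xg.symm
  have hfK : l.f ∈ K := hmemK.2 l.f_x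
  have hno4 : ∀ a ∈ K, orderOf a ≠ 4 := fun a ha h4 =>
    c.no_four_prime h4 Nat.prime_three (by norm_num) hxo (hmemK.1 ha) h3L h34
  set V := c.four l.g l.g_H l.g_sq with hVdef
  have hVK : V ≤ K := by
    intro v hv
    rcases c.mem_four.1 hv with rfl | rfl | rfl | rfl
    exacts [one_mem _, htK, hgK, mul_mem htK hgK]
  obtain ⟨P, hP⟩ := ((c.four_isPGroup l.g_H l.g_sq l.g_out).of_equiv
    (subgroupOfEquivOfLe hVK).symm).exists_le_sylow
  have hPV : ∀ a : K, a ∈ (P : Subgroup K) → (a : G) ∈ V := by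
    have hexp : ∀ a : K, a ∈ (P : Subgroup K) → (a : G) * a = 1 := by
      intro a ha
      obtain ⟨k, hk⟩ := (IsPGroup.iff_orderOf.1 P.2) ⟨a, ha⟩
      rw [← orderOf_coe, ← orderOf_coe] at hk
      by_contra hne
      have hk2 : 2 ≤ k := by
        by_contra hlt
        refine hne ?_
        rw [← pow_two]
        exact orderOf_dvd_iff_pow_eq_one.1 (hk ▸ pow_dvd_pow 2 (show k ≤ 1 by omega))
      refine hno4 ((a : G) ^ 2 ^ (k - 2)) (pow_mem a.2 _) ?_
      rw [orderOf_pow, hk, Nat.gcd_eq_right (pow_dvd_pow 2 (by omega)),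
        Nat.pow_div (by omega) (by norm_num), show k - (k - 2) = 2 by omega]
    intro a ha
    have hcm : ∀ b : K, b ∈ (P : Subgroup K) → (a : G) * b = b * a := by
      intro b hb
      have hab := hexp _ (mul_mem ha hb)
      have h1 := inv_eq_of_mul_eq_one_right hab
      simp only [coe_mul] at h1
      rw [mul_inv_rev, inv_eq_of_mul_eq_one_right (hexp b hb), inv_eq_of_mul_eq_one_right (hexp a ha)] at h1
      exact h1.symm
    exact c.two_in_four l.g_out (hcm ⟨c.t, htK⟩ (hP (show (⟨c.t, htK⟩ : K) ∈ V.subgroupOf K from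
        Or.inr (Or.inl rfl)))) (hcm ⟨l.g, hgK⟩ (hP (show (⟨l.g, hgK⟩ : K) ∈ V.subgroupOf K from
        Or.inr (Or.inr (Or.inl rfl))))) (k := 1) (by rw [pow_one, pow_two]; exact hexp a ha)
  have hKtop : K ≠ ⊤ := by
    intro htop
    have hc : l.x ∈ center G := mem_center_iff.2 fun w => hmemK.1 (htop.symm ▸ mem_top w)
    haveI := c.amb.simple
    rcases IsSimpleGroup.eq_bot_or_eq_top_of_normal (center G) inferInstance with h | h
    · rw [h, mem_bot] at hc; rw [hc, orderOf_one] at hxo; omega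
    · exact c.amb.nonab (center_eq_top_iff.1 h)
  haveI hsolv : Group.IsSolvable K := by
    by_contra hns
    obtain ⟨X₁, L₁, hXn, hLn, -, hcop, hcomm, hidx, p₁, fp, hp5, hiso⟩ := c.amb.below K hKtop hns
    haveI := hLn
    rcases hiso with ⟨⟨e⟩⟩ | ⟨⟨e⟩⟩
    · set x' : K := ⟨l.x, hmemK.2 rfl⟩ with hx'
      have hx'o : orderOf x' = 3 := by rw [← orderOf_coe]; exact hxo
      have hmem : x' ∈ X₁ ⊔ L₁ := by
        rcases (Nat.dvd_prime Nat.prime_two).1 hidx with h1 | h2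
        · rw [index_eq_one.1 h1]; exact mem_top _
        · have hx4 : x' = (x' ^ 2) ^ 2 := by
            rw [← pow_mul, show 2 * 2 = orderOf x' + 1 by omega, pow_succ, pow_orderOf_eq_one, one_mul]
          rw [hx4]; exact sq_mem_of_index_two h2 _
      rw [← SetLike.mem_coe, mul_normal, Set.mem_mul] at hmem
      obtain ⟨a, ha, b, hb, hab⟩ := hmem
      have hb1 : (⟨b, hb⟩ : L₁) = 1 := by
        refine (map_eq_one_iff e e.injective).1 (psl_center hp5 (mem_center_iff.2 fun w => ?_))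
        obtain ⟨v, rfl⟩ := e.surjective w
        rw [← map_mul, ← map_mul]
        refine congrArg e (Subtype.ext ?_)
        show (v : K) * b = b * v
        have h1 : Commute (v : K) x' := Subtype.ext (hmemK.1 (v : K).2)
        have h2 : Commute (v : K) a := (hcomm a ha v v.2 : Commute a (v : K)).symm
        rw [show b = a⁻¹ * x' by rw [← hab, inv_mul_cancel_left]]
        exact (h2.inv_right.mul_right h1).eq
      have hxX : x' ∈ X₁ := by
        rw [← hab, show b = 1 from congrArg Subtype.val hb1, mul_one]; exact ha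
      obtain ⟨u, hu⟩ := psl_exists_three (p := p₁)
      have hdX : 3 ∣ Nat.card X₁ := hx'o ▸ X₁.orderOf_dvd_natCard hxX
      have hdL : 3 ∣ Nat.card L₁ := by
        rw [Nat.card_congr e.toEquiv, ← hu]; exact orderOf_dvd_natCard u
      exact absurd (Nat.dvd_one.1 (hcop ▸ Nat.dvd_gcd hdX hdL)) (by norm_num)
    · obtain ⟨u, hu⟩ := sl_exists_four (p := p₁) hp5
      refine hno4 (((e.symm u : L₁) : K) : G) (e.symm u : L₁).1.2 ?_
      rw [orderOf_coe, orderOf_coe, MulEquiv.orderOf_eq, hu]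
  -- modulo the odd core
  set M₀ := pPrimeCore 2 K with hM₀
  have hM₀odd : Odd (Nat.card M₀) := Nat.coprime_two_right.1 PSolvable.pPrimeCore_coprime
  set π := QuotientGroup.mk' M₀ with hπ
  have hπ1 : ∀ {a : K}, π a = 1 ↔ a ∈ M₀ := fun {a} => QuotientGroup.eq_one_iff a
  set t' : K := ⟨c.t, htK⟩ with ht'
  set g' : K := ⟨l.g, hgK⟩ with hg'
  have hne2 : ∀ a : K, a * a = 1 → a ∈ M₀ → a = 1 := fun a ha ham =>
    eq_one_of_odd_two (odd_orderOf_mem hM₀odd ham) (k := 1) (by rw [pow_one, pow_two, ha])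
  have hP4 : ∀ a ∈ ((P.mapSurjective (QuotientGroup.mk'_surjective M₀) : Sylow 2 _) : Subgroup _),
      a = 1 ∨ a = π t' ∨ a = π g' ∨ a = π t' * π g' := by
    intro a ha
    rw [Sylow.coe_mapSurjective] at ha
    obtain ⟨b, hb, rfl⟩ := ha
    rcases c.mem_four.1 (hPV b hb) with e | e | e | e
    · exact Or.inl (by rw [show b = 1 from Subtype.ext e]; exact map_one π)
    · exact Or.inr (Or.inl (congrArg π (Subtype.ext e)))
    · exact Or.inr (Or.inr (Or.inl (congrArg π (Subtype.ext e))))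
    · exact Or.inr (Or.inr (Or.inr (by rw [← map_mul]; exact congrArg π (Subtype.ext e))))
  obtain ⟨hPn, hcentt⟩ := solvable_four (Q := K ⧸ M₀)
    (fun N hN hodd => by
      have h1 := PSolvable.le_pPrimeCore (G := K ⧸ M₀) (p := 2) (N := N) (Nat.coprime_two_right.2 hodd)
      exact le_bot_iff.1 (h1.trans_eq PSolvable.pPrimeCore_quotient_eq_bot))
    (P.mapSurjective (QuotientGroup.mk'_surjective M₀))
    (t := π t') (u := π g') (c₀ := π ⟨l.f, hfK⟩)
    (by rw [Sylow.coe_mapSurjective]; exact mem_map_of_mem _ (hP (show t' ∈ V.subgroupOf K from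
      Or.inr (Or.inl rfl))))
    (by rw [Sylow.coe_mapSurjective]; exact mem_map_of_mem _ (hP (show g' ∈ V.subgroupOf K from
      Or.inr (Or.inr (Or.inl rfl)))))
    hP4
    (by rw [← map_mul, show t' * t' = 1 from Subtype.ext c.t_sq, map_one])
    (fun h => c.t_ne_one (congrArg Subtype.val (hne2 t' (Subtype.ext c.t_sq) (hπ1.1 h))))
    (fun h => (c.t_ne_out l.g_out).2.1 (congrArg Subtype.val (hne2 g' (Subtype.ext l.g_sq) (hπ1.1 h))))
    (by rw [← map_inv, ← map_mul, ← map_mul]; exact congrArg π (Subtype.ext l.f_t))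
    (by rw [← map_inv, ← map_mul, ← map_mul, ← map_mul]; exact congrArg π (Subtype.ext l.f_g))
  have hodd_t : ∀ a : K, Odd (orderOf (a : G)) → (a : G) * c.t = c.t * a → a ∈ M₀ := by
    intro a hao hat
    rw [← hπ1]
    refine hcentt _ ?_ ?_
    · rw [orderOf_coe] at hao
      exact hao.of_dvd_nat (orderOf_map_dvd π a)
    · rw [← map_mul, ← map_mul]; exact congrArg π (Subtype.ext hat)
  set M := M₀.map K.subtype with hM
  have hModd : Odd (Nat.card M) := by rw [hM, card_map_of_injective K.subtype_injective]; exact hM₀odd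
  have hMK : ∀ a ∈ M, a ∈ K := fun a ha => by obtain ⟨b, -, rfl⟩ := ha; exact b.2
  have hMnorm : ∀ k ∈ K, ∀ a ∈ M, k * a * k⁻¹ ∈ M := by
    rintro k hk _ ⟨a, ha, rfl⟩
    exact ⟨⟨k, hk⟩ * a * ⟨k, hk⟩⁻¹, (inferInstance : (pPrimeCore 2 K).Normal).conj_mem a ha _, rfl⟩
  -- `X` is trivial
  have hX1 : ∀ z ∈ c.X, z = 1 := by
    intro z hz
    by_contra hz1
    obtain ⟨q, hq, hqd⟩ := Nat.exists_prime_and_dvd (n := orderOf z) fun h => hz1 (orderOf_eq_one_iff.1 h)
    set z₁ := z ^ (orderOf z / q) with hz₁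
    have hz₁o : orderOf z₁ = q := orderOf_pow_orderOf_div (orderOf_pos z).ne' hqd
    have hz₁X : z₁ ∈ c.X := pow_mem hz _
    have hzK : z₁ ∈ K := hmemK.2 (c.comm _ hz₁X _ l.x_L)
    have hzM : z₁ ∈ M := ⟨⟨z₁, hzK⟩, hodd_t _ (odd_orderOf_mem c.oddX hz₁X) (c.X_le _ hz₁X), rfl⟩
    have hyM := hMnorm _ hfK _ hzM
    have hyg : (l.f * z₁ * l.f⁻¹) * l.g = l.g * (l.f * z₁ * l.f⁻¹) := by
      have h := Commute.map (c.X_le _ hz₁X : Commute z₁ c.t) (MulAut.conj l.f).toMonoidHom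
      rw [← l.f_t]
      exact h.eq
    obtain ⟨w, hwM, hwo, hwt, hwg⟩ := hC.2.2.1 G c.amb.hyp.1 M c.t l.g hModd c.orderOf_t
      (orderOf_two_of_sq l.g_sq (c.t_ne_out l.g_out).2.1) (l.g_H : l.g * c.t = c.t * l.g).symm
      (fun a ha => hMnorm _ htK a ha) (fun a ha => hMnorm _ hgK a ha) q hq
      ⟨z₁, hzM, hz₁o, c.X_le _ hz₁X⟩
      ⟨_, hyM, ((MulAut.conj l.f).orderOf_eq z₁).trans hz₁o, hyg⟩
    obtain ⟨a, ha, b, hb, rfl⟩ := c.odd_mem_XL hwt (odd_orderOf_mem hModd hwM)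
    obtain ⟨e1, -⟩ := c.decomp_unique (c.X_norm _ l.g_H a ha) ha (c.L_norm _ l.g_H b hb) hb
      (show l.g * a * l.g⁻¹ * (l.g * b * l.g⁻¹) = a * b by
        calc l.g * a * l.g⁻¹ * (l.g * b * l.g⁻¹) = l.g * (a * b) * l.g⁻¹ := by group
          _ = a * b := by rw [← hwg, mul_inv_cancel_right])
    rw [c.X_out l.g_H l.g_out l.g_sq ha (mul_inv_eq_iff_eq_mul.1 e1), one_mul] at hwo
    exact c.not_dvd_X hq (hwo ▸ c.dvd_card_L hb) (hz₁o ▸ c.X.orderOf_dvd_natCard hz₁X)
  have hXL : ∀ a ∈ c.XL, a ∈ c.L := by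
    rintro _ ⟨z, hz, b, hb, rfl⟩
    rw [hX1 z hz, one_mul]; exact hb
  have hMW : M ≤ W := by
    have hcop : (2 : ℕ).Coprime (Nat.card M) := Nat.coprime_two_left.2 hModd
    have hc1 : ∀ a ∈ M, a * c.t = c.t * a → a ∈ W := fun a ha hat => by
      have hao := odd_orderOf_mem hModd ha
      exact hmemW a (hXL a (c.odd_mem_XL hat hao)) (hmemK.1 (hMK a ha)) hao
    have hstep : ∀ v w : G, l.f * v * l.f⁻¹ = w → (∀ a ∈ M, a * v = v * a → a ∈ W) →
        ∀ a ∈ M, a * w = w * a → a ∈ W := by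
      intro v w hvw hv a ha haw
      have h1 : l.f⁻¹ * a * l.f ∈ M := by
        simpa using hMnorm _ (inv_mem hfK) a ha
      have h2 : l.f⁻¹ * a * l.f * v = v * (l.f⁻¹ * a * l.f) := by
        have h := congrArg (fun q => l.f⁻¹ * q * l.f) haw
        rw [← hvw] at h
        simpa [mul_assoc] using h
      have h3 := hv _ h1 h2
      have h4 : a = l.f⁻¹ * a * l.f := by
        calc a = l.f * (l.f⁻¹ * a * l.f) * l.f⁻¹ := by group
          _ = l.f⁻¹ * a * l.f := by rw [hfW _ h3, mul_inv_cancel_right]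
      rw [h4]; exact h3
    have hc2 := hstep _ _ l.f_t hc1
    have hc3 := hstep _ _ l.f_g hc2
    refine Coprime.le_of_pair Nat.prime_two (a := l.g) (b := c.t) hcop ?_ l.g_H
      (by rw [pow_two, l.g_sq]) (by rw [pow_two, c.t_sq]) c.t_ne_one ?_ ?_
    · refine (closure_le _).2 ?_
      rintro v (rfl | rfl)
      · exact mem_normalizer_fintype fun a ha => hMnorm _ hgK a ha
      · exact mem_normalizer_fintype fun a ha => hMnorm _ htK a ha
    · rintro ⟨j, hj⟩
      exact l.g_out ((show c.t ^ j = l.g from hj) ▸ c.L_le_XL (zpow_mem c.t_mem j))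
    · intro v hv hv1 a ha
      obtain ⟨haM, hav⟩ := mem_inf.1 ha
      rw [mem_centralizer_singleton_iff] at hav
      have hvV : v ∈ V := by
        refine (closure_le V).2 ?_ hv
        rintro w (rfl | rfl)
        exacts [Or.inr (Or.inr (Or.inl rfl)), Or.inr (Or.inl rfl)]
      rcases c.mem_four.1 hvV with rfl | rfl | rfl | rfl
      exacts [absurd rfl hv1, hc1 a haM hav, hc2 a haM hav, hc3 a haM hav]
  have hWM : ∀ a ∈ W, a ∈ M := fun a ha =>
    ⟨⟨a, hmemK.2 (hWx a ha)⟩, hodd_t _ (hWodd a ha) (hWt a ha), rfl⟩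
  -- `V` is normal in `K`
  have hVW : ∀ v ∈ V, ∀ a ∈ W, Commute v a := by
    intro v hv a ha
    rcases c.mem_four.1 hv with rfl | rfl | rfl | rfl
    exacts [Commute.one_left a, (hWt a ha).symm, (hWg a ha).symm, (hWtg a ha).symm]
  have hVsq : ∀ v ∈ V, v * v = 1 := by
    intro v hv
    rcases c.mem_four.1 hv with rfl | rfl | rfl | rfl
    exacts [one_mul 1, c.t_sq, l.g_sq, by rw [Commute.mul_mul_mul_comm l.g_H, c.t_sq, l.g_sq, one_mul]]
  have hVnorm : ∀ k ∈ K, ∀ v ∈ V, k * v * k⁻¹ ∈ V := by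
    intro k hk v hv
    set v' : K := ⟨v, hVK hv⟩ with hv'
    set k' : K := ⟨k, hk⟩ with hk'
    have h1 : π (k' * v' * k'⁻¹) ∈
        ((P.mapSurjective (QuotientGroup.mk'_surjective M₀) : Sylow 2 _) : Subgroup _) := by
      rw [map_mul, map_mul, map_inv]
      refine hPn.conj_mem _ ?_ _
      rw [Sylow.coe_mapSurjective]
      exact mem_map_of_mem _ (hP (show v' ∈ V.subgroupOf K from hv))
    rw [Sylow.coe_mapSurjective] at h1
    obtain ⟨b, hb, hbe⟩ := h1
    have h2 : b⁻¹ * (k' * v' * k'⁻¹) ∈ M₀ := by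
      rw [← hπ1, map_mul, map_inv, ← hbe, inv_mul_cancel]
    set a : G := (b : G)⁻¹ * (k * v * k⁻¹) with ha
    have haW : a ∈ W := hMW ⟨_, h2, rfl⟩
    have hbV := hPV b hb
    have heq : k * v * k⁻¹ = (b : G) * a := by rw [ha, mul_inv_cancel_left]
    have hsq : k * v * k⁻¹ * (k * v * k⁻¹) = 1 := by
      calc k * v * k⁻¹ * (k * v * k⁻¹) = k * (v * v) * k⁻¹ := by group
        _ = 1 := by rw [hVsq v hv]; group
    rw [heq, (hVW _ hbV a haW).symm.mul_mul_mul_comm, hVsq _ hbV, one_mul] at hsq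
    rw [heq, eq_one_of_odd_two (hWodd a haW) (k := 1) (by rw [pow_one, pow_two, hsq]), mul_one]
    exact hbV
  -- the elements of `K` fixing `t`
  have hKt : ∀ k ∈ K, k * c.t = c.t * k → ∃ v ∈ V, ∃ a ∈ W, k = v * a := by
    intro k hk hkt
    have hbase : ∀ b ∈ c.L, b * l.x = l.x * b → ∃ v ∈ V, ∃ a ∈ W, b = v * a := by
      intro b hb hbx
      have hbT : b ∈ c.CL l.x := c.mem_CL.2 ⟨hb, hbx⟩
      have hsq : b ^ m * b ^ m = 1 := by rw [← pow_add, ← two_mul, hTpow b hbT]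
      refine ⟨(b ^ m)⁻¹, inv_mem ?_, b ^ (m + 1), ⟨pow_mem hbT _, ?_⟩, ?_⟩
      · rcases c.eq_t_of_sq (pow_mem hb m) hsq with e | e
        · exact Or.inl e
        · exact Or.inr (Or.inl e)
      · obtain ⟨i, hi⟩ := hmodd
        rw [← pow_mul, show (m + 1) * m = 2 * m * (i + 1) by rw [hi]; ring, pow_mul, hTpow b hbT,
          one_pow]
      · rw [pow_succ, inv_mul_cancel_left]
    by_cases hkXL : k ∈ c.XL
    · exact hbase k (hXL k hkXL) (hmemK.1 hk)
    · obtain ⟨v, hv, a, ha, he⟩ := hbase (l.g * k) (hXL _ (c.out_mul l.g_H hkt l.g_out hkXL))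
        (Commute.mul_left (hmemK.1 hgK) (hmemK.1 hk)).eq
      refine ⟨l.g * v, mul_mem (Or.inr (Or.inr (Or.inl rfl))) hv, a, ha, ?_⟩
      rw [mul_assoc, ← he, ← mul_assoc, l.g_sq, one_mul]
  -- the cyclic subgroup
  have hfzW : ∀ a ∈ W, ∀ j : ℤ, Commute (l.f ^ j) a := fun a ha j => Commute.zpow_left (hfW a ha) j
  let A : Subgroup G :=
    { carrier := {a | ∃ j : ℤ, ∃ w ∈ W, a = l.f ^ j * w}
      one_mem' := ⟨0, 1, one_mem _, by rw [zpow_zero, one_mul]⟩
      mul_mem' := by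
        rintro _ _ ⟨j, w, hw, rfl⟩ ⟨j', w', hw', rfl⟩
        exact ⟨j + j', w * w', mul_mem hw hw', by
          rw [zpow_add, (hfzW w hw j').mul_mul_mul_comm (l.f ^ j) w']⟩
      inv_mem' := by
        rintro _ ⟨j, w, hw, rfl⟩
        exact ⟨-j, w⁻¹, inv_mem hw, by
          rw [mul_inv_rev, zpow_neg, ((hfzW w hw j).inv_inv).eq]⟩ }
  have hWA : W ≤ A := fun a ha => ⟨0, a, ha, by rw [zpow_zero, one_mul]⟩
  have hfA : l.f ∈ A := ⟨1, 1, one_mem _, by rw [zpow_one, mul_one]⟩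
  have hAK : A ≤ K := by
    rintro _ ⟨j, w, hw, rfl⟩
    exact mul_mem (zpow_mem hfK j) (hmemK.2 (hWx w hw))
  have hAcomm : ∀ a ∈ A, ∀ b ∈ A, Commute a b := by
    rintro _ ⟨j, w, hw, rfl⟩ _ ⟨j', w', hw', rfl⟩
    refine Commute.mul_left ?_ ?_
    · exact (Commute.zpow_zpow_self l.f j j').mul_right (hfzW w' hw' j)
    · exact (hfzW w hw j').symm.mul_right (hTcomm w hw.1 w' hw'.1)
  obtain ⟨kf, hkf⟩ := l.f_pow
  have hfodd : Odd (orderOf l.f) := by rw [hkf]; exact Odd.pow (by decide)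
  -- `f ^ 3` lies in `W`
  have hft2 : l.f * (l.f * c.t * l.f⁻¹) * l.f⁻¹ = c.t * l.g := by rw [l.f_t, l.f_g]
  have hft3 : l.f * (l.f * (l.f * c.t * l.f⁻¹) * l.f⁻¹) * l.f⁻¹ = c.t := by
    rw [hft2]
    calc l.f * (c.t * l.g) * l.f⁻¹ = (l.f * c.t * l.f⁻¹) * (l.f * l.g * l.f⁻¹) := by group
      _ = c.t := by rw [l.f_t, l.f_g, ← mul_assoc, l.g_H, mul_assoc, l.g_sq, mul_one]
  have hf3W : l.f ^ 3 ∈ W := by
    have hcomm3 : l.f ^ 3 * c.t = c.t * l.f ^ 3 := by
      refine mul_inv_eq_iff_eq_mul.1 (Eq.trans ?_ hft3)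
      simp only [pow_succ, pow_zero, one_mul, mul_inv_rev, mul_assoc]
    obtain ⟨v, hv, a, ha, he⟩ := hKt _ (pow_mem hfK 3) hcomm3
    have ho : Odd (orderOf (v * a)) := by
      rw [← he]; exact hfodd.of_dvd_nat (orderOf_pow_dvd 3)
    have hp : (v * a) ^ (orderOf (v * a) * m) = 1 := by rw [pow_mul, pow_orderOf_eq_one, one_pow]
    rw [(hVW v hv a ha).mul_pow, mul_comm _ m, pow_mul a, ha.2, one_pow, mul_one] at hp
    have hv1 : v = 1 := by
      obtain ⟨i, hi⟩ := (hmodd.mul ho)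
      rw [hi, pow_succ, pow_mul, pow_two, hVsq v hv, one_pow, one_mul] at hp
      exact hp
    rw [he, hv1, one_mul]; exact ha
  have hfW' : ∀ i : ℤ, l.f ^ i ∈ W → (3 : ℤ) ∣ i := by
    intro i hi
    rcases (by omega : i % 3 = 0 ∨ i % 3 = 1 ∨ i % 3 = 2) with h | h | h
    · exact Int.dvd_of_emod_eq_zero h
    · exfalso
      have h1 : l.f ∈ W := by
        have h2 : l.f ^ i = l.f * (l.f ^ 3) ^ (i / 3) := by
          rw [← zpow_natCast l.f 3, ← zpow_mul, ← zpow_one_add]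
          congr 1; omega
        rw [h2] at hi
        exact (mul_mem_cancel_right (zpow_mem hf3W _)).1 hi
      have h3 := l.f_t
      rw [← show c.t * l.f = l.f * c.t from (hWt _ h1).symm, mul_inv_cancel_right] at h3
      exact (c.t_ne_out l.g_out).1 h3.symm
    · exfalso
      have h1 : l.f ^ 2 ∈ W := by
        have h2 : l.f ^ i = l.f ^ 2 * (l.f ^ 3) ^ (i / 3) := by
          rw [← zpow_natCast l.f 3, ← zpow_mul, ← zpow_natCast l.f 2, ← zpow_add]
          congr 1; omega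
        rw [h2] at hi
        exact (mul_mem_cancel_right (zpow_mem hf3W _)).1 hi
      have h3 : l.f ^ 2 * c.t * (l.f ^ 2)⁻¹ = c.t * l.g := by
        refine Eq.trans ?_ hft2
        simp only [pow_succ, pow_zero, one_mul, mul_inv_rev, mul_assoc]
      rw [hWt _ h1, mul_inv_cancel_right] at h3
      exact (c.t_ne_out l.g_out).2.2.2.1 h3.symm
  have hAcard : Nat.card A = 3 * m := by
    let F : Fin 3 × W → A := fun q => ⟨l.f ^ ((q.1 : ℕ) : ℤ) * (q.2 : G), _, _, q.2.2, rfl⟩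
    have hb : Function.Bijective F := by
      constructor
      · rintro ⟨i, w⟩ ⟨i', w'⟩ h
        have h1 : l.f ^ ((i : ℕ) : ℤ) * (w : G) = l.f ^ ((i' : ℕ) : ℤ) * (w' : G) := congrArg Subtype.val h
        have h2 : l.f ^ (((i : ℕ) : ℤ) - ((i' : ℕ) : ℤ)) = (w' : G) * (w : G)⁻¹ := by
          rw [zpow_sub, eq_mul_inv_iff_mul_eq, mul_assoc,
            (hfzW w w.2 _).inv_left.eq, ← mul_assoc, h1, mul_assoc,
            ← (hfzW w' w'.2 _).inv_left.eq, mul_inv_cancel_left]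
        have h3 := hfW' _ (by rw [h2]; exact mul_mem w'.2 (inv_mem w.2))
        have hii : i = i' := by
          have := i.isLt; have := i'.isLt
          exact Fin.ext (by omega)
        subst hii
        exact Prod.ext rfl (Subtype.ext (mul_left_cancel h1))
      · rintro ⟨_, j, w, hw, rfl⟩
        refine ⟨(⟨(j % 3).toNat, by omega⟩, ⟨(l.f ^ 3) ^ (j / 3) * w, mul_mem (zpow_mem hf3W _) hw⟩),
          Subtype.ext ?_⟩
        show l.f ^ (((j % 3).toNat : ℕ) : ℤ) * ((l.f ^ 3) ^ (j / 3) * w) = l.f ^ j * w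
        rw [← mul_assoc, ← zpow_natCast l.f 3, ← zpow_mul, ← zpow_add]
        congr 2; omega
    rw [← Nat.card_eq_of_bijective F hb, Nat.card_prod, Nat.card_fin, hWcard]
  have hAodd : Odd (Nat.card A) := by rw [hAcard]; exact (show Odd 3 by decide).mul hmodd
  haveI hAcyc : IsCyclic A := by
    haveI : IsZGroup A := ⟨fun q hq Q => by
      haveI : Fact q.Prime := ⟨hq⟩
      by_cases hq2 : q = 2
      · subst hq2
        obtain ⟨k, hk⟩ := Q.2.exists_card_eq
        have : Nat.card (Q : Subgroup A) = 1 := by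
          rcases Nat.eq_zero_or_pos k with rfl | hk0
          · simpa using hk
          · exact absurd (odd_card_of_le (le_top) (by rwa [card_top]) : Odd (Nat.card (Q : Subgroup A)))
              (by rw [hk, Nat.odd_pow_iff hk0.ne']; decide)
        exact @isCyclic_of_subsingleton _ _ (Nat.card_eq_one_iff_unique.1 this).1
      · obtain ⟨R, hR⟩ := (Q.2.map A.subtype).exists_le_sylow
        haveI : IsCyclic (R : Subgroup G) := c.amb.hyp.1 q hq hq2 R
        exact isCyclic_of_injective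
          ((Subgroup.inclusion hR).comp ((Q : Subgroup A).equivMapOfInjective A.subtype A.subtype_injective).toMonoidHom)
          ((Subgroup.inclusion_injective hR).comp (MulEquiv.injective _))⟩
    letI : CommGroup A := { (inferInstance : Group A) with mul_comm := fun a b => Subtype.ext (hAcomm a a.2 b b.2) }
    infer_instance
  have hxA : l.x ∈ A := hWA hxW
  -- members of `A` act on `V`
  have hact : ∀ a ∈ A, a ∉ W → ∀ v ∈ V, Commute a v → v = 1 := by
    rintro _ ⟨j, w, hw, rfl⟩ hnot v hv hcm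
    have hj : ¬ (3 : ℤ) ∣ j := by
      rintro ⟨i, rfl⟩
      refine hnot (mul_mem ?_ hw)
      rw [zpow_mul]; exact zpow_mem (by simpa using hf3W) i
    have h1 : Commute (l.f ^ j) v := by
      have := hcm.mul_left ((hVW v hv w hw).symm.inv_left)
      rwa [mul_inv_cancel_right] at this
    have h2 : Commute l.f v := by
      obtain ⟨i, hi⟩ : ∃ i : ℤ, l.f = (l.f ^ j) * (l.f ^ 3) ^ i ∨ l.f = (l.f ^ j) ^ 2 * (l.f ^ 3) ^ i := by
        refine ⟨if j % 3 = 1 then -(j / 3) else -(2 * (j / 3) + 1), ?_⟩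
        rcases (by omega : j % 3 = 1 ∨ j % 3 = 2) with h | h
        · left
          rw [if_pos h, ← zpow_natCast l.f 3, ← zpow_mul, ← zpow_add]
          conv_lhs => rw [← zpow_one l.f]
          congr 1; omega
        · right
          rw [if_neg (by omega), ← zpow_natCast (l.f ^ j) 2, ← zpow_mul, ← zpow_natCast l.f 3, ← zpow_mul,
            ← zpow_add]
          conv_lhs => rw [← zpow_one l.f]
          congr 1; omega
      have h3 : Commute ((l.f ^ 3) ^ i) v := ((hVW v hv _ hf3W).symm).zpow_left i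
      rcases hi with e | e <;> rw [e]
      exacts [h1.mul_left h3, (h1.pow_left 2).mul_left h3]
    have h4 : l.f * v * l.f⁻¹ = v := mul_inv_eq_iff_eq_mul.2 h2.eq
    obtain ⟨n1, n2, n3, n4, n5⟩ := c.t_ne_out l.g_out
    rcases c.mem_four.1 hv with rfl | rfl | rfl | rfl
    · rfl
    · exact absurd (l.f_t.symm.trans h4) n1
    · exact absurd (l.f_g.symm.trans h4) n5
    · exfalso
      have h5 : l.f * (c.t * l.g) * l.f⁻¹ = c.t := by rw [← hft2]; exact hft3
      exact n4 (h4.symm.trans h5)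
  -- decomposition of `K`
  have hKdec : ∀ k ∈ K, ∃ v ∈ V, ∃ a ∈ A, k = v * a := by
    intro k hk
    have hfix : ∀ j : ℤ, l.f ^ j * c.t * (l.f ^ j)⁻¹ = k * c.t * k⁻¹ → ∃ v ∈ V, ∃ a ∈ A, k = v * a := by
      intro j hj
      have hk' : (l.f ^ j)⁻¹ * k ∈ K := mul_mem (inv_mem (zpow_mem hfK j)) hk
      obtain ⟨v, hv, a, ha, he⟩ := hKt _ hk' (by
        have h := congrArg (fun q => (l.f ^ j)⁻¹ * q * k) hj
        simpa [mul_assoc] using h.symm)
      refine ⟨l.f ^ j * v * (l.f ^ j)⁻¹, hVnorm _ (zpow_mem hfK j) v hv, l.f ^ j * a, ⟨j, a, ha, rfl⟩, ?_⟩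
      calc k = l.f ^ j * ((l.f ^ j)⁻¹ * k) := by group
        _ = _ := by rw [he]; group
    have h1 := hVnorm k hk c.t (Or.inr (Or.inl rfl))
    rcases c.mem_four.1 h1 with e | e | e | e
    · exact absurd (by simpa using e) c.t_ne_one
    · exact hfix 0 (by rw [e]; simp)
    · exact hfix 1 (by rw [e, zpow_one]; exact l.f_t)
    · exact hfix 2 (by rw [e, ← hft2, zpow_two, mul_inv_rev]; simp [mul_assoc])
  have hcent : ∀ a ∈ A, a ∉ W → centralizer ({a} : Set G) = A := by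
    intro a ha hnot
    refine le_antisymm (fun k hk => ?_) (fun b hb =>
      mem_centralizer_singleton_iff.2 (hAcomm b hb a ha).eq)
    rw [mem_centralizer_singleton_iff] at hk
    haveI : Fact (Nat.Prime 3) := ⟨Nat.prime_three⟩
    have h3a : 3 ∣ orderOf a := by
      by_contra hno
      refine hnot (mem_of_pow_eq_one hAcyc hWA hWcard ha (orderOf_dvd_iff_pow_eq_one.1 ?_))
      exact ((Nat.Prime.coprime_iff_not_dvd Nat.prime_three).2 hno).symm.dvd_of_dvd_mul_left
        (hAcard ▸ A.orderOf_dvd_natCard ha)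
    set b := a ^ (orderOf a / 3) with hb
    have hbo : orderOf b = 3 := orderOf_pow_orderOf_div (orderOf_pos a).ne' h3a
    have hbA : b ∈ A := pow_mem ha _
    obtain ⟨q, hq, hqb⟩ := conj_prime (G := G) c.amb.hyp.1 (K := A) Nat.prime_three (by norm_num)
      hbA hxA hbo hxo
    rw [(hAcomm q hq b hbA).eq, mul_inv_cancel_right] at hqb
    obtain ⟨i, hi⟩ := mem_zpowers_of_prime Nat.prime_three hbo hxo hqb
    have hkK : k ∈ K := hmemK.2 (by
      have h1 : Commute k (b ^ i) := (Commute.pow_right (hk : Commute k a) _).zpow_right i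
      rwa [show b ^ i = l.x from hi] at h1)
    obtain ⟨v, hv, a', ha', rfl⟩ := hKdec k hkK
    have hva : Commute v a := by
      have := Commute.mul_left hk (hAcomm a' ha' a ha).inv_left
      rwa [mul_inv_cancel_right] at this
    rw [hact a ha hnot v hv hva.symm, one_mul]
    exact ha'
  -- the inverting involution
  have hnK : ∀ n : G, n * c.t = c.t * n → n * l.g * n⁻¹ = c.t * l.g → n ∉ K := by
    intro n hnt hng hn
    obtain ⟨v, hv, a, ha, rfl⟩ := hKt n hn hnt
    obtain ⟨-, -, -, -, n5⟩ := c.t_ne_out l.g_out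
    refine n5 ?_
    rw [← hng]
    have hvg : Commute v l.g := by
      rcases c.mem_four.1 hv with rfl | rfl | rfl | rfl
      exacts [Commute.one_left _, (l.g_H : Commute l.g c.t).symm, Commute.refl _,
        Commute.mul_left l.g_H.symm (Commute.refl _)]
    exact mul_inv_eq_iff_eq_mul.2 (hvg.mul_left (hWg a ha)).eq
  have hnout := hnK l.n l.n_H l.n_g
  have hinvx : l.n * l.x * l.n⁻¹ = l.x⁻¹ := by
    obtain ⟨j, hj⟩ := l.n_x
    have hj' : l.x ^ j = l.n * l.x * l.n⁻¹ := hj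
    have h3x : l.x ^ (3 : ℤ) = 1 := by
      rw [show (3 : ℤ) = ((3 : ℕ) : ℤ) from rfl, zpow_natCast, ← hxo, pow_orderOf_eq_one]
    have hmod : l.x ^ j = l.x ^ (j % 3) := by
      conv_lhs => rw [show j = j % 3 + 3 * (j / 3) by omega, zpow_add, zpow_mul, h3x, one_zpow, mul_one]
    rw [← hj', hmod]
    rcases (by omega : j % 3 = 0 ∨ j % 3 = 1 ∨ j % 3 = 2) with h | h | h
    · exfalso
      rw [hmod, h, zpow_zero] at hj'
      have h1 : l.x = 1 := by
        have := congrArg (fun q => l.n⁻¹ * q * l.n) hj'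
        simpa [mul_assoc] using this.symm
      rw [h1, orderOf_one] at hxo; omega
    · exfalso
      rw [hmod, h, zpow_one] at hj'
      exact hnout (hmemK.2 (mul_inv_eq_iff_eq_mul.1 hj'.symm))
    · rw [h]
      refine eq_inv_of_mul_eq_one_left ?_
      rw [← zpow_add_one]; exact h3x
  have hnormK : ∀ w : G, w * l.x * w⁻¹ = l.x⁻¹ → ∀ k ∈ K, w * k * w⁻¹ ∈ K := by
    intro w hw k hk
    have h1 := Commute.map (hmemK.1 hk : Commute k l.x) (MulAut.conj w).toMonoidHom
    change Commute (w * k * w⁻¹) (w * l.x * w⁻¹) at h1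
    rw [hw] at h1
    exact hmemK.2 (Commute.inv_right_iff.1 h1).eq
  obtain ⟨w₀, hw₀A, hw₀x⟩ : ∃ w₀ : G, (∀ a ∈ A, w₀ * a * w₀⁻¹ ∈ A) ∧ w₀ * l.x * w₀⁻¹ = l.x⁻¹ := by
    obtain ⟨v, hv, a₁, ha₁, he⟩ := hKdec _ (hnormK _ hinvx _ hfK)
    have hnot : a₁ ∉ W := by
      intro haW
      have h1 : Commute (v * a₁) c.t := by
        refine Commute.mul_left ?_ (hWt a₁ haW)
        rcases c.mem_four.1 hv with rfl | rfl | rfl | rfl
        exacts [Commute.one_left _, Commute.refl _, l.g_H, (Commute.refl c.t).mul_left l.g_H]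
      rw [← he] at h1
      have hnt : l.n * c.t * l.n⁻¹ = c.t := mul_inv_eq_iff_eq_mul.2 l.n_H
      have h2 : l.n * l.f * l.n⁻¹ * c.t * (l.n * l.f * l.n⁻¹)⁻¹ = c.t * l.g := by
        calc l.n * l.f * l.n⁻¹ * c.t * (l.n * l.f * l.n⁻¹)⁻¹
            = l.n * (l.f * (l.n⁻¹ * c.t * l.n) * l.f⁻¹) * l.n⁻¹ := by group
          _ = l.n * (l.f * c.t * l.f⁻¹) * l.n⁻¹ := by
            rw [show l.n⁻¹ * c.t * l.n = c.t by
              rw [mul_assoc, ← (l.n_H : l.n * c.t = c.t * l.n), inv_mul_cancel_left]]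
          _ = c.t * l.g := by rw [l.f_t, l.n_g]
      rw [h1.eq, mul_inv_cancel_right] at h2
      exact (c.t_ne_out l.g_out).2.2.2.1 h2.symm
    let φ : V → V := fun u => ⟨(u : G) * (a₁ * (u : G) * a₁⁻¹),
      mul_mem u.2 (hVnorm _ (hAK ha₁) _ u.2)⟩
    have hVcomm : ∀ u ∈ V, ∀ u' ∈ V, Commute u u' := by
      intro u hu u' hu'
      have h := inv_eq_of_mul_eq_one_right (hVsq _ (mul_mem hu hu'))
      rw [mul_inv_rev, inv_eq_of_mul_eq_one_right (hVsq _ hu), inv_eq_of_mul_eq_one_right (hVsq _ hu')] at h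
      exact h.symm
    have hφ : Function.Injective φ := by
      intro u u' h
      have h' : (u : G) * (a₁ * u * a₁⁻¹) = u' * (a₁ * u' * a₁⁻¹) := congrArg Subtype.val h
      have h1 : (u' : G)⁻¹ * u = a₁ * ((u : G)⁻¹ * u') * a₁⁻¹⁻¹⁻¹ := by
        have h2 : (u' : G)⁻¹ * u = (a₁ * u' * a₁⁻¹) * (a₁ * u * a₁⁻¹)⁻¹ := by
          rw [eq_mul_inv_iff_mul_eq, mul_assoc, h', inv_mul_cancel_left]
        rw [h2, inv_inv]
        have := (hVcomm _ u'.2 _ (inv_mem u.2)).eq
        calc a₁ * u' * a₁⁻¹ * (a₁ * u * a₁⁻¹)⁻¹ = a₁ * ((u' : G) * (u : G)⁻¹) * a₁⁻¹ := by group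
          _ = a₁ * ((u : G)⁻¹ * u') * a₁⁻¹ := by rw [this]
      rw [inv_inv] at h1
      have hd : (u : G)⁻¹ * u' ∈ V := mul_mem (inv_mem u.2) u'.2
      have h3 : (u' : G)⁻¹ * u = (u : G)⁻¹ * u' := by
        rw [inv_eq_of_mul_eq_one_right (hVsq _ u'.2), inv_eq_of_mul_eq_one_right (hVsq _ u.2)]
        exact (hVcomm _ u'.2 _ u.2).eq
      rw [h3] at h1
      have h4 := hact a₁ ha₁ hnot _ hd (mul_inv_eq_iff_eq_mul.1 h1.symm)
      exact Subtype.ext (inv_mul_eq_one.1 h4)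
    obtain ⟨u, hu⟩ := (Finite.injective_iff_surjective.1 hφ) ⟨v, hv⟩
    have hu' : (u : G) * (a₁ * u * a₁⁻¹) = v := congrArg Subtype.val hu
    have hfa : (u : G)⁻¹ * l.n * l.f * ((u : G)⁻¹ * l.n)⁻¹ = a₁ := by
      calc (u : G)⁻¹ * l.n * l.f * ((u : G)⁻¹ * l.n)⁻¹ = (u : G)⁻¹ * (l.n * l.f * l.n⁻¹) * u := by group
        _ = (u : G)⁻¹ * ((u : G) * (a₁ * u * a₁⁻¹) * a₁) * u := by rw [he, hu']
        _ = a₁ * ((u : G) * u) := by group
        _ = a₁ := by rw [hVsq _ u.2, mul_one]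
    refine ⟨(u : G)⁻¹ * l.n, fun a ha => ?_, ?_⟩
    · rw [← hcent a₁ ha₁ hnot, mem_centralizer_singleton_iff]
      have h1 := Commute.map (hAcomm a ha l.f hfA) (MulAut.conj ((u : G)⁻¹ * l.n)).toMonoidHom
      change Commute (_ * a * _⁻¹) (_ * l.f * _⁻¹) at h1
      rw [hfa] at h1
      exact h1.eq
    · calc (u : G)⁻¹ * l.n * l.x * ((u : G)⁻¹ * l.n)⁻¹ = (u : G)⁻¹ * (l.n * l.x * l.n⁻¹) * u := by group
        _ = (u : G)⁻¹ * l.x⁻¹ * u := by rw [hinvx]
        _ = l.x⁻¹ := by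
          rw [mul_assoc, ← (Commute.inv_right (hmemK.1 (hVK u.2) : Commute (u : G) l.x)).eq, inv_mul_cancel_left]
  have hxne : l.x ≠ l.x⁻¹ := fun h => by
    have h1 : l.x ^ 2 = 1 := by rw [pow_two]; nth_rewrite 2 [h]; exact mul_inv_cancel _
    have := Nat.le_of_dvd two_pos (orderOf_dvd_of_pow_eq_one h1)
    omega
  have hx2' : w₀ ^ 2 * l.x * (w₀ ^ 2)⁻¹ = l.x := by
    calc w₀ ^ 2 * l.x * (w₀ ^ 2)⁻¹ = w₀ * (w₀ * l.x * w₀⁻¹) * w₀⁻¹ := by rw [pow_two]; group
      _ = w₀ * l.x⁻¹ * w₀⁻¹ := by rw [hw₀x]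
      _ = (w₀ * l.x * w₀⁻¹)⁻¹ := conj_inv.symm
      _ = l.x := by rw [hw₀x, inv_inv]
  obtain ⟨q, hq, kq, hkq⟩ := two_part w₀
  set e := w₀ ^ q with hedef
  have hNA : ∀ j : ℕ, ∀ a ∈ A, w₀ ^ j * a * (w₀ ^ j)⁻¹ ∈ A := by
    intro j
    induction j with
    | zero => intro a ha; simpa using ha
    | succ j ih =>
      intro a ha
      rw [pow_succ', show w₀ * w₀ ^ j * a * (w₀ * w₀ ^ j)⁻¹ = w₀ * (w₀ ^ j * a * (w₀ ^ j)⁻¹) * w₀⁻¹ by group]
      exact hw₀A _ (ih a ha)
  have heA : ∀ a ∈ A, e * a * e⁻¹ ∈ A := hNA q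
  have hex : e * l.x * e⁻¹ = l.x⁻¹ := by
    obtain ⟨j, hj⟩ := hq
    have h1 : Commute ((w₀ ^ 2) ^ j) l.x := Commute.pow_left (mul_inv_eq_iff_eq_mul.1 hx2') j
    rw [hedef, hj, pow_succ, pow_mul]
    calc (w₀ ^ 2) ^ j * w₀ * l.x * ((w₀ ^ 2) ^ j * w₀)⁻¹
        = (w₀ ^ 2) ^ j * (w₀ * l.x * w₀⁻¹) * ((w₀ ^ 2) ^ j)⁻¹ := by group
      _ = l.x⁻¹ := by rw [hw₀x, h1.inv_right.eq, mul_inv_cancel_right]
  have heK : e ∉ K := fun h => by
    rw [hmemK.1 h, mul_inv_cancel_right] at hex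
    exact hxne hex
  have hNKA : ∀ k ∈ K, (∀ a ∈ A, k * a * k⁻¹ ∈ A) → k ∈ A := by
    intro k hk hn
    obtain ⟨v, hv, a, ha, rfl⟩ := hKdec k hk
    have h1 : v * l.f * v⁻¹ ∈ A := by
      have h := hn _ hfA
      rwa [show v * a * l.f * (v * a)⁻¹ = v * (a * l.f * a⁻¹) * v⁻¹ by group,
        (hAcomm a ha l.f hfA).eq, mul_inv_cancel_right] at h
    have h2 : v * (l.f * v⁻¹ * l.f⁻¹) ∈ V := mul_mem hv (hVnorm _ hfK _ (inv_mem hv))
    have h3 : v * (l.f * v⁻¹ * l.f⁻¹) ∈ A := by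
      rw [show v * (l.f * v⁻¹ * l.f⁻¹) = v * l.f * v⁻¹ * l.f⁻¹ by group]
      exact mul_mem h1 (inv_mem hfA)
    have h4 : v * (l.f * v⁻¹ * l.f⁻¹) = 1 :=
      eq_one_of_odd_two (odd_orderOf_mem hAodd h3) (k := 1) (by rw [pow_one, pow_two, hVsq _ h2])
    have hfnot : l.f ∉ W := fun h => by
      have := hfW' 1 (by rwa [zpow_one])
      omega
    have h5 : Commute l.f v := by
      have := eq_inv_of_mul_eq_one_right h4
      exact Commute.inv_right_iff.1 (mul_inv_eq_iff_eq_mul.1 this)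
    rw [hact _ hfA hfnot v hv h5, one_mul]
    exact ha
  have hee : e * e = 1 := by
    have hK2 : e * e ∈ K := by
      refine hmemK.2 (mul_inv_eq_iff_eq_mul.1 ?_)
      calc e * e * l.x * (e * e)⁻¹ = e * (e * l.x * e⁻¹) * e⁻¹ := by group
        _ = e * l.x⁻¹ * e⁻¹ := by rw [hex]
        _ = (e * l.x * e⁻¹)⁻¹ := conj_inv.symm
        _ = l.x := by rw [hex, inv_inv]
    have h1 : e * e ∈ A := hNKA _ hK2 fun a ha => by
      rw [show e * e * a * (e * e)⁻¹ = e * (e * a * e⁻¹) * e⁻¹ by group]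
      exact heA _ (heA _ ha)
    refine eq_one_of_odd_two (odd_orderOf_mem hAodd h1) (k := kq) ?_
    rw [Commute.mul_pow (Commute.refl e), ← hkq, pow_orderOf_eq_one, one_mul]
  have he1 : e ≠ 1 := fun h => heK (h ▸ one_mem _)
  have hinv : ∀ a ∈ A, e * a * e⁻¹ = a⁻¹ := by
    have hfix : ∀ a ∈ A, e * a * e⁻¹ = a → a = 1 := by
      intro a ha hea
      by_contra ha1
      obtain ⟨q', hq', hqd⟩ := Nat.exists_prime_and_dvd (n := orderOf a) fun h => ha1 (orderOf_eq_one_iff.1 h)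
      set z := a ^ (orderOf a / q') with hz
      have hzo : orderOf z = q' := orderOf_pow_orderOf_div (orderOf_pos a).ne' hqd
      have hzA : z ∈ A := pow_mem ha _
      have hez : Commute e z := Commute.pow_right (mul_inv_eq_iff_eq_mul.1 hea) _
      by_cases hq3 : q' = 3
      · subst hq3
        obtain ⟨r₁, hr₁, hqb⟩ := conj_prime (G := G) c.amb.hyp.1 (K := A) Nat.prime_three (by norm_num)
          hzA hxA hzo hxo
        rw [(hAcomm r₁ hr₁ z hzA).eq, mul_inv_cancel_right] at hqb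
        obtain ⟨i, hi⟩ := mem_zpowers_of_prime Nat.prime_three hzo hxo hqb
        have h1 : Commute e l.x := by rw [← show z ^ i = l.x from hi]; exact hez.zpow_right i
        exact heK (hmemK.2 h1.eq)
      · have hqodd : q' ≠ 2 := fun h => by
          have := odd_orderOf_mem hAodd hzA
          rw [hzo, h] at this
          exact absurd this (by decide)
        have hq3m : q' ∣ m := ((Nat.coprime_primes hq' Nat.prime_three).2 hq3).dvd_of_dvd_mul_left
          (hAcard ▸ hzo ▸ A.orderOf_dvd_natCard hzA)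
        have hzW : z ∈ W := mem_of_pow_eq_one hAcyc hWA hWcard hzA
          (orderOf_dvd_iff_pow_eq_one.1 (hzo.symm ▸ hq3m))
        have hqL : q' ∣ Nat.card c.L := hzo ▸ c.dvd_card_L (hWL z hzW)
        have hq4 : ¬ q' ∣ tor4 c.p := fun h4 => hqodd
          ((Nat.prime_dvd_prime_iff_eq hq' Nat.prime_two).1 (hgcd _ (hm ▸ hq3m.mul_left 2) h4))
        have heV : ∀ v ∈ V, e * v * e⁻¹ ∈ V := by
          intro v hv
          have hk : e * v * e⁻¹ ∈ K := hnormK e hex v (hVK hv)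
          obtain ⟨v', hv', a', ha', he'⟩ := hKdec _ hk
          have hsq : v' * a' * (v' * a') = 1 := by
            rw [← he']
            calc e * v * e⁻¹ * (e * v * e⁻¹) = e * (v * v) * e⁻¹ := by group
              _ = 1 := by rw [hVsq v hv]; group
          have h2 : a' * a' = (v' * (a' * v' * a'⁻¹))⁻¹ := by
            refine eq_inv_of_mul_eq_one_right ?_
            rw [← hsq]; group
          have h3 : a' = 1 := by
            have h4 : a' * a' ∈ V := h2 ▸ inv_mem (mul_mem hv' (hVnorm _ (hAK ha') _ hv'))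
            have h5 : a' * a' = 1 := eq_one_of_odd_two (odd_orderOf_mem hAodd (mul_mem ha' ha'))
              (k := 1) (by rw [pow_one, pow_two, hVsq _ h4])
            exact eq_one_of_odd_two (odd_orderOf_mem hAodd ha') (k := 1) (by rw [pow_one, pow_two, h5])
          rw [he', h3, mul_one]; exact hv'
        obtain ⟨b, hbV, hb⟩ : ∃ b ∈ V, e * b * e⁻¹ ≠ b := by
          by_contra hall
          push Not at hall
          refine heK (hVK (c.two_in_four (u := l.g) (hu := l.g_H) (huu := l.g_sq) l.g_out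
            (mul_inv_eq_iff_eq_mul.1 (hall _ (Or.inr (Or.inl rfl))))
            (mul_inv_eq_iff_eq_mul.1 (hall _ (Or.inr (Or.inr (Or.inl rfl))))) (k := 1)
            (by rw [pow_one, pow_two, hee])))
        have hjj : e * b * (e * b) = e * b * e⁻¹ * b := by
          rw [inv_eq_of_mul_eq_one_right hee]; group
        have hjV : e * b * e⁻¹ * b ∈ V := mul_mem (heV b hbV) hbV
        have hj4 : orderOf (e * b) = 4 := by
          refine orderOf_eq_prime_pow (p := 2) (n := 1) ?_ ?_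
          · rw [pow_one, pow_two, hjj]
            intro h
            exact hb (by rw [eq_inv_of_mul_eq_one_left h, inv_eq_of_mul_eq_one_right (hVsq b hbV)])
          · rw [show (2 : ℕ) ^ (1 + 1) = 2 * 2 by norm_num, pow_mul, pow_two, pow_two, hjj, hVsq _ hjV]
        exact c.no_four_prime hj4 hq' hqodd hzo
          (hez.mul_left (hVW b hbV z hzW)).eq hqL hq4
    intro a ha
    have hea : e * a * e⁻¹ ∈ A := heA a ha
    have h1 : e * (a * (e * a * e⁻¹)) * e⁻¹ = a * (e * a * e⁻¹) := by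
      calc e * (a * (e * a * e⁻¹)) * e⁻¹ = (e * a * e⁻¹) * ((e * e) * a * (e * e)⁻¹) := by group
        _ = a * (e * a * e⁻¹) := by rw [hee, one_mul, inv_one, mul_one, (hAcomm _ hea a ha).eq]
    exact eq_inv_of_mul_eq_one_right (hfix _ (mul_mem ha hea) h1)
  refine ⟨hX1, ⟨{
    e := e, w := m, W := W, A := A, three_le := hm3, odd_w := hmodd, W_le := hWA, card_W := hWcard,
    card_A := hAcard, cyclic_A := hAcyc, order_e := orderOf_two_of_sq hee he1, inverts := hinv,
    cent := hcent, normalizer_A := ?_ }, hm.symm⟩⟩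
  refine le_antisymm (fun y hy => ?_) (sup_le le_normalizer (zpowers_le.2 (mem_normalizer_fintype heA)))
  have hyA : ∀ a ∈ A, y * a * y⁻¹ ∈ A := fun a ha => (mem_normalizer_iff.1 hy a).1 ha
  have hyx : y * l.x * y⁻¹ = l.x ∨ y * l.x * y⁻¹ = l.x⁻¹ := by
    obtain ⟨r₁, hr₁, hqb⟩ := conj_prime (G := G) c.amb.hyp.1 (K := A) Nat.prime_three (by norm_num)
      (hyA _ hxA) hxA (((MulAut.conj y).orderOf_eq l.x).trans hxo) hxo
    rw [(hAcomm r₁ hr₁ _ (hyA _ hxA)).eq, mul_inv_cancel_right] at hqb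
    obtain ⟨i, hi⟩ := hqb
    have hi' : l.x ^ i = y * l.x * y⁻¹ := hi
    have h3x : l.x ^ (3 : ℤ) = 1 := by
      rw [show (3 : ℤ) = ((3 : ℕ) : ℤ) from rfl, zpow_natCast, ← hxo, pow_orderOf_eq_one]
    have hmod : l.x ^ i = l.x ^ (i % 3) := by
      conv_lhs => rw [show i = i % 3 + 3 * (i / 3) by omega, zpow_add, zpow_mul, h3x, one_zpow, mul_one]
    rw [hmod] at hi'
    rcases (by omega : i % 3 = 0 ∨ i % 3 = 1 ∨ i % 3 = 2) with h | h | h
    · exfalso
      rw [h, zpow_zero] at hi'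
      have h1 : l.x = 1 := by
        have := congrArg (fun q => y⁻¹ * q * y) hi'
        simpa [mul_assoc] using this.symm
      rw [h1, orderOf_one] at hxo; omega
    · exact Or.inl (by rw [← hi', h, zpow_one])
    · refine Or.inr ?_
      rw [← hi', h]
      exact eq_inv_of_mul_eq_one_left (by rw [← zpow_add_one]; exact h3x)
  rcases hyx with h | h
  · exact mem_sup_left (hNKA y (hmemK.2 (mul_inv_eq_iff_eq_mul.1 h)) hyA)
  · have h1 : y * e ∈ A := by
      refine hNKA _ (hmemK.2 (mul_inv_eq_iff_eq_mul.1 ?_)) fun a ha => ?_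
      · calc y * e * l.x * (y * e)⁻¹ = y * (e * l.x * e⁻¹) * y⁻¹ := by group
          _ = (y * l.x * y⁻¹)⁻¹ := by rw [hex]; group
          _ = l.x := by rw [h, inv_inv]
      · rw [show y * e * a * (y * e)⁻¹ = y * (e * a * e⁻¹) * y⁻¹ by group]
        exact hyA _ (heA a ha)
    have h2 := mul_mem (mem_sup_left (T := zpowers e) h1) (mem_sup_right (S := A) (mem_zpowers e))
    rwa [mul_assoc, hee, mul_one] at h2

end Ctx

end Cfsg.Agent.Lib.CyclicOddSylow16.SDNon
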