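import Cfsg.Agent.Lib.CyclicOddSylow16.SDNon.Cent
import Cfsg.Agent.Lib.Chars.Ops
import Cfsg.Agent.Lib.Chars.Induced
import Cfsg.Agent.Lib.Chars.Completeness

/-!
# S4069, brick SD NONSOLVABLE: the norm three system on the centraliser of `i`

When `X = 1` the centraliser `T` of `i` is abelian of order `2 * tor4 p`; the character `φ` of `T` is
trivial on `t` and non-trivial on `σ²`.
-/

set_option autoImplicit false

namespace Cfsg.Agent.Lib.CyclicOddSylow16.SDNon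

open Cfsg Cfsg.Agent.Lib Subgroup
open scoped ComplexConjugate

universe u

variable {G : Type u} [Group G] [Finite G]

namespace Ctx

variable (c : Ctx G)

/-- The centraliser of `i`. -/
def tor : Subgroup G := centralizer ({c.i} : Set G)

theorem mem_tor {a : G} : a ∈ c.tor ↔ a * c.i = c.i * a := mem_centralizer_singleton_iff

theorem i_tor : c.i ∈ c.tor := c.mem_tor.2 rfl

theorem t_tor : c.t ∈ c.tor := c.mem_tor.2 (c.L_le c.i c.i_mem).symm

theorem inH_tor {a : G} (ha : a ∈ c.tor) : c.InH a := by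
  have h := c.mem_tor.1 ha
  show a * c.t = c.t * a
  rw [← c.i_sq]
  exact (Commute.mul_right h h).eq

theorem σ_tor : c.σ ∈ c.tor := c.mem_tor.2 ((Commute.refl c.σ).pow_right _).eq

theorem mem_CL_i {a : G} : a ∈ c.CL c.i ↔ a ∈ c.L ∧ a ∈ c.tor := by rw [c.mem_CL, c.mem_tor]

theorem two_lt_i : 2 < orderOf c.i := by rw [c.orderOf_i]; norm_num

theorem torus_i : IsCyclic (c.CL c.i) ∧ Nat.card (c.CL c.i) = tor4 c.p :=
  c.torus_four c.i_mem c.two_lt_i (by rw [c.orderOf_i]; exact (tor_facts c.fp.out c.hp5).2.1)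

theorem L_of_XL (hX : ∀ z ∈ c.X, z = 1) {g : G} (hg : g ∈ c.XL) : g ∈ c.L := by
  obtain ⟨x, hx, l, hl, rfl⟩ := hg
  rw [hX x hx, one_mul]; exact hl

theorem σ_not_L : c.σ ∉ c.L := fun h => c.σ_not_XL (c.L_le_XL h)

theorem tor_div (hX : ∀ z ∈ c.X, z = 1) {a : G} (ha : a ∈ c.tor) (haL : a ∉ c.L) :
    a * c.σ⁻¹ ∈ c.CL c.i :=
  c.mem_CL_i.2 ⟨c.L_of_XL hX (c.out_mul (c.inH_tor ha) (c.inH_inv c.inH_σ)
    (fun h => haL (c.L_of_XL hX h)) (fun h => c.σ_not_XL (inv_mem_iff.1 h))),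
    mul_mem ha (inv_mem c.σ_tor)⟩

theorem σ_commute {b : G} (hb : b ∈ c.CL c.i) : Commute c.σ b := by
  have hσi : c.σ * c.i * c.σ⁻¹ = c.i := mul_inv_eq_iff_eq_mul.2 (c.mem_tor.1 c.σ_tor)
  exact mul_inv_eq_iff_eq_mul.1
    (c.fix_torus c.inH_σ c.i_mem c.two_lt_i (c.mem_CL.1 hb).1 (c.mem_CL.1 hb).2 hσi)

theorem tor_comm (hX : ∀ z ∈ c.X, z = 1) {a b : G} (ha : a ∈ c.tor) (hb : b ∈ c.tor) : Commute a b := by
  obtain ⟨hcyc, -⟩ := c.torus_i
  have hLL : ∀ x ∈ c.CL c.i, ∀ y ∈ c.CL c.i, Commute x y := fun x hx y hy =>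
    congrArg Subtype.val ((IsCyclic.commGroup (α := c.CL c.i)).mul_comm ⟨x, hx⟩ ⟨y, hy⟩)
  have key : ∀ x ∈ c.tor, Commute c.σ x ∧ ∀ y ∈ c.CL c.i, Commute x y := by
    intro x hx
    by_cases hxL : x ∈ c.L
    · exact ⟨c.σ_commute (c.mem_CL_i.2 ⟨hxL, hx⟩), hLL x (c.mem_CL_i.2 ⟨hxL, hx⟩)⟩
    · have h := c.tor_div hX hx hxL
      rw [show x = x * c.σ⁻¹ * c.σ by group]
      exact ⟨(c.σ_commute h).mul_right (Commute.refl _),
        fun y hy => (hLL _ h y hy).mul_left (c.σ_commute hy)⟩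
  by_cases hbL : b ∈ c.L
  · exact (key a ha).2 b (c.mem_CL_i.2 ⟨hbL, hb⟩)
  · rw [show b = b * c.σ⁻¹ * c.σ by group]
    exact ((key a ha).2 _ (c.tor_div hX hb hbL)).mul_right (key a ha).1.symm

theorem tor_sq (hX : ∀ z ∈ c.X, z = 1) {a : G} (ha : a ∈ c.tor) (h : a * a = 1) : a = 1 ∨ a = c.t := by
  by_cases haL : a ∈ c.L
  · exact c.eq_t_of_sq haL h
  · exfalso
    have h1 := c.out_no_four (c.inH_tor ha) (fun hm => haL (c.L_of_XL hX hm)) h (c.L_le_XL c.i_mem)
      (by rw [← c.orderOf_i, pow_orderOf_eq_one]) (c.mem_tor.1 ha)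
    rw [c.i_sq] at h1
    exact c.t_ne_one h1

theorem i_inv : c.i⁻¹ = c.t * c.i := by
  refine inv_eq_of_mul_eq_one_right ?_
  rw [← mul_assoc, ← (c.mem_tor.1 c.t_tor), mul_assoc, c.i_sq, c.t_sq]

theorem tor_four {a : G} (ha : a ∈ c.tor) (ho : orderOf a = 4) : a = c.i ∨ a = c.i⁻¹ := by
  obtain ⟨haL, haa⟩ := c.four_mem_L (c.inH_tor ha) ho
  have hci : Commute a c.i⁻¹ := Commute.inv_right (c.mem_tor.1 ha)
  have h1 : a * c.i⁻¹ * (a * c.i⁻¹) = 1 := by
    rw [Commute.mul_mul_mul_comm hci.symm, haa, ← mul_inv_rev, c.i_sq, mul_inv_cancel]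
  rcases c.eq_t_of_sq (mul_mem haL (inv_mem c.i_mem)) h1 with e | e
  · exact Or.inl (mul_inv_eq_one.1 e)
  · exact Or.inr (by rw [c.i_inv]; exact mul_inv_eq_iff_eq_mul.1 e)

/-- The trivial intersection set. -/
def torD : Set G := {d | d ∈ c.tor ∧ d ≠ 1 ∧ d ≠ c.t}

theorem cent_torD (hC : CommonStmt.{u}) (hX : ∀ z ∈ c.X, z = 1) {d : G} (hd : d ∈ c.torD) {w : G}
    (hw : w * d = d * w) : w ∈ c.tor := by
  obtain ⟨hdT, hd1, hdt⟩ := hd
  have ho : ¬ orderOf d ∣ 2 := fun h => by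
    have h2 : d * d = 1 := by rw [← pow_two]; exact orderOf_dvd_iff_pow_eq_one.1 h
    rcases c.tor_sq hX hdT h2 with e | e
    exacts [hd1 e, hdt e]
  by_cases h4 : 4 ∣ orderOf d
  · have hjo : orderOf (d ^ (orderOf d / 4)) = 4 := orderOf_pow_orderOf_div (orderOf_pos d).ne' h4
    have hwj : Commute w (d ^ (orderOf d / 4)) := Commute.pow_right hw _
    rcases c.tor_four (pow_mem hdT _) hjo with e | e <;> rw [e] at hwj
    · exact c.mem_tor.2 hwj.eq
    · exact c.mem_tor.2 (Commute.inv_right_iff.1 hwj).eq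
  · obtain ⟨r, hr, hrd, hr2⟩ : ∃ r, r.Prime ∧ r ∣ orderOf d ∧ r ≠ 2 := by
      by_contra hno
      push Not at hno
      have h := Nat.eq_prime_pow_of_unique_prime_dvd (orderOf_pos d).ne' (fun {r} hr hrd => hno r hr hrd)
      set k := (orderOf d).primeFactorsList.length
      rcases (by omega : k = 0 ∨ k = 1 ∨ 2 ≤ k) with hk | hk | hk
      · exact ho (by rw [h, hk]; norm_num)
      · exact ho (by rw [h, hk]; norm_num)
      · exact h4 (by rw [h]; exact (show (4 : ℕ) = 2 ^ 2 by norm_num) ▸ pow_dvd_pow 2 hk)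
    set z := d ^ (orderOf d / r)
    have hzo : orderOf z = r := orderOf_pow_orderOf_div (orderOf_pos d).ne' hrd
    have hzT : z ∈ c.tor := pow_mem hdT _
    have hzL : z ∈ c.L :=
      c.L_of_XL hX (c.odd_mem_XL (c.inH_tor hzT) (hzo ▸ hr.odd_of_ne_two hr2))
    have hrt : r ∣ tor4 c.p :=
      c.torus_i.2 ▸ hzo ▸ (c.CL c.i).orderOf_dvd_natCard (c.mem_CL_i.2 ⟨hzL, hzT⟩)
    have hwz : Commute w z := Commute.pow_right hw _
    have hwH := c.cent_le hC hzL hr hr2 hzo hrt (c.mem_tor.1 hzT) w hwz.eq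
    have h2z : 2 < orderOf z := by rw [hzo]; exact lt_of_le_of_ne hr.two_le hr2.symm
    exact c.mem_tor.2 (mul_inv_eq_iff_eq_mul.1
      (c.fix_torus hwH hzL h2z c.i_mem (c.mem_tor.1 hzT).symm (mul_inv_eq_iff_eq_mul.2 hwz.eq)))

theorem torD_inv {d : G} (hd : d ∈ c.torD) : d⁻¹ ∈ c.torD := by
  refine ⟨inv_mem hd.1, inv_ne_one.2 hd.2.1, fun h => hd.2.2 ?_⟩
  rw [← inv_inv d, h]
  exact inv_eq_of_mul_eq_one_right c.t_sq

theorem torD_ti (hC : CommonStmt.{u}) (hX : ∀ z ∈ c.X, z = 1) {g y : G} (hy : y ∈ c.torD)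
    (hg : g * y * g⁻¹ ∈ c.torD) : g ∈ normalizer (c.tor : Set G) := by
  rw [mem_normalizer_iff]
  intro h
  show h ∈ c.tor ↔ g * h * g⁻¹ ∈ c.tor
  constructor
  · intro hh
    refine c.cent_torD hC hX hg ?_
    rw [show g * h * g⁻¹ * (g * y * g⁻¹) = g * (h * y) * g⁻¹ by group,
      (c.tor_comm hX hh hy.1).eq]
    group
  · intro hh
    refine c.cent_torD hC hX hy ?_
    have := congrArg (fun v => g⁻¹ * v * g) (c.tor_comm hX hh hg.1).eq
    simpa [mul_assoc] using this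

theorem τ_conj_tor {a : G} (ha : a ∈ c.tor) : c.τ * a * c.τ⁻¹ ∈ c.tor := by
  refine c.mem_tor.2 ?_
  have h : Commute (c.τ * a * c.τ⁻¹) (c.τ * c.i * c.τ⁻¹) :=
    Commute.map (c.mem_tor.1 ha : Commute a c.i) (MulAut.conj c.τ).toMonoidHom
  rw [c.τ_i] at h
  exact (Commute.inv_right_iff.1 h).eq

theorem τ_normal : c.τ ∈ normalizer (c.tor : Set G) := mem_normalizer_fintype fun _ h => c.τ_conj_tor h

theorem τ_not_tor : c.τ ∉ c.tor := fun h => by
  have h1 := c.τ_i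
  rw [c.mem_tor.1 h, mul_inv_cancel_right, c.i_inv] at h1
  exact c.t_ne_one (mul_eq_right.1 h1.symm)

theorem normal_cases {w : G} (hw : w ∈ normalizer (c.tor : Set G)) :
    w ∈ c.tor ∨ w * c.τ ∈ c.tor := by
  have h1 : w * c.i * w⁻¹ ∈ c.tor := (mem_normalizer_iff.1 hw c.i).1 c.i_tor
  have ho : orderOf (w * c.i * w⁻¹) = 4 := ((MulAut.conj w).orderOf_eq c.i).trans c.orderOf_i
  rcases c.tor_four h1 ho with e | e
  · exact Or.inl (c.mem_tor.2 (mul_inv_eq_iff_eq_mul.1 e))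
  · refine Or.inr (c.mem_tor.2 (mul_inv_eq_iff_eq_mul.1 ?_))
    calc w * c.τ * c.i * (w * c.τ)⁻¹ = w * (c.τ * c.i * c.τ⁻¹) * w⁻¹ := by group
      _ = (w * c.i * w⁻¹)⁻¹ := by rw [c.τ_i, conj_inv]
      _ = c.i := by rw [e, inv_inv]

theorem τ_conj_L {a : G} (ha : a ∈ c.CL c.i) : c.τ * a * c.τ⁻¹ = a⁻¹ :=
  c.inv_torus c.inH_τ c.i_mem c.two_lt_i (c.mem_CL.1 ha).1 (c.mem_CL.1 ha).2 c.τ_i

theorem τ_conj_out (hX : ∀ z ∈ c.X, z = 1) {a : G} (ha : a ∈ c.tor) (haL : a ∉ c.L) :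
    c.τ * a * c.τ⁻¹ = a⁻¹ * c.t := by
  have hb := c.tor_div hX ha haL
  have hσ : c.τ * c.σ * c.τ⁻¹ = c.σ⁻¹ * c.t := by
    rw [c.conjτ, eq_inv_mul_iff_mul_eq, ← pow_succ', Nat.sub_add_cancel Nat.one_le_two_pow, c.ht]
  calc c.τ * a * c.τ⁻¹ = c.τ * (a * c.σ⁻¹) * c.τ⁻¹ * (c.τ * c.σ * c.τ⁻¹) := by group
    _ = (a * c.σ⁻¹)⁻¹ * (c.σ⁻¹ * c.t) := by rw [c.τ_conj_L hb, hσ]
    _ = c.σ * (a⁻¹ * c.σ⁻¹) * c.t := by group
    _ = a⁻¹ * c.t := by
      rw [(c.tor_comm hX (inv_mem ha) (inv_mem c.σ_tor)).eq, mul_inv_cancel_left]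

theorem out_conj (hX : ∀ z ∈ c.X, z = 1) {w a : G} (hw : w ∈ normalizer (c.tor : Set G))
    (hwT : w ∉ c.tor) (ha : a ∈ c.tor) : w * a * w⁻¹ = c.τ * a * c.τ⁻¹ := by
  have h := (c.normal_cases hw).resolve_left hwT
  calc w * a * w⁻¹ = w * c.τ * (c.τ⁻¹ * a * c.τ) * (w * c.τ)⁻¹ := by group
    _ = w * c.τ * (c.τ * a * c.τ⁻¹) * (w * c.τ)⁻¹ := by rw [c.τ_inv]
    _ = c.τ * a * c.τ⁻¹ := by rw [(c.tor_comm hX h (c.τ_conj_tor ha)).eq, mul_inv_cancel_right]

theorem card_tor (hX : ∀ z ∈ c.X, z = 1) : Nat.card c.tor = 2 * tor4 c.p := by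
  classical
  obtain ⟨f, hf⟩ : ∃ f : Bool × c.CL c.i → c.tor,
      f = fun q => ⟨(q.2 : G) * (if q.1 then c.σ else 1),
        mul_mem (c.mem_CL_i.1 q.2.2).2 (by split; exact c.σ_tor; exact one_mem _)⟩ := ⟨_, rfl⟩
  have hb : Function.Bijective f := by
    subst hf
    constructor
    · rintro ⟨a, x⟩ ⟨b, y⟩ h
      have h' : (x : G) * (if a then c.σ else 1) = y * (if b then c.σ else 1) := congrArg Subtype.val h
      have hne : ∀ p q : c.CL c.i, (p : G) * c.σ ≠ q := fun p q e => by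
        have hp := mul_mem (inv_mem (c.mem_CL.1 p.2).1) (c.mem_CL.1 q.2).1
        rw [← e, inv_mul_cancel_left] at hp
        exact c.σ_not_L hp
      cases a <;> cases b <;> simp at h' <;> simp_all [eq_comm]
    · rintro ⟨v, hv⟩
      by_cases h : v ∈ c.L
      · exact ⟨(false, ⟨v, c.mem_CL_i.2 ⟨h, hv⟩⟩), Subtype.ext (by simp)⟩
      · exact ⟨(true, ⟨v * c.σ⁻¹, c.tor_div hX hv h⟩), Subtype.ext (by
          show v * c.σ⁻¹ * c.σ = v; group)⟩
  rw [← Nat.card_eq_of_bijective f hb, Nat.card_prod, c.torus_i.2,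
    Nat.card_eq_fintype_card, Fintype.card_bool]

theorem card_torN :
    Nat.card (normalizer (c.tor : Set G)) = 2 * Nat.card c.tor := by
  classical
  obtain ⟨f, hf⟩ : ∃ f : Bool × c.tor → normalizer (c.tor : Set G),
      f = fun q => ⟨(q.2 : G) * (if q.1 then c.τ else 1),
        mul_mem (le_normalizer q.2.2) (by split; exact c.τ_normal; exact one_mem _)⟩ := ⟨_, rfl⟩
  have hb : Function.Bijective f := by
    subst hf
    constructor
    · rintro ⟨a, x⟩ ⟨b, y⟩ h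
      have h' : (x : G) * (if a then c.τ else 1) = y * (if b then c.τ else 1) := congrArg Subtype.val h
      have hne : ∀ p q : c.tor, (p : G) * c.τ ≠ q := fun p q e => by
        have hp := mul_mem (inv_mem p.2) q.2
        rw [← e, inv_mul_cancel_left] at hp
        exact c.τ_not_tor hp
      cases a <;> cases b <;> simp at h' <;> simp_all [eq_comm]
    · rintro ⟨v, hv⟩
      rcases c.normal_cases hv with h | h
      · exact ⟨(false, ⟨v, h⟩), Subtype.ext (by simp)⟩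
      · exact ⟨(true, ⟨v * c.τ, h⟩), Subtype.ext (by
          show v * c.τ * c.τ = v; rw [mul_assoc, c.oτ, mul_one])⟩
  rw [← Nat.card_eq_of_bijective f hb, Nat.card_prod, Nat.card_eq_fintype_card, Fintype.card_bool]

open Classical in
theorem invPairs_tor (hC : CommonStmt.{u}) (hX : ∀ z ∈ c.X, z = 1) {d : G} (hd : d ∈ c.torD) :
    invPairs d = if d ∈ c.L then tor4 c.p else 0 := by
  obtain ⟨hdT, hd1, hdt⟩ := id hd
  have key : ∀ v : G, orderOf v = 2 → orderOf (v * d) = 2 →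
      v ∈ normalizer (c.tor : Set G) ∧ v ∉ c.tor ∧ v * d * v⁻¹ = d⁻¹ := by
    intro v hv hvd
    have hv2 := mul_self_of_orderOf_two hv
    have hvd2 := mul_self_of_orderOf_two hvd
    have h1 : v * d * v⁻¹ = d⁻¹ := by
      rw [inv_eq_of_mul_eq_one_right hv2]
      exact eq_inv_of_mul_eq_one_left (by rw [mul_assoc]; exact hvd2)
    refine ⟨c.torD_ti hC hX hd (h1 ▸ c.torD_inv hd), fun hvT => ?_, h1⟩
    rw [(c.tor_comm hX hvT hdT).eq, mul_inv_cancel_right] at h1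
    have h2 : d * d = 1 := by nth_rewrite 2 [h1]; exact mul_inv_cancel d
    rcases c.tor_sq hX hdT h2 with e | e
    exacts [hd1 e, hdt e]
  have hτ2 : ∀ x ∈ c.CL c.i, orderOf (x * c.τ) = 2 := fun x hx => by
    refine orderOf_two_of_sq ?_ fun h => c.τ_not_tor ?_
    · calc x * c.τ * (x * c.τ) = x * (c.τ * x * c.τ⁻¹) * (c.τ * c.τ) := by group
        _ = 1 := by rw [c.τ_conj_L hx, c.oτ, mul_inv_cancel, mul_one]
    · rw [← eq_inv_of_mul_eq_one_right h |>.symm]
      exact inv_mem (c.mem_CL_i.1 hx).2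
  split
  · next hdL =>
    have hdC : d ∈ c.CL c.i := c.mem_CL_i.2 ⟨hdL, hdT⟩
    rw [invPairs, ← c.torus_i.2]
    refine (Nat.card_congr (Equiv.ofBijective
      (fun x : c.CL c.i => (⟨(x : G) * c.τ, hτ2 x x.2, ?_⟩ : {v : G // orderOf v = 2 ∧ orderOf (v * d) = 2}))
      ⟨fun x y h => Subtype.ext (mul_right_cancel (congrArg Subtype.val h)), ?_⟩)).symm
    · rw [show (x : G) * c.τ * d = x * (c.τ * d * c.τ⁻¹) * c.τ by group, c.τ_conj_L hdC]
      exact hτ2 _ (mul_mem x.2 (inv_mem hdC))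
    · rintro ⟨v, hv, hvd⟩
      obtain ⟨hvN, hvT, -⟩ := key v hv hvd
      have ha := (c.normal_cases hvN).resolve_left hvT
      have haL : v * c.τ ∈ c.L := by
        by_contra hno
        refine c.t_ne_one ?_
        calc c.t = v * c.τ * ((v * c.τ)⁻¹ * c.t) := (mul_inv_cancel_left _ _).symm
          _ = v * c.τ * (c.τ * (v * c.τ) * c.τ⁻¹) := by rw [c.τ_conj_out hX ha hno]
          _ = v * (c.τ * c.τ) * v := by group
          _ = 1 := by rw [c.oτ, mul_one, mul_self_of_orderOf_two hv]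
      exact ⟨⟨v * c.τ, c.mem_CL_i.2 ⟨haL, ha⟩⟩,
        Subtype.ext (by show v * c.τ * c.τ = v; rw [mul_assoc, c.oτ, mul_one])⟩
  · next hdL =>
    rw [invPairs, Nat.card_eq_zero]
    refine Or.inl ⟨fun ⟨v, hv, hvd⟩ => ?_⟩
    obtain ⟨hvN, hvT, h1⟩ := key v hv hvd
    rw [c.out_conj hX hvN hvT hdT, c.τ_conj_out hX hdT hdL, mul_eq_left] at h1
    exact c.t_ne_one h1

theorem σ_sq_tor : c.σ ^ 2 ∈ c.tor := pow_mem c.σ_tor 2

/-- A character of `T` trivial on `t` and not on `σ²`. -/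
theorem exists_char (hX : ∀ z ∈ c.X, z = 1) :
    ∃ φ : c.tor →* ℂˣ, φ ⟨c.t, c.t_tor⟩ = 1 ∧ φ ⟨c.σ ^ 2, c.σ_sq_tor⟩ ≠ 1 := by
  let _ : CommGroup c.tor :=
    { (inferInstance : Group c.tor) with mul_comm := fun a b => Subtype.ext (c.tor_comm hX a.2 b.2).eq }
  set N₀ : Subgroup c.tor := zpowers ⟨c.t, c.t_tor⟩ with hN₀
  have hne : (QuotientGroup.mk' N₀ ⟨c.σ ^ 2, c.σ_sq_tor⟩) ≠ 1 := by
    rw [QuotientGroup.mk'_apply, Ne, QuotientGroup.eq_one_iff]
    rintro ⟨k, hk⟩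
    have hk' : c.t ^ k = c.σ ^ 2 := congrArg Subtype.val hk
    have h4 : c.σ ^ 4 = 1 := by
      calc c.σ ^ 4 = c.t ^ k * c.t ^ k := by rw [hk', ← pow_add]
        _ = (c.t * c.t) ^ k := ((Commute.refl c.t).mul_zpow k).symm
        _ = 1 := by rw [c.t_sq, one_zpow]
    have h5 := Nat.le_of_dvd (by norm_num) (c.oσ ▸ orderOf_dvd_of_pow_eq_one h4)
    have h8 : 2 ^ 3 ≤ 2 ^ c.N := Nat.pow_le_pow_right (by norm_num) c.hN
    omega
  obtain ⟨ψ, hψ⟩ := CommGroup.exists_apply_ne_one_of_hasEnoughRootsOfUnity (c.tor ⧸ N₀) ℂ hne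
  refine ⟨ψ.comp (QuotientGroup.mk' N₀), ?_, hψ⟩
  rw [MonoidHom.comp_apply,
    show QuotientGroup.mk' N₀ ⟨c.t, c.t_tor⟩ = 1 from (QuotientGroup.eq_one_iff _).2 (mem_zpowers _), map_one]

/-- The function on `T`. -/
noncomputable def torMu (φ : c.tor →* ℂˣ) (y : c.tor) : ℂ := 2 - (φ y : ℂ) - (φ y⁻¹ : ℂ)

/-- The function of the system. -/
noncomputable def torTheta (φ : c.tor →* ℂˣ) (x : normalizer (c.tor : Set G)) : ℂ :=
  extendByZero c.tor (c.torMu φ) x

theorem torTheta_gen (hX : ∀ z ∈ c.X, z = 1) {φ : c.tor →* ℂˣ} (hφt : φ ⟨c.t, c.t_tor⟩ = 1) :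
    IsGeneralizedCharacter (normalizer (c.tor : Set G)) (c.torTheta φ) := by
  classical
  let := Fintype.ofFinite (normalizer (c.tor : Set G))
  have hTN : c.tor ≤ normalizer (c.tor : Set G) := le_normalizer
  let M : Subgroup (normalizer (c.tor : Set G)) := c.tor.subgroupOf _
  let l : M →* ℂˣ := φ.comp (subgroupOfEquivOfLe hTN).toMonoidHom
  let μ : M → ℂ := (fun _ => 1) - fun x => (l x : ℂ)
  have hgen : IsGeneralizedCharacter (normalizer (c.tor : Set G)) (indFun M μ) := by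
    rw [Chars.indFun_sub]
    exact Chars.isGeneralizedCharacter_sub
      (Chars.isGeneralizedCharacter_of_isCharacter
        (Chars.isCharacter_indFun M (Chars.irr_isCharacter (Chars.trivialIrr M))))
      (Chars.isGeneralizedCharacter_of_isCharacter (Chars.isCharacter_indFun M (Chars.isCharacter_hom l)))
  convert hgen using 1
  funext x
  have hterm : ∀ y : normalizer (c.tor : Set G), extendByZero M μ (y⁻¹ * x * y) =
      if hx : (x : G) ∈ c.tor then
        (if (y : G) ∈ c.tor then 1 - (φ ⟨x, hx⟩ : ℂ) else 1 - (φ (⟨x, hx⟩⁻¹) : ℂ)) else 0 := by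
    intro y
    by_cases hx : (x : G) ∈ c.tor
    · rw [dif_pos hx]
      by_cases hy : (y : G) ∈ c.tor
      · rw [if_pos hy]
        have hyx : y⁻¹ * x * y = x := Subtype.ext (by
          show (y : G)⁻¹ * x * y = x
          rw [mul_assoc, (c.tor_comm hX hx hy).eq, inv_mul_cancel_left])
        rw [hyx, Chars.extendByZero_of_mem _ (show x ∈ M from mem_subgroupOf.2 hx)]
        rfl
      · rw [if_neg hy]
        have hval : ((y⁻¹ * x * y : normalizer (c.tor : Set G)) : G) = c.τ * x * c.τ⁻¹ := by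
          show (y : G)⁻¹ * x * y = _
          have h := c.out_conj hX (inv_mem y.2) (fun h => hy (inv_mem_iff.1 h)) hx
          rwa [inv_inv] at h
        rw [Chars.extendByZero_of_mem _ (show y⁻¹ * x * y ∈ M from mem_subgroupOf.2 (by
          rw [hval]; exact c.τ_conj_tor hx))]
        show (1 : ℂ) - (φ ⟨_, _⟩ : ℂ) = _
        congr 2
        by_cases hxL : (x : G) ∈ c.L
        · refine congrArg φ (Subtype.ext ?_)
          exact hval.trans (c.τ_conj_L (c.mem_CL_i.2 ⟨hxL, hx⟩))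
        · refine (congrArg φ (Subtype.ext ?_ : _ = (⟨x, hx⟩ : c.tor)⁻¹ * ⟨c.t, c.t_tor⟩)).trans
            (by rw [map_mul, hφt, mul_one])
          exact hval.trans (c.τ_conj_out hX hx hxL)
    · rw [dif_neg hx, Chars.extendByZero_of_not_mem]
      intro h
      have h' : (y : G)⁻¹ * x * y ∈ c.tor := mem_subgroupOf.1 h
      apply hx
      have h'' := ((mem_normalizer_iff.1 y.2) _).1 h'
      simpa [mul_assoc] using h''
  have hM : Nat.card M = Nat.card c.tor := Nat.card_congr (subgroupOfEquivOfLe hTN).toEquiv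
  have hM0 : (Nat.card M : ℂ) ≠ 0 := Nat.cast_ne_zero.mpr Nat.card_pos.ne'
  simp only [indFun, hterm]
  by_cases hx : (x : G) ∈ c.tor
  · simp only [dif_pos hx]
    rw [Finset.sum_ite, Finset.sum_const, Finset.sum_const, nsmul_eq_mul, nsmul_eq_mul]
    have hin : (Finset.univ.filter fun y : normalizer (c.tor : Set G) => (y : G) ∈ c.tor).card = Nat.card M := by
      rw [Nat.card_eq_fintype_card, Fintype.card_subtype]
      congr 1
    have hout : (Finset.univ.filter fun y : normalizer (c.tor : Set G) => ¬ (y : G) ∈ c.tor).card =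
        Nat.card M := by
      have h := Finset.card_filter_add_card_filter_not (s := (Finset.univ : Finset (normalizer (c.tor : Set G))))
        (fun y => (y : G) ∈ c.tor)
      rw [hin, Finset.card_univ, ← Nat.card_eq_fintype_card, c.card_torN, ← hM] at h
      omega
    rw [hin, hout, ← mul_add, ← mul_assoc, inv_mul_cancel₀ hM0, one_mul, torTheta,
      Chars.extendByZero_of_mem _ hx, torMu]
    ring
  · simp only [dif_neg hx, Finset.sum_const_zero, mul_zero]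
    rw [torTheta, Chars.extendByZero_of_not_mem _ hx]

theorem sum_normalizer [Fintype (normalizer (c.tor : Set G))] [Fintype c.tor] (F : G → ℂ)
    (hF : ∀ g, g ∉ c.tor → F g = 0) :
    ∑ x : normalizer (c.tor : Set G), F x = ∑ y : c.tor, F y :=
  (Fintype.sum_of_injective (Subgroup.inclusion le_normalizer) (Subgroup.inclusion_injective _) _ _
    (fun x hx => hF _ fun h => hx ⟨⟨x, h⟩, rfl⟩) fun _ => rfl).symm

theorem sum_char {K : Type u} [Group K] [Fintype K] (f : K →* ℂˣ) {k : K} (hk : f k ≠ 1) :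
    ∑ y : K, (f y : ℂ) = 0 := by
  refine sum_hom_units_eq_zero ((Units.coeHom ℂ).comp f) fun h => hk (Units.ext ?_)
  exact DFunLike.congr_fun h k

theorem sum_char_inv {K : Type u} [Group K] [Fintype K] (f : K →* ℂˣ) {k : K} (hk : f k ≠ 1) :
    ∑ y : K, (f y⁻¹ : ℂ) = 0 := by
  rw [← sum_char f hk]
  exact Fintype.sum_equiv (Equiv.inv K) _ _ fun y => by simp

theorem conj_char {φ : c.tor →* ℂˣ} (y : c.tor) : conj (φ y : ℂ) = (φ y⁻¹ : ℂ) := by
  rw [map_inv, Units.val_inv_eq_inv_val, Complex.inv_def, Complex.normSq_eq_norm_sq, Chars.norm_hom_apply]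
  simp

theorem conj_torMu {φ : c.tor →* ℂˣ} (y : c.tor) : conj (c.torMu φ y) = c.torMu φ y := by
  rw [torMu, map_sub, map_sub, map_ofNat, c.conj_char, c.conj_char, inv_inv]
  ring

/-- The system. -/
noncomputable def torSys [Fintype G] (hC : CommonStmt.{u}) (hX : ∀ z ∈ c.X, z = 1) (φ : c.tor →* ℂˣ)
    (hφt : φ ⟨c.t, c.t_tor⟩ = 1) (hφs : φ ⟨c.σ ^ 2, c.σ_sq_tor⟩ ≠ 1) : Sys G c.t where
  N := normalizer (c.tor : Set G)
  fN := Fintype.ofFinite _
  D := c.torD
  θ := c.torTheta φ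
  gen := c.torTheta_gen hX hφt
  supp x hx := by
    have hxT : (x : G) ∈ c.tor := by
      by_contra h
      exact hx (Chars.extendByZero_of_not_mem _ h)
    have h2 : ∀ y : c.tor, φ y = 1 → φ y⁻¹ = 1 → c.torMu φ y = 0 := fun y h h' => by
      rw [torMu, h, h', Units.val_one]; ring
    rw [torTheta, Chars.extendByZero_of_mem _ hxT] at hx
    refine ⟨hxT, fun h => hx ?_, fun h => hx ?_⟩
    · have : (⟨x, hxT⟩ : c.tor) = 1 := Subtype.ext h
      exact h2 _ (by rw [this, map_one]) (by rw [this, inv_one, map_one])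
    · have : (⟨x, hxT⟩ : c.tor) = ⟨c.t, c.t_tor⟩ := Subtype.ext h
      exact h2 _ (by rw [this, hφt]) (by rw [this, map_inv, hφt, inv_one])
  ti g y hy hg := c.torD_ti hC hX hy hg
  one := by
    rw [torTheta, OneMemClass.coe_one, Chars.extendByZero_of_mem _ (one_mem c.tor), torMu,
      show (⟨_, one_mem c.tor⟩ : c.tor) = 1 from rfl, inv_one, map_one, Units.val_one]
    ring
  norm := by
    classical
    let := Fintype.ofFinite (normalizer (c.tor : Set G))
    let := Fintype.ofFinite c.tor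
    have hT : (Nat.card c.tor : ℂ) ≠ 0 := Nat.cast_ne_zero.mpr Nat.card_pos.ne'
    have hsum : ∑ x : normalizer (c.tor : Set G), c.torTheta φ x * conj (c.torTheta φ x) =
        6 * (Nat.card c.tor : ℂ) := by
      rw [show (∑ x : normalizer (c.tor : Set G), c.torTheta φ x * conj (c.torTheta φ x)) =
        ∑ y : c.tor, extendByZero c.tor (c.torMu φ) (y : G) * conj (extendByZero c.tor (c.torMu φ) (y : G))
        from c.sum_normalizer (fun g => extendByZero c.tor (c.torMu φ) g *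
          conj (extendByZero c.tor (c.torMu φ) g))
          fun g hg => by rw [Chars.extendByZero_of_not_mem _ hg, zero_mul]]
      have hq : ∀ y : c.tor, extendByZero c.tor (c.torMu φ) (y : G) * conj (extendByZero c.tor (c.torMu φ) (y : G))
          = 6 + ((φ * φ) y : ℂ) + ((φ * φ) y⁻¹ : ℂ) - 4 * (φ y : ℂ) - 4 * (φ y⁻¹ : ℂ) := fun y => by
        have hinv : (φ y : ℂ) * (φ y⁻¹ : ℂ) = 1 := by
          rw [← Units.val_mul, ← map_mul, mul_inv_cancel, map_one, Units.val_one]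
        rw [Chars.extendByZero_coe, c.conj_torMu, torMu, MonoidHom.mul_apply, MonoidHom.mul_apply,
          Units.val_mul, Units.val_mul]
        linear_combination 2 * hinv
      have hs : φ ⟨c.σ, c.σ_tor⟩ * φ ⟨c.σ, c.σ_tor⟩ ≠ 1 := by
        rw [← map_mul, show (⟨c.σ, c.σ_tor⟩ : c.tor) * ⟨c.σ, c.σ_tor⟩ = ⟨c.σ ^ 2, c.σ_sq_tor⟩ from
          Subtype.ext (pow_two c.σ).symm]
        exact hφs
      rw [Finset.sum_congr rfl fun y _ => hq y, Finset.sum_sub_distrib, Finset.sum_sub_distrib,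
        Finset.sum_add_distrib, Finset.sum_add_distrib, ← Finset.mul_sum, ← Finset.mul_sum,
        sum_char (φ * φ) (k := ⟨c.σ, c.σ_tor⟩) hs, sum_char_inv (φ * φ) (k := ⟨c.σ, c.σ_tor⟩) hs,
        sum_char φ hφs, sum_char_inv φ hφs, Finset.sum_const, Finset.card_univ, ← Nat.card_eq_fintype_card,
        nsmul_eq_mul]
      ring
    rw [classInner, hsum, c.card_torN]
    push_cast
    field_simp
    norm_num
  triv := by
    classical
    let := Fintype.ofFinite (normalizer (c.tor : Set G))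
    let := Fintype.ofFinite c.tor
    have hT : (Nat.card c.tor : ℂ) ≠ 0 := Nat.cast_ne_zero.mpr Nat.card_pos.ne'
    have hsum : ∑ x : normalizer (c.tor : Set G), c.torTheta φ x = 2 * (Nat.card c.tor : ℂ) := by
      rw [show (∑ x : normalizer (c.tor : Set G), c.torTheta φ x) =
        ∑ y : c.tor, extendByZero c.tor (c.torMu φ) (y : G)
        from c.sum_normalizer (fun g => extendByZero c.tor (c.torMu φ) g)
          fun g hg => Chars.extendByZero_of_not_mem _ hg]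
      simp only [Chars.extendByZero_coe, torMu]
      rw [Finset.sum_sub_distrib, Finset.sum_sub_distrib, sum_char φ hφs, sum_char_inv φ hφs,
        Finset.sum_const, Finset.card_univ, ← Nat.card_eq_fintype_card, nsmul_eq_mul]
      ring
    simp only [classInner, map_one, mul_one]
    rw [hsum, c.card_torN]
    push_cast
    field_simp
  off g h := by
    refine h.2.2 ((c.tor_sq hX h.1 ?_).resolve_left h.2.1)
    calc g * c.t * g⁻¹ * (g * c.t * g⁻¹) = g * (c.t * c.t) * g⁻¹ := by group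
      _ = 1 := by rw [c.t_sq]; group

theorem count_torSys [Fintype G] (hC : CommonStmt.{u}) (hX : ∀ z ∈ c.X, z = 1) (φ : c.tor →* ℂˣ)
    (hφt : φ ⟨c.t, c.t_tor⟩ = 1) (hφs : φ ⟨c.σ ^ 2, c.σ_sq_tor⟩ ≠ 1) :
    (c.torSys hC hX φ hφt hφs).count = ((tor4 c.p / 2 : ℕ) : ℂ) := by
  classical
  let := Fintype.ofFinite (normalizer (c.tor : Set G))
  let := Fintype.ofFinite c.tor
  let := Fintype.ofFinite (c.CL c.i)
  obtain ⟨k, hk⟩ : ∃ k, tor4 c.p = 2 * k :=
    (dvd_trans (by norm_num) (tor_facts c.fp.out c.hp5).2.1 : 2 ∣ tor4 c.p)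
  have hk0 : (k : ℂ) ≠ 0 := Nat.cast_ne_zero.2 fun h => by
    have h1 := c.torus_i.2
    have h2 : 0 < Nat.card (c.CL c.i) := Nat.card_pos
    omega
  show (Nat.card (normalizer (c.tor : Set G)) : ℂ)⁻¹ *
    ∑ᶠ x : normalizer (c.tor : Set G), (invPairs (x : G) : ℂ) * c.torTheta φ x = _
  have hterm : ∀ g : G, (invPairs g : ℂ) * extendByZero c.tor (c.torMu φ) g =
      if g ∈ c.CL c.i then (tor4 c.p : ℂ) * extendByZero c.tor (c.torMu φ) g else 0 := by
    intro g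
    by_cases hg : g ∈ c.tor
    · by_cases hD : g ∈ c.torD
      · rw [c.invPairs_tor hC hX hD]
        by_cases hL : g ∈ c.L
        · rw [if_pos hL, if_pos (c.mem_CL_i.2 ⟨hL, hg⟩)]
        · rw [if_neg hL, if_neg fun h => hL (c.mem_CL.1 h).1]; simp
      · have h0 : extendByZero c.tor (c.torMu φ) g = 0 := by
          by_contra h
          exact hD ((c.torSys hC hX φ hφt hφs).supp ⟨g, le_normalizer hg⟩ h)
        simp [h0]
    · rw [Chars.extendByZero_of_not_mem _ hg]; simp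
  have hsum : ∑ x : normalizer (c.tor : Set G), (invPairs (x : G) : ℂ) * c.torTheta φ x =
      (tor4 c.p : ℂ) * (2 * tor4 c.p) := by
    rw [show (∑ x : normalizer (c.tor : Set G), (invPairs (x : G) : ℂ) * c.torTheta φ x) =
      ∑ y : c.tor, if (y : G) ∈ c.CL c.i then
        (tor4 c.p : ℂ) * extendByZero c.tor (c.torMu φ) (y : G) else 0
      from (Finset.sum_congr rfl fun x _ => hterm _).trans (c.sum_normalizer (fun g =>
        if g ∈ c.CL c.i then (tor4 c.p : ℂ) * extendByZero c.tor (c.torMu φ) g else 0)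
        fun g hg => if_neg fun h => hg (c.mem_CL_i.1 h).2)]
    have hle : c.CL c.i ≤ c.tor := fun a ha => (c.mem_CL_i.1 ha).2
    rw [← Fintype.sum_of_injective (Subgroup.inclusion hle) (Subgroup.inclusion_injective _)
      (fun z : c.CL c.i => (tor4 c.p : ℂ) * c.torMu φ (Subgroup.inclusion hle z)) _
      (fun y hy => if_neg fun h => hy ⟨⟨y, h⟩, rfl⟩)
      (fun z => by
        rw [if_pos (show ((Subgroup.inclusion hle z : c.tor) : G) ∈ c.CL c.i from z.2),
          Chars.extendByZero_coe])]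
    set f : c.CL c.i →* ℂˣ := φ.comp (Subgroup.inclusion hle) with hf
    have hfs : f ⟨c.σ ^ 2, c.mem_CL_i.2 ⟨c.σ_sq_mem, c.σ_sq_tor⟩⟩ ≠ 1 := hφs
    rw [← Finset.mul_sum]
    congr 1
    simp only [torMu]
    rw [Finset.sum_sub_distrib, Finset.sum_sub_distrib,
      show (∑ z : c.CL c.i, (φ (Subgroup.inclusion hle z) : ℂ)) = 0 from sum_char f hfs,
      show (∑ z : c.CL c.i, (φ (Subgroup.inclusion hle z)⁻¹ : ℂ)) = 0 from sum_char_inv f hfs,
      Finset.sum_const, Finset.card_univ, ← Nat.card_eq_fintype_card, c.torus_i.2, nsmul_eq_mul]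
    ring
  rw [finsum_eq_sum_of_fintype, hsum, c.card_torN, c.card_tor hX, hk,
    Nat.mul_div_cancel_left _ two_pos]
  push_cast
  field_simp

end Ctx

end Cfsg.Agent.Lib.CyclicOddSylow16.SDNon
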